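import Cfsg.Agent.Lib.Structure80.UniqueSylowFixed
import Cfsg.Agent.Lib.Characters.ItoMichlerPSolvable
import Cfsg.Agent.Lib.Characters.Ito
import Cfsg.Agent.Lib.Characters.Counting
import Cfsg.Agent.Lib.Characters.Scalar
import Cfsg.Agent.Lib.CharCorr.InvariantLayer
import Cfsg.Agent.Lib.CrossDegrees.Basic
import Cfsg.Agent.Lib.OddOrder.CliffordInd
import Cfsg.Agent.Lib.PrimRecog.Basic
import Cfsg.Agent.S0856

/-!
The three primes theorem for the character degrees of a soluble group.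
-/

set_option autoImplicit false
set_option linter.style.haveILetI false
set_option linter.unusedSectionVars false
set_option linter.unusedFintypeInType false

namespace CfsgLib.Palfy80

open Cfsg MulAction
open CfsgLib.Characters
open scoped commutatorElement

universe u

variable {G : Type u} [Group G] [Finite G]

/-- Some irreducible degree is a multiple of `m`. -/
def DegDvd (m : ℕ) (G : Type u) [Group G] : Prop :=
  ∃ χ : IrrCharacter G, m ∣ charDegree (χ : G → ℂ)

theorem degDvd_of_surjective {H : Type u} [Group H] {m : ℕ} (f : G →* H)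
    (hf : Function.Surjective f) (h : DegDvd m H) : DegDvd m G := by
  obtain ⟨φ, hφ⟩ := h
  refine ⟨⟨_, Clifford.isIrrCharacter_pullback φ.2 f hf⟩, ?_⟩
  simpa [charDegree] using hφ

theorem degDvd_of_normal {m : ℕ} (N : Subgroup G) [N.Normal] (h : DegDvd m N) : DegDvd m G := by
  obtain ⟨θ, hθ⟩ := h
  obtain ⟨χ, hχ⟩ := ItoMichler.exists_degree_dvd N θ
  exact ⟨χ, hθ.trans hχ⟩

theorem not_degDvd_of_abelian {p : ℕ} (A : Subgroup G) [hA : A.Normal]
    (hab : ∀ x ∈ A, ∀ y ∈ A, x * y = y * x) (hidx : ¬ p ∣ A.index) : ¬ DegDvd p G := by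
  rintro ⟨χ, hχ⟩
  obtain ⟨d, hd, hdvd⟩ := CharIto.degree_dvd_index_of_abelian_normal χ.2 A hA hab
  rw [CharCorr.irr_one_eq_charDegree, Nat.cast_inj] at hd
  exact hidx ((hd ▸ hχ).trans hdvd)

theorem sylow_of_not_degDvd [Group.IsSolvable G] {p : ℕ} [Fact p.Prime] (h : ¬ DegDvd p G)
    (P : Sylow p G) :
    (P : Subgroup G).Normal ∧ ∀ x ∈ (P : Subgroup G), ∀ y ∈ (P : Subgroup G), x * y = y * x := by
  have hdeg : ∀ χ : IrrCharacter G, ¬ p ∣ charDegree (χ : G → ℂ) := fun χ hχ => h ⟨χ, hχ⟩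
  have hP := ItoMichler.normal_sylow PCore.isPSolvable_of_isSolvable hdeg P
  exact ⟨hP, ItoMichler.comm_of_normal_pgroup hdeg (P : Subgroup G) P.isPGroup'⟩

/-- A normal Sylow subgroup is inside every subgroup of index prime to it. -/
theorem sylow_le_of_not_dvd_index {p : ℕ} [Fact p.Prime] (P : Sylow p G)
    [hP : (P : Subgroup G).Normal] (T : Subgroup G) (hT : ¬ p ∣ T.index) : (P : Subgroup G) ≤ T := by
  haveI := P.unique_of_normal hP
  exact le_of_not_dvd_index P ⊥ T bot_le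
    (fun g => ⟨1, Subgroup.one_mem _, Subsingleton.elim _ _⟩) hT

/-- Conjugation on the homomorphisms of a normal subgroup into the units. -/
@[reducible] noncomputable def homAction (H : Subgroup G) [H.Normal] :
    MulDistribMulAction G (H →* ℂˣ) where
  smul g μ := μ.comp (MulAut.conjNormal g⁻¹).toMonoidHom
  one_smul μ := MonoidHom.ext fun n => by
    show μ (MulAut.conjNormal (1 : G)⁻¹ n) = μ n
    simp
  mul_smul g k μ := MonoidHom.ext fun n => by
    show μ (MulAut.conjNormal (g * k)⁻¹ n) = μ (MulAut.conjNormal k⁻¹ (MulAut.conjNormal g⁻¹ n))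
    simp
  smul_mul g μ ν := MonoidHom.ext fun n => rfl
  smul_one g := MonoidHom.ext fun n => rfl

attribute [local instance] homAction

theorem hom_smul_apply (H : Subgroup G) [H.Normal] (g : G) (μ : H →* ℂˣ) (n n' : H)
    (hn : (n' : G) = g⁻¹ * n * g) : (g • μ) n = μ n' := by
  show μ (MulAut.conjNormal g⁻¹ n) = μ n'
  congr 1
  refine Subtype.ext ?_
  rw [MulAut.conjNormal_apply, hn, inv_inv]

theorem hom_smul_subgroup_apply (H K : Subgroup G) [H.Normal] (k : K) (μ : H →* ℂˣ) (n n' : H)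
    (hn : (n' : G) = (k : G)⁻¹ * n * k) : (k • μ) n = μ n' :=
  hom_smul_apply H (k : G) μ n n' hn

theorem stabilizer_eq_inertia (H K : Subgroup G) [hH : H.Normal] (μ : H →* ℂˣ) :
    stabilizer K μ =
      (Clifford.inertia hH (fun n : H => (μ n : ℂ))).subgroupOf K := by
  ext k
  rw [Subgroup.mem_subgroupOf, Clifford.mem_inertia, mem_stabilizer_iff]
  constructor
  · intro h n
    have h1 := DFunLike.congr_fun h (⟨k * n * (k : G)⁻¹, hH.conj_mem n n.2 k⟩ : H)
    rw [hom_smul_subgroup_apply H K k μ _ n (by simp [mul_assoc])] at h1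
    rw [← h1]
  · intro h
    refine MonoidHom.ext fun n => Units.ext ?_
    let n' : H := ⟨(k : G)⁻¹ * n * k, by simpa using hH.conj_mem n n.2 (k : G)⁻¹⟩
    rw [hom_smul_subgroup_apply H K k μ n n' rfl, ← h n']
    exact congrArg (fun m => (μ m : ℂ)) (Subtype.ext (by simp [n', mul_assoc]))

theorem hom_smul_mul {H K : Subgroup G} [H.Normal] (k : K) (μ ν : H →* ℂˣ) :
    k • (μ * ν) = (k • μ) * (k • ν) := MonoidHom.ext fun _ => rfl

theorem hom_smul_div {H K : Subgroup G} [H.Normal] (k : K) (μ ν : H →* ℂˣ) :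
    k • (μ / ν) = (k • μ) / (k • ν) := MonoidHom.ext fun _ => rfl

theorem hom_smul_prod {H K : Subgroup G} [H.Normal] {ι : Type u} [Fintype ι] (k : K)
    (f : ι → (H →* ℂˣ)) : k • (∏ i, f i) = ∏ i, k • f i :=
  map_prod (MulDistribMulAction.toMonoidHom (H →* ℂˣ) k) f Finset.univ

theorem card_hom (X : Type u) [Group X] [Finite X] :
    Nat.card (X →* ℂˣ) = (commutator X).index := by
  rw [Nat.card_congr (Abelianization.lift (G := X) (A := ℂˣ))]
  haveI : NeZero (Monoid.exponent (Abelianization X) : ℂ) :=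
    ⟨Nat.cast_ne_zero.mpr Monoid.exponent_ne_zero_of_finite⟩
  rw [CommGroup.card_monoidHom_of_hasEnoughRootsOfUnity (Abelianization X) ℂ,
    Subgroup.index_eq_card]
  rfl

instance finite_hom (X : Type u) [Group X] [Finite X] : Finite (X →* ℂˣ) :=
  Nat.finite_of_card_ne_zero (by rw [card_hom]; exact Subgroup.index_ne_zero_of_finite)

theorem exists_hom_ne {X : Type u} [Group X] [Finite X] {g : X} (hg : g ∉ commutator X) :
    ∃ μ : X →* ℂˣ, μ g ≠ 1 := by
  haveI : NeZero (Monoid.exponent (Abelianization X) : ℂ) :=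
    ⟨Nat.cast_ne_zero.mpr Monoid.exponent_ne_zero_of_finite⟩
  obtain ⟨φ, hφ⟩ := CommGroup.exists_apply_ne_one_of_hasEnoughRootsOfUnity (Abelianization X) ℂ
    (show Abelianization.of g ≠ 1 from fun e => hg ((QuotientGroup.eq_one_iff g).mp e))
  exact ⟨φ.comp Abelianization.of, hφ⟩

theorem commutator_eq_bot {H : Subgroup G} (hab : ∀ x ∈ H, ∀ y ∈ H, x * y = y * x) :
    commutator H = ⊥ := by
  rw [commutator_def, Subgroup.commutator_eq_bot_iff_le_centralizer]
  exact fun x _ => Subgroup.mem_centralizer_iff.mpr fun y _ =>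
    Subtype.ext (hab y y.2 x x.2)

/-- An operator fixing all homomorphisms of an abelian normal subgroup centralizes it. -/
theorem centralizes_of_fix (H K : Subgroup G) [hH : H.Normal]
    (hab : ∀ x ∈ H, ∀ y ∈ H, x * y = y * x) (k : K) (hk : k ∈ actKer K (H →* ℂˣ))
    {n : G} (hn : n ∈ H) : (k : G)⁻¹ * n * k = n := by
  by_contra h
  have hm : (k : G)⁻¹ * n * k ∈ H := by simpa using hH.conj_mem n hn (k : G)⁻¹
  obtain ⟨μ, hμ⟩ := exists_hom_ne (X := H) (g := ⟨_, hm⟩ * (⟨n, hn⟩ : H)⁻¹) (by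
    rw [commutator_eq_bot hab, Subgroup.mem_bot, mul_inv_eq_one]
    exact fun e => h (congrArg Subtype.val e))
  refine hμ ?_
  have h1 := DFunLike.congr_fun (hk μ) (⟨n, hn⟩ : H)
  rw [hom_smul_subgroup_apply H K k μ ⟨n, hn⟩ ⟨_, hm⟩ rfl] at h1
  rw [map_mul, map_inv, h1, mul_inv_cancel]

/-- A minimal normal subgroup of a soluble group is elementary abelian. -/
theorem elementary_of_minimal [Group.IsSolvable G] (N : Subgroup G) [hN : N.Normal] (hN1 : N ≠ ⊥)
    (hmin : ∀ M : Subgroup G, M.Normal → M ≤ N → M = ⊥ ∨ M = N) :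
    ∃ s : ℕ, s.Prime ∧ IsPGroup s N ∧ (∀ n ∈ N, n ^ s = 1) ∧ ∀ x ∈ N, ∀ y ∈ N, x * y = y * x := by
  haveI : Nontrivial N := N.nontrivial_iff_ne_bot.mpr hN1
  have hcom : ⁅N, N⁆ = ⊥ := by
    refine (hmin _ (Subgroup.commutator_normal N N) N.commutator_le_self).resolve_right
      fun e => ?_
    have h1 : (commutator N).map N.subtype = N := by rw [Subgroup.map_subtype_commutator]; exact e
    have h2 := congrArg (fun M => Subgroup.comap N.subtype M) h1
    simp only [Subgroup.comap_map_eq_self_of_injective N.subtype_injective] at h2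
    exact (Group.IsSolvable.commutator_lt_top_of_nontrivial (G := N)).ne
      (h2.trans (Subgroup.subgroupOf_self N))
  have hab : ∀ x ∈ N, ∀ y ∈ N, x * y = y * x := fun x hx y hy => by
    have := Subgroup.commutator_mem_commutator hx hy
    rw [hcom, Subgroup.mem_bot] at this
    exact commutatorElement_eq_one_iff_mul_comm.mp this
  obtain ⟨s, hs, hsd⟩ := Nat.exists_prime_and_dvd (n := Nat.card N)
    (fun e => hN1 (Subgroup.card_eq_one.mp e))
  haveI := Fact.mk hs
  obtain ⟨x, hx⟩ := exists_prime_orderOf_dvd_card' s hsd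
  let M : Subgroup G :=
    { carrier := {n | n ∈ N ∧ n ^ s = 1}
      one_mem' := ⟨N.one_mem, one_pow s⟩
      mul_mem' := fun {u v} hu hv => ⟨N.mul_mem hu.1 hv.1, by
        rw [Commute.mul_pow (hab u hu.1 v hv.1), hu.2, hv.2, one_mul]⟩
      inv_mem' := fun {u} hu => ⟨N.inv_mem hu.1, by rw [inv_pow, hu.2, inv_one]⟩ }
  have hM : M.Normal := ⟨fun n hn g => ⟨hN.conj_mem n hn.1 g, by
    rw [conj_pow, hn.2, mul_one, mul_inv_cancel]⟩⟩
  have hMN : M = N := by
    refine (hmin M hM fun n hn => hn.1).resolve_left fun e => ?_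
    have h1 : (x : G) ∈ M := ⟨x.2, by
      rw [← Subgroup.coe_pow, ← hx, pow_orderOf_eq_one, Subgroup.coe_one]⟩
    rw [e, Subgroup.mem_bot] at h1
    rw [show x = 1 from Subtype.ext h1, orderOf_one] at hx
    exact hs.ne_one hx.symm
  have hexp : ∀ n ∈ N, n ^ s = 1 := fun n hn => (show n ∈ M by rw [hMN]; exact hn).2
  exact ⟨s, hs, fun n => ⟨1, Subtype.ext (by simpa using hexp n n.2)⟩, hexp, hab⟩

/-- A complement gives a retraction. -/
theorem exists_retraction (H K : Subgroup G) [H.Normal] (hd : H ⊓ K = ⊥) (hs : K ⊔ H = ⊤) :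
    ∃ π : G →* K, (∀ k : K, π k = k) ∧ ∀ g : G, g * ((π g : K) : G)⁻¹ ∈ H := by
  let f : K →* G ⧸ H := (QuotientGroup.mk' H).comp K.subtype
  have hf : Function.Bijective f := by
    refine ⟨(injective_iff_map_eq_one f).mpr fun k hk => ?_, fun q => ?_⟩
    · have h1 : (k : G) ∈ H ⊓ K := ⟨(QuotientGroup.eq_one_iff _).mp hk, k.2⟩
      rw [hd, Subgroup.mem_bot] at h1
      exact Subtype.ext h1
    · obtain ⟨g, rfl⟩ := QuotientGroup.mk_surjective q
      obtain ⟨k, hk, h, hh, rfl⟩ := Subgroup.mem_sup_of_normal_right.mp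
        (show g ∈ K ⊔ H by rw [hs]; trivial)
      exact ⟨⟨k, hk⟩, QuotientGroup.eq.mpr (by simpa using hh)⟩
  let e := MulEquiv.ofBijective f hf
  refine ⟨e.symm.toMonoidHom.comp (QuotientGroup.mk' H), fun k => e.symm_apply_apply k, fun g => ?_⟩
  have h1 : ((e.symm (g : G ⧸ H) : K) : G ⧸ H) = g := e.apply_symm_apply _
  have h2 := (QuotientGroup.eq_iff_div_mem.mp h1.symm)
  simpa [div_eq_mul_inv] using h2

/-- Degrees over an extendible character of a complemented normal subgroup. -/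
theorem exists_degree_over (H K : Subgroup G) [hH : H.Normal] (π : G →* K) (hd : H ⊓ K = ⊥)
    (hπ : ∀ k : K, π k = k) (hπH : ∀ g : G, g * ((π g : K) : G)⁻¹ ∈ H)
    (θ : IrrCharacter H) (T : Subgroup G) (hT : T = Clifford.inertia hH (θ : H → ℂ))
    (hHT : H ≤ T) (χ₀ : IrrCharacter T)
    (hext : ∀ n : H, (χ₀ : T → ℂ) (Subgroup.inclusion hHT n) = (θ : H → ℂ) n)
    (β₀ : IrrCharacter (T.subgroupOf K)) :
    ∃ χ : IrrCharacter G, charDegree (χ : G → ℂ) = (T.subgroupOf K).index *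
        charDegree (β₀ : T.subgroupOf K → ℂ) * charDegree (θ : H → ℂ) := by
  classical
  haveI := Fintype.ofFinite G
  haveI : Fintype H := Fintype.ofFinite _
  haveI : Fintype T := Fintype.ofFinite _
  have hker : ∀ h : H, π h = 1 := fun h => Subtype.ext (by
    have h1 := hπH h
    have h2 : ((π h : K) : G) ∈ H := by
      simpa using H.inv_mem ((H.mul_mem_cancel_left h.2).mp h1)
    have h3 : ((π h : K) : G) ∈ H ⊓ K := ⟨h2, (π h).2⟩
    rw [hd, Subgroup.mem_bot] at h3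
    rw [h3, Subgroup.coe_one])
  have hcomap : T = (T.subgroupOf K).comap π := by
    ext g
    rw [Subgroup.mem_comap, Subgroup.mem_subgroupOf]
    constructor
    · intro hg
      have := T.mul_mem (T.inv_mem (hHT (hπH g))) hg
      simpa [mul_assoc] using this
    · intro hg
      have := T.mul_mem (hHT (hπH g)) hg
      simpa [mul_assoc] using this
  let q : T →* T.subgroupOf K := (π.comp T.subtype).codRestrict (T.subgroupOf K) fun t => by
    exact Subgroup.mem_comap.mp (hcomap.le t.2)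
  have hq : Function.Surjective q := fun k => ⟨⟨(k : K), k.2⟩, Subtype.ext (hπ k)⟩
  let β : IrrCharacter T := ⟨_, Clifford.isIrrCharacter_pullback β₀.2 q hq⟩
  let H' : Subgroup T := H.subgroupOf T
  haveI hH' : H'.Normal := hH.subgroupOf T
  haveI : Fintype H' := Fintype.ofFinite _
  let e : H' ≃* H := Subgroup.subgroupOfEquivOfLe hHT
  let θ' : IrrCharacter H' :=
    ⟨_, Clifford.isIrrCharacter_pullback θ.2 e.toMonoidHom e.surjective⟩
  let one' : IrrCharacter H' := linearIrr 1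
  have hβH : ∀ n : H', (β : T → ℂ) n = (β : T → ℂ) 1 := fun n => by
    show (β₀ : T.subgroupOf K → ℂ) (q n) = (β₀ : T.subgroupOf K → ℂ) (q 1)
    rw [map_one]
    have h1 : q (n : T) = 1 := Subtype.ext (hker ⟨((n : T) : G), n.2⟩)
    rw [h1]
  have hθinv : ∀ (g : T) (n : H'), (θ' : H' → ℂ) ⟨g * n * g⁻¹, hH'.conj_mem (n : T) n.2 g⟩ =
      (θ' : H' → ℂ) n := fun g n => Clifford.mem_inertia.mp (hT.le g.2) (e n)
  have hbij := Cfsg.Agent.S0856.result H' (one' : H' → ℂ) (θ' : H' → ℂ) one'.2 θ'.2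
    (fun g n => by simp [one', linearIrr]) hθinv
    (by
      have : (one' : H' → ℂ) * (θ' : H' → ℂ) = θ' := funext fun n => by simp [one', linearIrr]
      rw [this]; exact θ'.2)
    (χ₀ : T → ℂ) χ₀.2 (fun n => by
      show _ = (θ : H → ℂ) (e n)
      rw [← hext (e n)]
      rfl)
  have hmem := hbij.mapsTo (x := (β : T → ℂ)) ⟨β.2, by
    rw [CfsgLib.Induction.classInner_indFun H' _ (irr_isClassFunction β),
      show (fun h : H' => (β : T → ℂ) h) = (β : T → ℂ) 1 • (one' : H' → ℂ) from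
        funext fun n => by simp [hβH n, one', linearIrr],
      classInner_smul_right, classInner_irr_self one'.2, mul_one]
    simpa using irr_one_ne_zero β⟩
  have hψ : IsIrrCharacter T ((β : T → ℂ) * (χ₀ : T → ℂ)) := hmem.1
  have hres : classInner (fun n : H => ((β : T → ℂ) * (χ₀ : T → ℂ)) (Subgroup.inclusion hHT n))
      (θ : H → ℂ) ≠ 0 := by
    rw [show (fun n : H => ((β : T → ℂ) * (χ₀ : T → ℂ)) (Subgroup.inclusion hHT n)) =
        (β : T → ℂ) 1 • (θ : H → ℂ) from funext fun n => by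
      rw [Pi.mul_apply, Pi.smul_apply, hext n, smul_eq_mul,
        hβH ⟨Subgroup.inclusion hHT n, n.2⟩],
      classInner_smul_left, classInner_irr_self θ.2, mul_one]
    exact irr_one_ne_zero β
  have hind := (OddOrder.CliffordInd.indFun_of_inertia hH θ.2 T hT hHT hψ hres).1
  refine ⟨⟨_, hind⟩, LinearTwist.charDegree_eq_of_apply_one ?_⟩
  show indFun T ((β : T → ℂ) * (χ₀ : T → ℂ)) 1 = _
  rw [CfsgLib.Induction.indFun_one_apply, Pi.mul_apply,
    show T.index = (T.subgroupOf K).index by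
      conv_lhs => rw [hcomap]
      exact Subgroup.index_comap_of_surjective _ fun k => ⟨k, hπ k⟩,
    show (χ₀ : T → ℂ) 1 = (θ : H → ℂ) 1 by rw [← hext 1, map_one],
    show (β : T → ℂ) 1 = (β₀ : T.subgroupOf K → ℂ) 1 from congrArg _ q.map_one,
    CharCorr.irr_one_eq_charDegree, CharCorr.irr_one_eq_charDegree]
  push_cast
  ring

/-- A subgroup of index prime to `a` with no degree divisible by `a`. -/
theorem exists_sylow_of_subgroup [Group.IsSolvable G] {a : ℕ} [Fact a.Prime] (T : Subgroup G)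
    (hidx : ¬ a ∣ T.index) (hdeg : ¬ DegDvd a T) :
    ∃ P : Sylow a G, (P : Subgroup G) ≤ T ∧
      T ≤ Subgroup.normalizer ((P : Subgroup G) : Set G) ∧
      ∀ x ∈ (P : Subgroup G), ∀ y ∈ (P : Subgroup G), x * y = y * x := by
  obtain ⟨R⟩ : Nonempty (Sylow a T) := inferInstance
  obtain ⟨hRn, hRab⟩ := sylow_of_not_degDvd hdeg R
  have hcard : Nat.card ((R : Subgroup T).map T.subtype) = a ^ (Nat.card G).factorization a := by
    rw [Subgroup.card_map_of_injective T.subtype_injective, R.card_eq_multiplicity]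
    congr 1
    rw [← T.card_mul_index, Nat.factorization_mul Nat.card_pos.ne' Subgroup.index_ne_zero_of_finite,
      Finsupp.add_apply, Nat.factorization_eq_zero_of_not_dvd hidx, add_zero]
  refine ⟨Sylow.ofCard _ hcard, ?_, ?_, ?_⟩ <;> rw [Sylow.coe_ofCard]
  · exact Subgroup.map_subtype_le _
  · intro t ht
    refine Subgroup.mem_normalizer_iff.mpr fun n => ⟨?_, ?_⟩
    · rintro ⟨x, hx, rfl⟩
      exact ⟨⟨t, ht⟩ * x * ⟨t, ht⟩⁻¹, hRn.conj_mem x hx _, by simp⟩
    · rintro ⟨x, hx, hxn⟩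
      refine ⟨⟨t, ht⟩⁻¹ * x * ⟨t, ht⟩, ?_, ?_⟩
      · exact (show (⟨t, ht⟩⁻¹ * x * ⟨t, ht⟩ : T) ∈ (R : Subgroup T) by simpa using hRn.conj_mem x hx (⟨t, ht⟩ : T)⁻¹)
      · simp only [Subgroup.coe_subtype] at hxn ⊢
        simp [hxn, mul_assoc]
  · rintro _ ⟨x, hx, rfl⟩ _ ⟨y, hy, rfl⟩
    rw [← map_mul, ← map_mul, hRab x hx y hy]

theorem index_eq_card_of_retraction (H K : Subgroup G) (π : G →* K) (hd : H ⊓ K = ⊥)
    (hπ : ∀ k : K, π k = k) (hπH : ∀ g : G, g * ((π g : K) : G)⁻¹ ∈ H) :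
    H.index = Nat.card K := by
  have hker : H = π.ker := by
    refine le_antisymm (fun h hh => ?_) fun g hg => ?_
    · have h1 : ((π h : K) : G) ∈ H ⊓ K := ⟨by
        simpa using H.inv_mem ((H.mul_mem_cancel_left hh).mp (hπH h)), (π h).2⟩
      rw [hd, Subgroup.mem_bot] at h1
      exact Subtype.ext h1
    · have := hπH g
      rwa [MonoidHom.mem_ker.mp hg, Subgroup.coe_one, inv_one, mul_one] at this
  rw [hker, Subgroup.index_ker, (MonoidHom.range_eq_top (f := π)).mpr (fun k => ⟨k, hπ k⟩), Subgroup.card_top]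

theorem exists_ext_coprime (H : Subgroup G) [hH : H.Normal] (θ : IrrCharacter H) (T : Subgroup G)
    (hT : T = Clifford.inertia hH (θ : H → ℂ)) (hHT : H ≤ T)
    (hcop : (Nat.card H).Coprime H.index) :
    ∃ χ₀ : IrrCharacter T,
      ∀ n : H, (χ₀ : T → ℂ) (Subgroup.inclusion hHT n) = (θ : H → ℂ) n := by
  classical
  let H' : Subgroup T := H.subgroupOf T
  haveI hH' : H'.Normal := hH.subgroupOf T
  haveI : Fintype H' := Fintype.ofFinite _
  let e : H' ≃* H := Subgroup.subgroupOfEquivOfLe hHT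
  let θ' : IrrCharacter H' :=
    ⟨_, Clifford.isIrrCharacter_pullback θ.2 e.toMonoidHom e.surjective⟩
  have hc : Nat.Coprime H'.index (Nat.card H') := by
    rw [Nat.card_congr e.toEquiv]
    exact hcop.symm.coprime_dvd_left ⟨T.index, (Subgroup.relIndex_mul_index hHT).symm⟩
  obtain ⟨χ, hχ⟩ := CrossDegrees.exists_extension H' hc θ'
    fun g n => Clifford.mem_inertia.mp (hT.le g.2) (e n)
  exact ⟨χ, fun n => hχ (e.symm n)⟩

theorem exists_ext_linear (H K : Subgroup G) [hH : H.Normal] (π : G →* K) (hd : H ⊓ K = ⊥)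
    (_hπ : ∀ k : K, π k = k) (hπH : ∀ g : G, g * ((π g : K) : G)⁻¹ ∈ H) (μ : H →* ℂˣ)
    (T : Subgroup G) (hT : T = Clifford.inertia hH (fun n : H => (μ n : ℂ))) (hHT : H ≤ T) :
    ∃ χ₀ : IrrCharacter T, ∀ n : H, (χ₀ : T → ℂ) (Subgroup.inclusion hHT n) = (μ n : ℂ) := by
  let c : G → H := fun g => ⟨g * ((π g : K) : G)⁻¹, hπH g⟩
  have hπT : ∀ t ∈ T, ((π t : K) : G) ∈ T := fun t ht => by
    simpa [mul_assoc] using T.mul_mem (T.inv_mem (hHT (hπH t))) ht
  have hc : ∀ t ∈ T, ∀ u : G, μ (c (t * u)) = μ (c t) * μ (c u) := by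
    intro t ht u
    have h1 := Clifford.mem_inertia.mp (hT.le (hπT t ht)) (c u)
    rw [← Units.ext h1, ← map_mul]
    exact congrArg μ (Subtype.ext (by simp [c, mul_assoc]))
  let f : T →* ℂˣ :=
    { toFun := fun t => μ (c t)
      map_one' := by
        rw [show c ((1 : T) : G) = 1 from Subtype.ext (by simp [c]), map_one]
      map_mul' := fun t u => by
        rw [Subgroup.coe_mul, hc t t.2 u] }
  refine ⟨linearIrr f, fun n => ?_⟩
  show ((μ (c (n : G)) : ℂˣ) : ℂ) = μ n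
  have h1 : ((π (n : G) : K) : G) ∈ H := by
    simpa using H.inv_mem ((H.mul_mem_cancel_left n.2).mp (hπH n))
  have h2 : ((π (n : G) : K) : G) = 1 := by
    by_contra hne
    exact hne (Subgroup.mem_bot.mp (hd.le ⟨h1, (π (n : G)).2⟩))
  congr 2
  exact Subtype.ext (by simp [c, h2])

/-- A prime dividing the degrees over a character separates. -/
theorem fix_of_dvd [Group.IsSolvable G] (H K : Subgroup G) [hH : H.Normal] (π : G →* K)
    (hd : H ⊓ K = ⊥) (hπ : ∀ k : K, π k = k) (hπH : ∀ g : G, g * ((π g : K) : G)⁻¹ ∈ H)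
    (θ : IrrCharacter H) (T : Subgroup G) (hT : T = Clifford.inertia hH (θ : H → ℂ))
    (hHT : H ≤ T) (χ₀ : IrrCharacter T)
    (hext : ∀ n : H, (χ₀ : T → ℂ) (Subgroup.inclusion hHT n) = (θ : H → ℂ) n)
    {q a : ℕ} (hqp : q.Prime) [ha : Fact a.Prime] (hqa : q ≠ a) (hno : ¬ DegDvd (q * a) G)
    (hq : q ∣ (T.subgroupOf K).index * charDegree (θ : H → ℂ)) :
    ∃ P : Sylow a K, (P : Subgroup K) ≤ T.subgroupOf K ∧
      T.subgroupOf K ≤ Subgroup.normalizer ((P : Subgroup K) : Set K) ∧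
      ∀ x ∈ (P : Subgroup K), ∀ y ∈ (P : Subgroup K), x * y = y * x := by
  have key : ∀ β : IrrCharacter (T.subgroupOf K),
      ¬ a ∣ (T.subgroupOf K).index * charDegree (β : T.subgroupOf K → ℂ) := by
    intro β hβ
    obtain ⟨χ, hχ⟩ := exists_degree_over H K π hd hπ hπH θ T hT hHT χ₀ hext β
    refine hno ⟨χ, ((Nat.coprime_primes hqp ha.out).mpr hqa).mul_dvd_of_dvd_of_dvd ?_ ?_⟩
    · rw [hχ, mul_right_comm]
      exact hq.mul_right _
    · rw [hχ]
      exact hβ.mul_right _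
  refine exists_sylow_of_subgroup _ (fun h => key (linearIrr 1) (h.mul_right _)) ?_
  rintro ⟨β, hβ⟩
  exact key β (hβ.mul_left _)

/-- Three primes dividing degrees, no two of them dividing a common one. -/
structure Triple (G : Type u) [Group G] (l a b : ℕ) : Prop where
  hl : l.Prime
  ha : a.Prime
  hb : b.Prime
  hla : l ≠ a
  hlb : l ≠ b
  hab : a ≠ b
  dl : DegDvd l G
  da : DegDvd a G
  db : DegDvd b G
  nla : ¬ DegDvd (l * a) G
  nlb : ¬ DegDvd (l * b) G
  nab : ¬ DegDvd (a * b) G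

theorem Triple.swap {l a b : ℕ} (h : Triple G l a b) : Triple G l b a :=
  ⟨h.hl, h.hb, h.ha, h.hlb, h.hla, h.hab.symm, h.dl, h.db, h.da, h.nlb, h.nla,
    by rw [mul_comm]; exact h.nab⟩

theorem Triple.rot {l a b : ℕ} (h : Triple G l a b) : Triple G a b l :=
  ⟨h.ha, h.hb, h.hl, h.hab, h.hla.symm, h.hlb.symm, h.da, h.db, h.dl, h.nab,
    by rw [mul_comm]; exact h.nla, by rw [mul_comm]; exact h.nlb⟩

/-- An operator group normal in a complement and centralizing an abelian kernel. -/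
theorem false_of_normal_centralizing (N K : Subgroup G) [N.Normal] (π : G →* K)
    (hπ : ∀ k : K, π k = k) (hπH : ∀ g : G, g * ((π g : K) : G)⁻¹ ∈ N)
    (hNab : ∀ x ∈ N, ∀ y ∈ N, x * y = y * x) {a : ℕ} [Fact a.Prime] (A : Sylow a K)
    (hA : (A : Subgroup K).Normal)
    (hAab : ∀ x ∈ (A : Subgroup K), ∀ y ∈ (A : Subgroup K), x * y = y * x)
    (hAN : ∀ x ∈ (A : Subgroup K), ∀ n ∈ N, (x : G)⁻¹ * n * x = n) : ¬ DegDvd a G := by
  haveI : ((A : Subgroup K).comap π).Normal := hA.comap π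
  refine not_degDvd_of_abelian ((A : Subgroup K).comap π) (fun g hg h hh => ?_) ?_
  · obtain ⟨n, hn, hgn⟩ : ∃ n ∈ N, g = n * ((π g : K) : G) := ⟨_, hπH g, by simp⟩
    obtain ⟨m, hm, hhm⟩ : ∃ m ∈ N, h = m * ((π h : K) : G) := ⟨_, hπH h, by simp⟩
    have c1 : Commute ((π g : K) : G) m := by
      have := hAN _ hg m hm
      rw [mul_assoc, inv_mul_eq_iff_eq_mul] at this
      exact this.symm
    have c2 : Commute ((π h : K) : G) n := by
      have := hAN _ hh n hn
      rw [mul_assoc, inv_mul_eq_iff_eq_mul] at this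
      exact this.symm
    have c3 : Commute ((π g : K) : G) ((π h : K) : G) :=
      congrArg Subtype.val (hAab _ hg _ hh)
    have c4 : Commute n m := hNab n hn m hm
    rw [hgn, hhm]
    exact ((c4.mul_right c2.symm).mul_left (c1.mul_right c3))
  · rw [Subgroup.index_comap_of_surjective (f := π) _ (fun k => ⟨k, hπ k⟩)]
    exact A.not_dvd_index

/-- The case of a quotient losing a prime different from the characteristic of the kernel. -/
theorem case_one [Group.IsSolvable G] (N : Subgroup G) [hN : N.Normal] (hN1 : N ≠ ⊥)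
    (hmin : ∀ M : Subgroup G, M.Normal → M ≤ N → M = ⊥ ∨ M = N) {s : ℕ} [hs : Fact s.Prime]
    (hNp : IsPGroup s N) (hexp : ∀ n ∈ N, n ^ s = 1)
    (hNab : ∀ x ∈ N, ∀ y ∈ N, x * y = y * x) {l a b : ℕ} (h : Triple G l a b) (hls : l ≠ s)
    (hQ : ¬ DegDvd l (G ⧸ N)) : False := by
  classical
  haveI := Fact.mk h.hl
  haveI := Fact.mk h.ha
  haveI := Fact.mk h.hb
  obtain ⟨Q⟩ : Nonempty (Sylow l G) := inferInstance
  have hsurj := QuotientGroup.mk'_surjective N
  obtain ⟨hQn, hQab⟩ := sylow_of_not_degDvd hQ (Q.mapSurjective hsurj)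
  rw [Sylow.coe_mapSurjective] at hQn hQab
  have hdisj : Disjoint (Q : Subgroup G) N := IsPGroup.disjoint_of_ne l s hls _ _ Q.isPGroup' hNp
  have hQcomm : ∀ x ∈ (Q : Subgroup G), ∀ y ∈ (Q : Subgroup G), x * y = y * x := by
    intro x hx y hy
    have h1 : x * y * x⁻¹ * y⁻¹ ∈ N := by
      have e := hQab _ ⟨x, hx, rfl⟩ _ ⟨y, hy, rfl⟩
      refine (QuotientGroup.eq_one_iff _).mp ?_
      show QuotientGroup.mk' N (x * y * x⁻¹ * y⁻¹) = 1
      rw [map_mul, map_mul, map_mul, e, map_inv, map_inv, mul_inv_cancel_right, mul_inv_cancel]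
    have h2 := Subgroup.disjoint_def.mp hdisj ((Q : Subgroup G).mul_mem ((Q : Subgroup G).mul_mem
      ((Q : Subgroup G).mul_mem hx hy) ((Q : Subgroup G).inv_mem hx))
      ((Q : Subgroup G).inv_mem hy)) h1
    exact mul_inv_eq_iff_eq_mul.mp (mul_inv_eq_one.mp h2)
  have hnQ : ¬ (Q : Subgroup G).Normal := fun hn => by
    haveI := hn
    exact not_degDvd_of_abelian (Q : Subgroup G) hQcomm Q.not_dvd_index h.dl
  set K : Subgroup G := Subgroup.normalizer ((Q : Subgroup G) : Set G) with hK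
  have hKN : K ⊔ N = ⊤ := by
    have hM : ((Q : Subgroup G) ⊔ N).Normal := by
      have := hQn.comap (QuotientGroup.mk' N)
      rwa [Subgroup.comap_map_eq, QuotientGroup.ker_mk'] at this
    have h1 := Sylow.normalizer_sup_eq_top
      (Q.subtype (le_sup_left : (Q : Subgroup G) ≤ (Q : Subgroup G) ⊔ N))
    rw [Sylow.coe_subtype, Subgroup.subgroupOf_map_subtype, inf_of_le_left le_sup_left] at h1
    rw [eq_top_iff, ← h1]
    exact sup_le le_sup_left (sup_le (Subgroup.le_normalizer.trans le_sup_left) le_sup_right)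
  have hcent : ∀ n ∈ N ⊓ K, ∀ x ∈ (Q : Subgroup G), n * x = x * n := by
    intro n hn x hx
    have h1 : n * x * n⁻¹ * x⁻¹ ∈ (Q : Subgroup G) :=
      (Q : Subgroup G).mul_mem ((Subgroup.mem_normalizer_iff.mp hn.2 x).mp hx)
        ((Q : Subgroup G).inv_mem hx)
    have h2 : n * x * n⁻¹ * x⁻¹ ∈ N := by
      rw [show n * x * n⁻¹ * x⁻¹ = n * (x * n⁻¹ * x⁻¹) by group]
      exact N.mul_mem hn.1 (hN.conj_mem _ (N.inv_mem hn.1) x)
    exact mul_inv_eq_iff_eq_mul.mp (mul_inv_eq_one.mp (Subgroup.disjoint_def.mp hdisj h1 h2))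
  have hNK' : ¬ N ≤ K := fun hle => hnQ (Subgroup.normalizer_eq_top_iff.mp (by
    rw [sup_of_le_left hle] at hKN; exact hKN))
  have hd : N ⊓ K = ⊥ := by
    refine (hmin _ ⟨fun n hn g => ?_⟩ inf_le_left).resolve_right fun e => hNK' (e ▸ inf_le_right)
    obtain ⟨k, hk, m, hm, rfl⟩ := Subgroup.mem_sup_of_normal_right.mp
      (show g ∈ K ⊔ N by rw [hKN]; trivial)
    rw [show k * m * n * (k * m)⁻¹ = k * (m * n * m⁻¹) * k⁻¹ by group, hNab m hm n hn.1,
      mul_inv_cancel_right]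
    exact ⟨hN.conj_mem n hn.1 k, K.mul_mem (K.mul_mem hk hn.2) (K.inv_mem hk)⟩
  obtain ⟨π, hπ, hπH⟩ := exists_retraction N K hd hKN
  letI : MulDistribMulAction G (N →* ℂˣ) := homAction N
  haveI : IsMulCommutative N := ⟨⟨fun x y => Subtype.ext (hNab x x.2 y y.2)⟩⟩
  let QK : Sylow l K := Q.subtype Subgroup.le_normalizer
  haveI hQK : (QK : Subgroup K).Normal := by
    rw [Sylow.coe_subtype]
    exact Subgroup.normal_in_normalizer
  have hmemQK : ∀ {x : K}, x ∈ (QK : Subgroup K) ↔ (x : G) ∈ (Q : Subgroup G) := by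
    intro x
    rw [Sylow.coe_subtype, Subgroup.mem_subgroupOf]
  have hnofix : ∀ μ : N →* ℂˣ, (QK : Subgroup K) ≤ stabilizer K μ → μ = 1 := by
    intro μ hμ
    let L : Subgroup G :=
      { carrier := {n | ∃ hn : n ∈ N, ∀ ν : N →* ℂˣ, (QK : Subgroup K) ≤ stabilizer K ν →
          ν ⟨n, hn⟩ = 1}
        one_mem' := ⟨N.one_mem, fun ν _ => ν.map_one⟩
        mul_mem' := fun {x y} ⟨hx, hx'⟩ ⟨hy, hy'⟩ => ⟨N.mul_mem hx hy, fun ν hν => by
          rw [show (⟨x * y, N.mul_mem hx hy⟩ : N) = ⟨x, hx⟩ * ⟨y, hy⟩ from rfl, map_mul, hx' ν hν,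
            hy' ν hν, one_mul]⟩
        inv_mem' := fun {x} ⟨hx, hx'⟩ => ⟨N.inv_mem hx, fun ν hν => by
          rw [show (⟨x⁻¹, N.inv_mem hx⟩ : N) = ⟨x, hx⟩⁻¹ from rfl, map_inv, hx' ν hν, inv_one]⟩ }
    have hL : L.Normal := ⟨fun n hn g => by
      obtain ⟨hnN, hn'⟩ := hn
      refine ⟨hN.conj_mem n hnN g, fun ν hν => ?_⟩
      obtain ⟨k, hk, m, hm, rfl⟩ := Subgroup.mem_sup_of_normal_right.mp
        (show g ∈ K ⊔ N by rw [hKN]; trivial)
      have h1 : (QK : Subgroup K) ≤ stabilizer K ((⟨k, hk⟩ : K)⁻¹ • ν) := fun x hx => by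
        have h2 := hν (hQK.conj_mem x hx ⟨k, hk⟩)
        rw [mem_stabilizer_iff, mul_smul, mul_smul] at h2
        rw [mem_stabilizer_iff, eq_inv_smul_iff]
        exact h2
      have h3 := hn' _ h1
      rw [hom_smul_subgroup_apply N K _ ν ⟨n, hnN⟩
        ⟨k * m * n * (k * m)⁻¹, hN.conj_mem n hnN _⟩ (by
          simp only [Subgroup.coe_inv, inv_inv]
          rw [show k * m * n * (k * m)⁻¹ = k * (m * n * m⁻¹) * k⁻¹ by group, hNab m hm n hnN,
            mul_inv_cancel_right])] at h3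
      exact h3⟩
    rcases hmin L hL (fun n hn => hn.1) with hLb | hLt
    · exfalso
      apply hNK'
      intro n hn
      refine Subgroup.mem_normalizer_iff.mpr fun x => ?_
      have hq : ∀ q ∈ (Q : Subgroup G), q⁻¹ * n * q = n := by
        intro q hq
        by_contra hne
        have hm : q⁻¹ * n * q ∈ N := by simpa using hN.conj_mem n hn q⁻¹
        have h1 : q⁻¹ * n * q * n⁻¹ ∈ L := ⟨N.mul_mem hm (N.inv_mem hn), fun ν hν => by
          have h2 := DFunLike.congr_fun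
            (hν (hmemQK.mpr (show ((⟨q, Subgroup.le_normalizer hq⟩ : K) : G) ∈ _ from hq)) :
              (⟨q, Subgroup.le_normalizer hq⟩ : K) • ν = ν) ⟨n, hn⟩
          rw [hom_smul_subgroup_apply N K _ ν ⟨n, hn⟩ ⟨_, hm⟩ rfl] at h2
          show ν (⟨_, hm⟩ * ⟨n, hn⟩⁻¹) = 1
          rw [map_mul, map_inv, h2, mul_inv_cancel]⟩
        rw [hLb, Subgroup.mem_bot, mul_inv_eq_one] at h1
        exact hne h1
      constructor
      · intro hx
        have := hq x hx
        rw [mul_assoc, inv_mul_eq_iff_eq_mul] at this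
        rw [this, mul_inv_cancel_right]
        exact hx
      · intro hx
        have := hq _ hx
        rw [mul_assoc, inv_mul_eq_iff_eq_mul] at this
        have e : n * x * n⁻¹ = x := by
          have h4 : n * (n * x * n⁻¹) = n * x := by rw [this]; group
          exact mul_left_cancel h4
        rwa [e] at hx
    · refine MonoidHom.ext fun n => ?_
      obtain ⟨hn, hn'⟩ := (show (n : G) ∈ L by rw [hLt]; exact n.2)
      exact hn' μ hμ
  have hfix : ∀ {p : ℕ} [Fact p.Prime], l ≠ p → ¬ DegDvd (l * p) G → SylowFix K (N →* ℂˣ) p := by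
    intro p _ hlp hno μ hμ
    have hstab := stabilizer_eq_inertia N K μ
    rw [hstab]
    have hHT : N ≤ Clifford.inertia hN (fun n : N => (μ n : ℂ)) :=
      Clifford.le_inertia hN (irr_isClassFunction (linearIrr μ))
    obtain ⟨χ₀, hext⟩ := exists_ext_linear N K π hd hπ hπH μ _ rfl hHT
    refine fix_of_dvd N K π hd hπ hπH (linearIrr μ) _ rfl hHT χ₀ hext h.hl hlp hno ?_
    refine Dvd.dvd.mul_right ?_ _
    by_contra hl
    refine hμ (hnofix μ ?_)
    rw [hstab]
    exact sylow_le_of_not_dvd_index QK _ hl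
  have hA := hfix (p := a) h.hla h.nla
  have hB := hfix (p := b) h.hlb h.nlb
  haveI : Nontrivial (N →* ℂˣ) := Finite.one_lt_card_iff_nontrivial.mp (by
    rw [card_hom, commutator_eq_bot hNab, Subgroup.index_bot]
    exact N.one_lt_card_iff_ne_bot.mpr hN1)
  have hW : ∀ μ : N →* ℂˣ, μ ^ s = 1 := fun μ => MonoidHom.ext fun n => by
    rw [MonoidHom.pow_apply, ← map_pow, show n ^ s = 1 from Subtype.ext (hexp n n.2), map_one,
      MonoidHom.one_apply]
  have hdeg : ∀ χ : IrrCharacter K, ¬ a * b ∣ charDegree (χ : K → ℂ) := fun χ hχ =>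
    h.nab (degDvd_of_surjective π (fun k => ⟨k, hπ k⟩) ⟨χ, hχ⟩)
  have final : ∀ {p : ℕ} [Fact p.Prime], SylowFix K (N →* ℂˣ) p →
      (∀ P : Sylow p K, (P : Subgroup K).Normal) → ¬ DegDvd p G := by
    intro p _ hP hall
    obtain ⟨μ, hμ⟩ := exists_ne (1 : N →* ℂˣ)
    obtain ⟨P, -, -, hPab⟩ := hP μ hμ
    haveI := hall P
    haveI := P.unique_of_normal (hall P)
    refine false_of_normal_centralizing N K π hπ hπH hNab P (hall P) hPab fun x hx n hn => ?_
    refine centralizes_of_fix N K hNab x (fun ν => ?_) hn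
    rcases eq_or_ne ν 1 with rfl | hν
    · exact MonoidHom.ext fun m => rfl
    · obtain ⟨R, hR, -, -⟩ := hP ν hν
      rw [Subsingleton.elim R P] at hR
      exact hR hx
  rcases normal_or_normal h.hab hW hA hB hdeg with hn | hn
  · exact final hA hn h.da
  · exact final hB hn h.db

/-- Central elements multiply the values of an irreducible character by a scalar. -/
theorem exists_central_scalar {S : Type u} [Group S] [Finite S] (θ : IrrCharacter S) (z : S)
    (hz : z ∈ Subgroup.center S) :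
    ∃ c : ℂ, c ≠ 0 ∧ ∀ g : S, (θ : S → ℂ) (z * g) = c * (θ : S → ℂ) g := by
  have h0 := irr_one_ne_zero θ
  obtain ⟨n, ρ, hρ, hθ⟩ := θ.2
  replace hθ := hθ.symm
  haveI := hρ
  obtain ⟨c, hc⟩ := CharScalar.center_scalar ρ hz
  have key : ∀ g : S, (θ : S → ℂ) (z * g) = c * (θ : S → ℂ) g := fun g => by
    rw [hθ]
    show LinearMap.trace ℂ _ (ρ (z * g)) = c * LinearMap.trace ℂ _ (ρ g)
    rw [map_mul, hc, smul_mul_assoc, one_mul, map_smul, smul_eq_mul]
  refine ⟨c, fun e => h0 ?_, key⟩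
  have := key z⁻¹
  rwa [mul_inv_cancel, e, zero_mul] at this

/-- An element fixing the commutator of a vector fixes the vector, in coprime order. -/
theorem smul_eq_of_smul_div {K : Type u} [Group K] {W : Type u} [CommGroup W]
    [MulDistribMulAction K W] (x : K) (w : W) (hpow : ∀ u : W, u ^ orderOf x = 1 → u = 1)
    (e : x • (x • w / w) = x • w / w) : x • w = w := by
  have key : ∀ j : ℕ, x ^ j • w = w * (x • w / w) ^ j := by
    intro j
    induction j with
    | zero => simp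
    | succ j ih =>
      rw [pow_succ', mul_smul, ih, smul_mul', smul_pow', e, pow_succ', ← mul_assoc,
        mul_div_cancel]
  have h1 := key (orderOf x)
  rw [pow_orderOf_eq_one, one_smul, eq_comm, mul_eq_left] at h1
  exact div_eq_one.mp (hpow _ h1)

/-- A prime dividing a degree divides a degree of a normal subgroup of index prime to it. -/
theorem degDvd_normal [Group.IsSolvable G] {p : ℕ} [Fact p.Prime] (M : Subgroup G) [hM : M.Normal]
    (hidx : ¬ p ∣ M.index) (h : DegDvd p G) : DegDvd p M := by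
  by_contra hno
  obtain ⟨P⟩ : Nonempty (Sylow p M) := inferInstance
  obtain ⟨hP, hab⟩ := sylow_of_not_degDvd hno P
  have hn : ((P : Subgroup M).map M.subtype).Normal := by
    haveI := P.characteristic_of_normal hP
    exact ConjAct.normal_of_characteristic_of_normal
  refine not_degDvd_of_abelian ((P : Subgroup M).map M.subtype) ?_ ?_ h
  · rintro _ ⟨x, hx, rfl⟩ _ ⟨y, hy, rfl⟩
    rw [← map_mul, ← map_mul, hab x hx y hy]
  · rw [Subgroup.index_map_subtype]
    exact fun hd => ((Fact.out : p.Prime).dvd_mul.mp hd).elim P.not_dvd_index hidx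

theorem hom_eq_one_of_pow {X : Type u} [Group X] [Finite X] {s k : ℕ} (hs : s.Prime)
    (hX : IsPGroup s X) (hk : ¬ s ∣ k) {c : ℂˣ} (μ : X →* ℂˣ) (g : X) (hc : μ g = c)
    (h : c ^ k = 1) : c = 1 := by
  obtain ⟨i, hi⟩ := hX g
  have h1 : orderOf c ∣ Nat.gcd k (s ^ i) :=
    Nat.dvd_gcd (orderOf_dvd_of_pow_eq_one h)
      (orderOf_dvd_of_pow_eq_one (by rw [← hc, ← map_pow, hi, map_one]))
  rw [((hs.coprime_iff_not_dvd.mpr hk).symm.pow_right i).gcd_eq_one, Nat.dvd_one,
    orderOf_eq_one_iff] at h1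
  exact h1

section Two

variable (S K N : Subgroup G) [hS : S.Normal] [hN : N.Normal] {s : ℕ} [hs : Fact s.Prime]

/-- The hypotheses on a quotient losing the prime of the kernel. -/
structure Setup (s : ℕ) : Prop where
  hSp : IsPGroup s S
  hNS : N ≤ S
  hN1 : N ≠ ⊥
  hNc : ∀ n ∈ N, ∀ x ∈ S, n * x = x * n
  hexp : ∀ n ∈ N, n ^ s = 1
  hSN : ⁅S, S⁆ = N
  hd : S ⊓ K = ⊥
  hsup : K ⊔ S = ⊤
  hsK : ¬ s ∣ Nat.card K

variable {S K N}

theorem Setup.comm (h : Setup S K N s) : ∀ x ∈ N, ∀ y ∈ N, x * y = y * x :=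
  fun x hx y hy => h.hNc x hx y (h.hNS hy)

theorem Setup.commutator_eq (h : Setup S K N s) : commutator S = N.subgroupOf S := by
  refine Subgroup.map_injective S.subtype_injective ?_
  rw [Subgroup.map_subtype_commutator, h.hSN, Subgroup.subgroupOf_map_subtype, inf_of_le_left h.hNS]

theorem Setup.coprime (h : Setup S K N s) {π : G →* K} (hπ : ∀ k : K, π k = k)
    (hπH : ∀ g : G, g * ((π g : K) : G)⁻¹ ∈ S) : (Nat.card S).Coprime S.index := by
  obtain ⟨n, hn⟩ := IsPGroup.iff_card.mp h.hSp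
  rw [hn, index_eq_card_of_retraction S K π h.hd hπ hπH]
  exact (hs.out.coprime_iff_not_dvd.mpr h.hsK).pow_left n

theorem Setup.dvd_degree (h : Setup S K N s) (θ : IrrCharacter S)
    (hθ : charDegree (θ : S → ℂ) ≠ 1) : s ∣ charDegree (θ : S → ℂ) := by
  obtain ⟨n, hn⟩ := IsPGroup.iff_card.mp h.hSp
  obtain ⟨i, -, hi⟩ := (Nat.dvd_prime_pow hs.out).mp
    (hn ▸ CharCorr.charDegree_irr_dvd_card θ)
  rcases Nat.eq_zero_or_pos i with rfl | hi0
  · exact absurd (hi.trans (pow_zero s)) hθ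
  · exact hi ▸ dvd_pow_self s hi0.ne'

/-- A character of the normal subgroup over a character of the centre. -/
theorem Setup.exists_over (h : Setup S K N s) (μ : N →* ℂˣ) (hμ : μ ≠ 1) :
    ∃ θ : IrrCharacter S, charDegree (θ : S → ℂ) ≠ 1 ∧
      (Clifford.inertia hS (θ : S → ℂ)).subgroupOf K = stabilizer K μ := by
  classical
  haveI := Fintype.ofFinite S
  let e : N.subgroupOf S ≃* N := Subgroup.subgroupOfEquivOfLe h.hNS
  let μ' : IrrCharacter (N.subgroupOf S) := linearIrr (μ.comp e.toMonoidHom)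
  haveI : Fintype (N.subgroupOf S) := Fintype.ofFinite _
  haveI hN' : (N.subgroupOf S).Normal := hN.subgroupOf S
  let A := stabilizer K μ
  let act : A →* MulAut S := (MulAut.conjNormal (H := S)).comp (K.subtype.comp A.subtype)
  have hact : ∀ (a : A) (x : S), ((act a x : S) : G) = ((a : K) : G) * x * ((a : K) : G)⁻¹ :=
    fun a x => MulAut.conjNormal_apply _ _
  have hNact : ∀ (a : A), ∀ x ∈ N.subgroupOf S, act a x ∈ N.subgroupOf S := fun a x hx => by
    rw [Subgroup.mem_subgroupOf, hact]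
    exact hN.conj_mem _ hx _
  obtain ⟨n, hn⟩ := IsPGroup.iff_card.mp h.hSp
  have hcop : (N.subgroupOf S).index.Coprime (⊥ : Subgroup A).index := by
    rw [Subgroup.index_bot]
    have h1 : (Nat.card S).Coprime (Nat.card K) := by
      rw [hn]
      exact (hs.out.coprime_iff_not_dvd.mpr h.hsK).pow_left n
    exact (h1.coprime_dvd_left (Subgroup.index_dvd_card _)).coprime_dvd_right
      A.card_subgroup_dvd_card
  have hμinv : ∀ (a : A) (m : N.subgroupOf S),
      μ (e ⟨act a m, hNact a m m.2⟩) = μ (e m) := by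
    intro a m
    have h1 := DFunLike.congr_fun (mem_stabilizer_iff.mp (A.inv_mem a.2)) (e m)
    rw [hom_smul_subgroup_apply N K _ μ (e m) (e ⟨act a m, hNact a m m.2⟩) (by
      show ((act a m : S) : G) = _
      rw [hact]
      simp
      rfl)] at h1
    exact h1
  obtain ⟨θ, hθ, hinv⟩ := CoprimeFixed.exists_inv_over_abelian act (N.subgroupOf S) hNact ⊥ hcop
    (le_of_eq h.commutator_eq)
    (fun b hb => ⟨1, Subgroup.one_mem _, fun g => by
      rw [Subgroup.mem_bot.mp hb, map_one]; simp⟩)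
    μ' (fun a m => congrArg Units.val (hμinv a m))
  have hcen : ∀ m : N.subgroupOf S, (m : S) ∈ Subgroup.center S := fun m =>
    Subgroup.mem_center_iff.mpr fun x => Subtype.ext ((h.hNc _ m.2 x x.2).symm)
  choose c hc0 hc using fun m : N.subgroupOf S => exists_central_scalar θ _ (hcen m)
  have hc1 : ∀ m : N.subgroupOf S, (θ : S → ℂ) m = c m * (θ : S → ℂ) 1 := fun m => by
    rw [← hc m 1, mul_one]
  let f : N.subgroupOf S →* ℂˣ :=
    { toFun := fun m => Units.mk0 (c m) (hc0 m)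
      map_one' := Units.ext (mul_right_cancel₀ (irr_one_ne_zero θ) (by
        rw [Units.val_mk0, Units.val_one, one_mul, ← hc1, Subgroup.coe_one]))
      map_mul' := fun m m' => Units.ext (mul_right_cancel₀ (irr_one_ne_zero θ) (by
        rw [Units.val_mul, Units.val_mk0, Units.val_mk0, Units.val_mk0, ← hc1, Subgroup.coe_mul,
          hc, hc1, mul_assoc])) }
  have hfμ : f = μ.comp e.toMonoidHom := by
    by_contra hne
    apply hθ
    rw [show (fun m : N.subgroupOf S => (θ : S → ℂ) m) =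
        (θ : S → ℂ) 1 • (linearIrr f : N.subgroupOf S → ℂ) from funext fun m => by
      rw [hc1]; simp [linearIrr, f, mul_comm],
      classInner_smul_left, classInner_irr_ne (linearIrr f).2 μ'.2
        (fun e => hne (linearIrr_injective (Subtype.ext e))), mul_zero]
  have hval : ∀ m : N.subgroupOf S, (θ : S → ℂ) m = (μ (e m) : ℂ) * (θ : S → ℂ) 1 := fun m => by
    rw [hc1]
    exact congrArg (fun z : N.subgroupOf S →* ℂˣ => (z m : ℂ) * (θ : S → ℂ) 1) hfμ
  refine ⟨θ, fun h1 => hμ ?_, le_antisymm ?_ ?_⟩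
  · obtain ⟨g, hg⟩ := exists_linearIrr_eq θ (by
      rw [CharCorr.irr_one_eq_charDegree, h1, Nat.cast_one])
    refine MonoidHom.ext fun m => ?_
    have hm := hval (e.symm m)
    rw [MulEquiv.apply_symm_apply, ← hg] at hm
    have hk : ((e.symm m : N.subgroupOf S) : S) ∈ g.ker :=
      Abelianization.commutator_subset_ker g (h.commutator_eq.ge (e.symm m).2)
    rw [show (linearIrr g : S → ℂ) 1 = 1 by simp [linearIrr], mul_one] at hm
    refine Units.ext (hm.symm.trans ?_)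
    show (g _ : ℂ) = _
    rw [MonoidHom.mem_ker.mp hk]; rfl
  · intro k hk
    refine mem_stabilizer_iff.mpr (MonoidHom.ext fun m => Units.ext ?_)
    let m' : N := ⟨(k : G)⁻¹ * m * k, by simpa using hN.conj_mem m m.2 (k : G)⁻¹⟩
    rw [hom_smul_subgroup_apply N K k μ m m' rfl]
    refine mul_right_cancel₀ (irr_one_ne_zero θ) ?_
    have e1 := hval (e.symm m')
    have e2 := hval (e.symm m)
    rw [MulEquiv.apply_symm_apply] at e1 e2
    rw [← e1, ← e2, ← Clifford.mem_inertia.mp hk ((e.symm m' : N.subgroupOf S) : S)]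
    refine congrArg (θ : S → ℂ) (Subtype.ext ?_)
    show (k : G) * ((k : G)⁻¹ * m * k) * (k : G)⁻¹ = m
    group
  · intro k hk
    rw [Subgroup.mem_subgroupOf, Clifford.mem_inertia]
    intro x
    exact (congrArg (θ : S → ℂ) (Subtype.ext (hact ⟨k, hk⟩ x).symm)).trans (hinv ⟨k, hk⟩ x)

/-- The stabilizers of the characters of the centre. -/
theorem Setup.sylowFix [Group.IsSolvable G] (h : Setup S K N s) {π : G →* K}
    (hπ : ∀ k : K, π k = k) (hπH : ∀ g : G, g * ((π g : K) : G)⁻¹ ∈ S) {p : ℕ} [Fact p.Prime]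
    (hsp : s ≠ p) (hno : ¬ DegDvd (s * p) G) : SylowFix K (N →* ℂˣ) p := by
  intro μ hμ
  obtain ⟨θ, hθ, heq⟩ := h.exists_over μ hμ
  rw [← heq]
  obtain ⟨χ₀, hext⟩ := exists_ext_coprime S θ _ rfl
    (Clifford.le_inertia hS (irr_isClassFunction θ)) (h.coprime hπ hπH)
  exact fix_of_dvd S K π h.hd hπ hπH θ _ rfl _ χ₀ hext hs.out hsp hno
    ((h.dvd_degree θ hθ).mul_left _)

/-- A normal Sylow subgroup of the complement fixes the non-linear characters. -/
theorem Setup.le_inertia [Group.IsSolvable G] (h : Setup S K N s) {π : G →* K}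
    (hπ : ∀ k : K, π k = k) (hπH : ∀ g : G, g * ((π g : K) : G)⁻¹ ∈ S) {p : ℕ} [Fact p.Prime]
    (hsp : s ≠ p) (hno : ¬ DegDvd (s * p) G) (A : Sylow p K) (hA : (A : Subgroup K).Normal)
    (θ : IrrCharacter S) (hθ : charDegree (θ : S → ℂ) ≠ 1) {x : K} (hx : x ∈ (A : Subgroup K)) :
    (x : G) ∈ Clifford.inertia hS (θ : S → ℂ) := by
  obtain ⟨χ₀, hext⟩ := exists_ext_coprime S θ _ rfl
    (Clifford.le_inertia hS (irr_isClassFunction θ)) (h.coprime hπ hπH)
  obtain ⟨P, hP, -, -⟩ := fix_of_dvd S K π h.hd hπ hπH θ _ rfl _ χ₀ hext hs.out hsp hno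
    ((h.dvd_degree θ hθ).mul_left _)
  haveI := A.unique_of_normal hA
  rw [Subsingleton.elim P A] at hP
  exact hP hx

theorem Setup.not_dvd_index (h : Setup S K N s) {π : G →* K} (hπ : ∀ k : K, π k = k)
    (hπH : ∀ g : G, g * ((π g : K) : G)⁻¹ ∈ S) {p : ℕ} [hp : Fact p.Prime] (P : Sylow p K)
    (hsp : s ≠ p) : ¬ p ∣ ((P : Subgroup K).map K.subtype).index := by
  rw [Subgroup.index_map_subtype]
  refine fun hd => (hp.out.dvd_mul.mp hd).elim P.not_dvd_index fun hK => ?_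
  obtain ⟨n, hn⟩ := IsPGroup.iff_card.mp h.hSp
  have h3 : K.index = Nat.card S := by
    have h4 := K.index_mul_card
    rw [← index_eq_card_of_retraction S K π h.hd hπ hπH, ← S.card_mul_index] at h4
    exact Nat.eq_of_mul_eq_mul_right
      (Nat.pos_of_ne_zero Subgroup.index_ne_zero_of_finite) h4
  rw [h3, hn] at hK
  exact hsp ((Nat.prime_dvd_prime_iff_eq hp.out hs.out).mp (hp.out.dvd_of_dvd_pow hK)).symm

/-- A normal Sylow subgroup of the complement moves a linear character. -/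
theorem Setup.exists_moved [Group.IsSolvable G] (h : Setup S K N s) {π : G →* K}
    (hπ : ∀ k : K, π k = k) (hπH : ∀ g : G, g * ((π g : K) : G)⁻¹ ∈ S) {p : ℕ} [hp : Fact p.Prime]
    (hsp : s ≠ p) (A : Sylow p K) (hA : (A : Subgroup K).Normal)
    (hAab : ∀ x ∈ (A : Subgroup K), ∀ y ∈ (A : Subgroup K), x * y = y * x)
    (hAN : ∀ x ∈ (A : Subgroup K), ∀ n ∈ N, (x : G)⁻¹ * n * x = n) (hdeg : DegDvd p G) :
    ∃ lam : S →* ℂˣ, ∃ x ∈ (A : Subgroup K), x • lam ≠ lam := by
  by_contra hall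
  push Not at hall
  have hAS : ∀ x ∈ (A : Subgroup K), ∀ y ∈ S, (x : G)⁻¹ * y * x = y := by
    intro x hx y hy
    have hmem : (x : G)⁻¹ * y * x ∈ S := by simpa using hS.conj_mem y hy (x : G)⁻¹
    have hc : (⟨_, hmem⟩ : S) * (⟨y, hy⟩ : S)⁻¹ ∈ commutator S := by
      by_contra hne
      obtain ⟨ν, hν⟩ := exists_hom_ne hne
      apply hν
      have h1 := DFunLike.congr_fun (hall ν x hx) (⟨y, hy⟩ : S)
      rw [hom_smul_subgroup_apply S K x ν ⟨y, hy⟩ ⟨_, hmem⟩ rfl] at h1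
      rw [map_mul, map_inv, h1, mul_inv_cancel]
    rw [h.commutator_eq, Subgroup.mem_subgroupOf] at hc
    set c := (x : G)⁻¹ * y * x * y⁻¹ with hcdef
    have hcN : c ∈ N := hc
    have hpow : ∀ j : ℕ, ((x : G) ^ j)⁻¹ * y * (x : G) ^ j = c ^ j * y := by
      intro j
      induction j with
      | zero => simp
      | succ j ih =>
        rw [pow_succ, mul_inv_rev, show ((x : G))⁻¹ * ((x : G) ^ j)⁻¹ * y * ((x : G) ^ j * x) =
            (x : G)⁻¹ * (((x : G) ^ j)⁻¹ * y * (x : G) ^ j) * x by group, ih,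
          show (x : G)⁻¹ * (c ^ j * y) * x = ((x : G)⁻¹ * c ^ j * x) * ((x : G)⁻¹ * y * x) by group,
          hAN x hx _ (N.pow_mem hcN j), show (x : G)⁻¹ * y * x = c * y by rw [hcdef]; group,
          ← mul_assoc, ← pow_succ]
    have h1 := hpow (orderOf x)
    rw [← Subgroup.coe_pow, pow_orderOf_eq_one, Subgroup.coe_one, inv_one, one_mul, mul_one,
      eq_comm, mul_eq_right] at h1
    obtain ⟨i, hi⟩ := IsPGroup.iff_card.mp (isPGroup_zpowers hx)
    rw [Nat.card_zpowers] at hi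
    have h2 : orderOf c ∣ Nat.gcd (orderOf x) s :=
      Nat.dvd_gcd (orderOf_dvd_of_pow_eq_one h1) (orderOf_dvd_of_pow_eq_one (h.hexp c hcN))
    rw [hi, (((Nat.coprime_primes hp.out hs.out).mpr hsp.symm).pow_left i).gcd_eq_one,
      Nat.dvd_one, orderOf_eq_one_iff] at h2
    rw [show (x : G)⁻¹ * y * x = c * y by rw [hcdef]; group, h2, one_mul]
  let A' : Subgroup G := (A : Subgroup K).map K.subtype
  haveI : A'.Normal := by
    refine ⟨fun z hz g => ?_⟩
    obtain ⟨x, hx, rfl⟩ := hz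
    obtain ⟨k, hk, y, hy, rfl⟩ := Subgroup.mem_sup_of_normal_right.mp
      (show g ∈ K ⊔ S by rw [h.hsup]; trivial)
    refine ⟨⟨k, hk⟩ * x * ⟨k, hk⟩⁻¹, hA.conj_mem x hx _, ?_⟩
    have h1 : (x : G) * y = y * x := by
      calc (x : G) * y = x * ((x : G)⁻¹ * y * x) := by rw [hAS x hx y hy]
        _ = y * x := by group
    show k * (x : G) * k⁻¹ = k * y * x * (k * y)⁻¹
    rw [mul_inv_rev, mul_assoc k y (x : G), ← h1]
    group
  refine not_degDvd_of_abelian A' ?_ ?_ hdeg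
  · rintro _ ⟨x, hx, rfl⟩ _ ⟨y, hy, rfl⟩
    rw [← map_mul, ← map_mul, hAab x hx y hy]
  · exact h.not_dvd_index hπ hπH A hsp

/-- The common kernel of a set of linear characters. -/
def annihilator (C : Subgroup (S →* ℂˣ)) : Subgroup G where
  carrier := {y | ∃ hy : y ∈ S, ∀ c ∈ C, c ⟨y, hy⟩ = 1}
  one_mem' := ⟨S.one_mem, fun c _ => c.map_one⟩
  mul_mem' := fun {x y} ⟨hx, hx'⟩ ⟨hy, hy'⟩ => ⟨S.mul_mem hx hy, fun c hc => by
    rw [show (⟨x * y, S.mul_mem hx hy⟩ : S) = ⟨x, hx⟩ * ⟨y, hy⟩ from rfl, map_mul, hx' c hc,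
      hy' c hc, one_mul]⟩
  inv_mem' := fun {x} ⟨hx, hx'⟩ => ⟨S.inv_mem hx, fun c hc => by
    rw [show (⟨x⁻¹, S.inv_mem hx⟩ : S) = ⟨x, hx⟩⁻¹ from rfl, map_inv, hx' c hc, inv_one]⟩

/-- The operators fixing a set of linear characters. -/
def fixer (C : Subgroup (S →* ℂˣ)) : Subgroup K where
  carrier := {k | ∀ c ∈ C, k • c = c}
  one_mem' := fun c _ => one_smul K c
  mul_mem' := fun {x y} hx hy c hc => by rw [mul_smul, hy c hc, hx c hc]
  inv_mem' := fun {x} hx c hc => by rw [inv_smul_eq_iff, hx c hc]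

theorem Setup.annihilator_normal (h : Setup S K N s) (C : Subgroup (S →* ℂˣ))
    (hCinv : ∀ (k : K), ∀ c ∈ C, k • c ∈ C) : (annihilator C).Normal := by
  refine ⟨fun y hy g => ?_⟩
  obtain ⟨hyS, hy'⟩ := hy
  refine ⟨hS.conj_mem y hyS g, fun c hc => ?_⟩
  obtain ⟨k, hk, z, hz, rfl⟩ := Subgroup.mem_sup_of_normal_right.mp
    (show g ∈ K ⊔ S by rw [h.hsup]; trivial)
  have h1 := hy' _ (hCinv (⟨k, hk⟩ : K)⁻¹ c hc)
  rw [hom_smul_subgroup_apply S K _ c ⟨y, hyS⟩ ⟨k * y * k⁻¹, hS.conj_mem y hyS k⟩ (by simp)] at h1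
  rw [← h1]
  have e : (⟨k * z * y * (k * z)⁻¹, hS.conj_mem y hyS _⟩ : S) =
      ⟨k * z * k⁻¹, hS.conj_mem z hz k⟩ * ⟨k * y * k⁻¹, hS.conj_mem y hyS k⟩ *
        (⟨k * z * k⁻¹, hS.conj_mem z hz k⟩ : S)⁻¹ := Subtype.ext (by
    show k * z * y * (k * z)⁻¹ = k * z * k⁻¹ * (k * y * k⁻¹) * (k * z * k⁻¹)⁻¹
    group)
  rw [e, map_mul, map_mul, map_inv, mul_inv_cancel_comm]

theorem Setup.normal_sup (h : Setup S K N s) (C : Subgroup (S →* ℂˣ))
    (hCinv : ∀ (k : K), ∀ c ∈ C, k • c ∈ C) :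
    (annihilator C ⊔ (fixer (K := K) C).map K.subtype).Normal := by
  have hn := h.annihilator_normal C hCinv
  have hfn : ∀ r ∈ fixer (K := K) C, ∀ k : K, k * r * k⁻¹ ∈ fixer (K := K) C := fun r hr k c hc => by
    rw [mul_smul, mul_smul, hr _ (hCinv k⁻¹ c hc), smul_inv_smul]
  have hshift : ∀ r ∈ fixer (K := K) C, ∀ y ∈ S,
      y * (r : G) * y⁻¹ * (r : G)⁻¹ ∈ annihilator C := by
    intro r hr y hy
    have hm : (r : G) * y⁻¹ * (r : G)⁻¹ ∈ S := hS.conj_mem _ (S.inv_mem hy) _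
    have hm' : y * (r : G) * y⁻¹ * (r : G)⁻¹ ∈ S := by
      simpa [mul_assoc] using S.mul_mem hy hm
    refine ⟨hm', fun c hc => ?_⟩
    have h1 := DFunLike.congr_fun (hr c hc) ⟨_, hm⟩
    rw [hom_smul_subgroup_apply S K r c ⟨_, hm⟩ ⟨y⁻¹, S.inv_mem hy⟩ (by simp [mul_assoc])] at h1
    rw [show (⟨_, hm'⟩ : S) = ⟨y, hy⟩ * ⟨_, hm⟩ from Subtype.ext (by simp [mul_assoc]), map_mul,
      ← h1, show (⟨y⁻¹, S.inv_mem hy⟩ : S) = ⟨y, hy⟩⁻¹ from rfl, map_inv, mul_inv_cancel]
  refine ⟨fun m hm g => ?_⟩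
  obtain ⟨k, hk, z, hz, rfl⟩ := Subgroup.mem_sup_of_normal_right.mp
    (show g ∈ K ⊔ S by rw [h.hsup]; trivial)
  haveI := hn
  obtain ⟨y, hy, r', hr', rfl⟩ := Subgroup.mem_sup_of_normal_left.mp hm
  obtain ⟨r, hr, rfl⟩ := Subgroup.mem_map.mp hr'
  have m1 := hn.conj_mem y hy (k * z)
  have m2 := hn.conj_mem _ (hshift r hr z hz) k
  have m3 : ((⟨k, hk⟩ * r * (⟨k, hk⟩ : K)⁻¹ : K) : G) ∈ (fixer (K := K) C).map K.subtype :=
    Subgroup.mem_map_of_mem K.subtype (hfn r hr ⟨k, hk⟩)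
  have m4 := Subgroup.mul_mem _ (Subgroup.mem_sup_left (T := (fixer (K := K) C).map K.subtype)
    (Subgroup.mul_mem _ m1 m2)) (Subgroup.mem_sup_right (S := annihilator C) m3)
  simp only [Subgroup.coe_mul, Subgroup.coe_inv] at m4
  convert m4 using 1
  show k * z * (y * (r : G)) * (k * z)⁻¹ = _
  group

set_option maxHeartbeats 1000000 in
/-- The case of a quotient losing the prime of the kernel, after a choice between two primes. -/
theorem Setup.false_of_normal [Group.IsSolvable G] (h : Setup S K N s) {π : G →* K}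
    (hπ : ∀ k : K, π k = k) (hπH : ∀ g : G, g * ((π g : K) : G)⁻¹ ∈ S) {a b : ℕ}
    [ha : Fact a.Prime] [hb : Fact b.Prime] (ht : Triple G s a b)
    (hsmall : ∀ M : Subgroup G, M.Normal → M ≠ ⊤ → DegDvd s M → DegDvd a M → DegDvd b M → False)
    (hA : ∀ P : Sylow a K, (P : Subgroup K).Normal) : False := by
  classical
  have hWa := h.sylowFix hπ hπH ht.hla ht.nla
  have hWb := h.sylowFix hπ hπH ht.hlb ht.nlb
  have hNab := h.comm
  haveI : Nontrivial (N →* ℂˣ) := Finite.one_lt_card_iff_nontrivial.mp (by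
    rw [card_hom, commutator_eq_bot hNab, Subgroup.index_bot]
    exact N.one_lt_card_iff_ne_bot.mpr h.hN1)
  obtain ⟨μ₀, hμ₀⟩ := exists_ne (1 : N →* ℂˣ)
  obtain ⟨A, hAμ, -, hAab⟩ := hWa μ₀ hμ₀
  haveI hAn := hA A
  haveI hAu := A.unique_of_normal (hA A)
  have hkerN : ∀ {p : ℕ} [Fact p.Prime], SylowFix K (N →* ℂˣ) p → ∀ P : Sylow p K,
      (P : Subgroup K).Normal → ∀ x ∈ (P : Subgroup K), ∀ n ∈ N, (x : G)⁻¹ * n * x = n := by
    intro p _ hW P hP x hx n hn
    haveI := P.unique_of_normal hP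
    refine centralizes_of_fix N K hNab x (fun ν => ?_) hn
    rcases eq_or_ne ν 1 with rfl | hν
    · exact MonoidHom.ext fun m => rfl
    · obtain ⟨R, hR, -, -⟩ := hW ν hν
      rw [Subsingleton.elim R P] at hR
      exact hR hx
  have hAN := hkerN hWa A (hA A)
  -- the moved characters
  have hmv : ∀ lam : S →* ℂˣ, (∃ x ∈ (A : Subgroup K), x • lam ≠ lam) → ∃ P : Sylow b K,
      (P : Subgroup K) ≤ stabilizer K lam ∧
      stabilizer K lam ≤ Subgroup.normalizer ((P : Subgroup K) : Set K) ∧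
      ∀ x ∈ (P : Subgroup K), ∀ y ∈ (P : Subgroup K), x * y = y * x := by
    rintro lam ⟨x, hx, hxl⟩
    have hst := stabilizer_eq_inertia S K lam
    rw [hst]
    have hHT : S ≤ Clifford.inertia hS (fun n : S => (lam n : ℂ)) :=
      Clifford.le_inertia hS (irr_isClassFunction (linearIrr lam))
    obtain ⟨χ₀, hext⟩ := exists_ext_linear S K π h.hd hπ hπH lam _ rfl hHT
    refine fix_of_dvd S K π h.hd hπ hπH (linearIrr lam) _ rfl hHT χ₀ hext ht.ha ht.hab ht.nab ?_
    refine Dvd.dvd.mul_right ?_ _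
    by_contra hd
    refine hxl (mem_stabilizer_iff.mp ?_)
    rw [hst]
    exact sylow_le_of_not_dvd_index A _ hd hx
  have huniq : ∀ lam : S →* ℂˣ, (∃ x ∈ (A : Subgroup K), x • lam ≠ lam) → ∀ P Q : Sylow b K,
      (P : Subgroup K) ≤ stabilizer K lam → (Q : Subgroup K) ≤ stabilizer K lam → P = Q := by
    intro lam hl P Q hP hQ
    obtain ⟨R, hR, hn, -⟩ := hmv lam hl
    have key : ∀ T : Sylow b K, (T : Subgroup K) ≤ stabilizer K lam → R = T := fun T hT =>
      Sylow.ext (T.is_maximal' R.isPGroup' fun y hy =>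
        mem_of_mem_normalizer R (isPGroup_zpowers hy) (hn (hT hy)))
    rw [← key P hP, key Q hQ]
  have hSpow : ∀ lam : S →* ℂˣ, ∀ k : ℕ, ¬ s ∣ k → lam ^ k = 1 → lam = 1 := fun lam k hk h1 =>
    MonoidHom.ext fun g => hom_eq_one_of_pow hs.out h.hSp hk lam g rfl (by
      rw [← MonoidHom.pow_apply, h1]; rfl)
  have hsx : ∀ {p : ℕ} [Fact p.Prime] {P : Sylow p K}, s ≠ p → ∀ x ∈ (P : Subgroup K),
      ¬ s ∣ orderOf x := by
    intro p hp P hsp x hx hd
    exact h.hsK (hd.trans (orderOf_dvd_natCard x))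
  have hu : ∀ lam : S →* ℂˣ, ∀ x ∈ (A : Subgroup K), x • lam ≠ lam →
      x • (x • lam / lam) ≠ x • lam / lam := fun lam x hx hxl e =>
    hxl (smul_eq_of_smul_div x lam (fun u => hSpow u _ (hsx ht.hla x hx)) e)
  -- the Sylow subgroups for the other prime
  obtain ⟨P₁, hP₁, hP₁n, -⟩ := hWb μ₀ hμ₀
  have hcomm : ∀ (P : Sylow b K), ∀ x ∈ (A : Subgroup K), ∀ y ∈ (P : Subgroup K),
      x * y = y * x := by
    intro P x hx y hy
    obtain ⟨g, rfl⟩ := MulAction.exists_smul_eq K P₁ P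
    obtain ⟨z, hz, rfl⟩ := hy
    have h1 : Commute (g⁻¹ * x * g) z := commute_of_le_normalizer ht.hab A P₁ (hAμ.trans hP₁n)
      (Subgroup.le_normalizer_of_normal) (by simpa using hAn.conj_mem x hx g⁻¹) hz
    show x * (g * z * g⁻¹) = g * z * g⁻¹ * x
    calc x * (g * z * g⁻¹) = g * ((g⁻¹ * x * g) * z) * g⁻¹ := by group
      _ = g * (z * (g⁻¹ * x * g)) * g⁻¹ := by rw [h1.eq]
      _ = g * z * g⁻¹ * x := by group
  obtain ⟨lam₀, x₀, hx₀, hl₀⟩ := h.exists_moved hπ hπH ht.hla A (hA A) hAab hAN ht.da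
  have hBn : ∀ P : Sylow b K, ¬ (P : Subgroup K).Normal := by
    intro P hP
    haveI := P.unique_of_normal hP
    have hPN := hkerN hWb P hP
    obtain ⟨R, -, -, hRab⟩ := hWb μ₀ hμ₀
    rw [Subsingleton.elim R P] at hRab
    obtain ⟨lam₁, y, hy, hl₁⟩ := h.exists_moved hπ hπH ht.hlb P hP hRab hPN ht.db
    have both : ∀ lam : S →* ℂˣ, (∃ x ∈ (A : Subgroup K), x • lam ≠ lam) →
        ∀ z ∈ (P : Subgroup K), z • lam = lam := fun lam hl z hz => by
      obtain ⟨Q, hQ, -, -⟩ := hmv lam hl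
      rw [Subsingleton.elim Q P] at hQ
      exact hQ hz
    by_cases hA1 : ∃ x ∈ (A : Subgroup K), x • lam₁ ≠ lam₁
    · exact hl₁ (both lam₁ hA1 y hy)
    push Not at hA1
    have h1 : ∃ x ∈ (A : Subgroup K), x • (lam₀ * lam₁) ≠ lam₀ * lam₁ :=
      ⟨x₀, hx₀, fun e => hl₀ (by rwa [hom_smul_mul, hA1 x₀ hx₀, mul_left_inj] at e)⟩
    have h2 := both _ h1 y hy
    rw [hom_smul_mul, both lam₀ ⟨x₀, hx₀, hl₀⟩ y hy, mul_right_inj] at h2
    exact hl₁ h2
  -- the fixed linear characters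
  set C : Subgroup (S →* ℂˣ) := fixSub (K := K) ((A : Subgroup K) : Set K) with hC
  have hCinv : ∀ (k : K), ∀ c ∈ C, k • c ∈ C := by
    intro k c hc x hx
    have h1 := hc (k⁻¹ * x * k) (by have := hAn.conj_mem x hx k⁻¹; rwa [inv_inv] at this)
    rw [mul_smul, mul_smul, inv_smul_eq_iff] at h1
    exact h1
  have hPC : ∀ P : Sylow b K, ∀ y ∈ (P : Subgroup K), ∀ c ∈ C, y • c = c := by
    set u₀ := x₀ • lam₀ / lam₀ with hu₀
    have hum : ∃ x ∈ (A : Subgroup K), x • u₀ ≠ u₀ := ⟨x₀, hx₀, hu lam₀ x₀ hx₀ hl₀⟩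
    have hfixu : ∀ (lam : S →* ℂˣ) (Q : Sylow b K), (Q : Subgroup K) ≤ stabilizer K lam →
        (Q : Subgroup K) ≤ stabilizer K (x₀ • lam / lam) := by
      intro lam Q hQ y hy
      rw [mem_stabilizer_iff, hom_smul_div, ← mul_smul, ← hcomm Q x₀ hx₀ y hy, mul_smul,
        show y • lam = lam from hQ hy]
    obtain ⟨P₀, hP₀, -, -⟩ := hmv lam₀ ⟨x₀, hx₀, hl₀⟩
    have h0 : ∀ y ∈ (P₀ : Subgroup K), ∀ c ∈ C, y • c = c := by
      intro y hy c hc
      have hlc : ∃ x ∈ (A : Subgroup K), x • (lam₀ * c) ≠ lam₀ * c :=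
        ⟨x₀, hx₀, fun e => hl₀ (by rwa [hom_smul_mul, hc x₀ hx₀, mul_left_inj] at e)⟩
      obtain ⟨Q, hQ, -, -⟩ := hmv _ hlc
      have h1 := hfixu _ Q hQ
      rw [hom_smul_mul, hc x₀ hx₀,
        show x₀ • lam₀ * c / (lam₀ * c) = x₀ • lam₀ / lam₀ from MonoidHom.ext fun m =>
          mul_div_mul_right_eq_div ((x₀ • lam₀) m) (lam₀ m) (c m)] at h1
      rw [huniq u₀ hum Q P₀ h1 (hfixu _ P₀ hP₀)] at hQ
      have h2 := hQ hy
      rw [mem_stabilizer_iff, hom_smul_mul, show y • lam₀ = lam₀ from hP₀ hy, mul_right_inj] at h2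
      exact h2
    intro P y hy c hc
    obtain ⟨g, rfl⟩ := MulAction.exists_smul_eq K P₀ P
    obtain ⟨z, hz, rfl⟩ := hy
    show (g * z * g⁻¹) • c = c
    rw [mul_smul, mul_smul, h0 z hz _ (hCinv g⁻¹ c hc), smul_inv_smul]
  let S₁ : Subgroup G := annihilator C
  haveI hS₁n : S₁.Normal := h.annihilator_normal C hCinv
  have hS₁S : S₁ ≤ S := fun y hy => hy.1
  let R : Subgroup K := fixer C
  let M : Subgroup G := S₁ ⊔ R.map K.subtype
  have hMn : M.Normal := h.normal_sup C hCinv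
  have hAR : (A : Subgroup K) ≤ R := fun x hx c hc => hc x hx
  have hidxR : ∀ {p : ℕ} [Fact p.Prime] (P : Sylow p K), (P : Subgroup K) ≤ R → s ≠ p →
      ¬ p ∣ M.index := fun P hPR hsp hd =>
    h.not_dvd_index hπ hπH P hsp (hd.trans (Subgroup.index_dvd_of_le
      ((Subgroup.map_mono hPR).trans le_sup_right)))
  have hvanish : ∀ (θ : IrrCharacter S), charDegree (θ : S → ℂ) ≠ 1 → ∀ (g : S),
      ∀ x ∈ (A : Subgroup K), ∀ lam : S →* ℂˣ, (x • lam) g ≠ lam g → (θ : S → ℂ) g = 0 := by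
    intro θ hθ g x hx lam hne
    let θ' : IrrCharacter S := ⟨_, LinearTwist.isIrr_mul_hom θ.2 lam⟩
    have hθ' : charDegree (θ' : S → ℂ) ≠ 1 := by
      rwa [LinearTwist.charDegree_eq_of_apply_one (χ := (θ' : S → ℂ))
        (n := charDegree (θ : S → ℂ)) (by
          show (θ : S → ℂ) 1 * (lam 1 : ℂ) = _
          rw [map_one, Units.val_one, mul_one, CharCorr.irr_one_eq_charDegree])]
    have e1 := Clifford.mem_inertia.mp
      ((Clifford.inertia hS _).inv_mem (h.le_inertia hπ hπH ht.hla ht.nla A (hA A) θ hθ hx)) g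
    have e2 := Clifford.mem_inertia.mp
      ((Clifford.inertia hS _).inv_mem (h.le_inertia hπ hπH ht.hla ht.nla A (hA A) θ' hθ' hx)) g
    simp only [θ'] at e2
    rw [e1] at e2
    by_contra h0
    apply hne
    rw [hom_smul_subgroup_apply S K x lam g
      ⟨(x : G)⁻¹ * g * (x : G)⁻¹⁻¹, hS.conj_mem g g.2 _⟩ (by simp)]
    exact Units.ext (mul_left_cancel₀ h0 e2)
  have hCbot : C = ⊥ := by
    by_contra hCne
    obtain ⟨c, hc, hc1⟩ := C.bot_or_exists_ne_one.resolve_left hCne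
    refine hsmall M hMn (fun htop => ?_) ?_ ?_ ?_
    · refine hc1 (MonoidHom.ext fun y => ?_)
      obtain ⟨z, hz, _, ⟨r, hr, rfl⟩, hzr⟩ := (Subgroup.mem_sup_of_normal_left).mp
        (show (y : G) ∈ M by rw [htop]; trivial)
      have h1 : (r : G) ∈ S ⊓ K := ⟨(S.mul_mem_cancel_left (hS₁S hz)).mp (by
        show z * K.subtype r ∈ S
        rw [hzr]; exact y.2), r.2⟩
      rw [h.hd, Subgroup.mem_bot] at h1
      rw [show K.subtype r = (r : G) from rfl, h1, mul_one] at hzr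
      obtain ⟨hzS, hz'⟩ := hz
      rw [MonoidHom.one_apply, ← hz' c hc]
      exact congrArg c (Subtype.ext hzr.symm)
    · by_contra hno
      obtain ⟨Q⟩ : Nonempty (Sylow s M) := inferInstance
      obtain ⟨hQn, hQab⟩ := sylow_of_not_degDvd hno Q
      haveI := Q.unique_of_normal hQn
      have hS₁ab : ∀ x ∈ S₁, ∀ y ∈ S₁, x * y = y * x := by
        have hp : IsPGroup s (S₁.subgroupOf M) :=
          (h.hSp.to_le hS₁S).of_equiv (Subgroup.subgroupOfEquivOfLe le_sup_left).symm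
        obtain ⟨Q', hQ'⟩ := hp.exists_le_sylow
        rw [Subsingleton.elim Q' Q] at hQ'
        intro x hx y hy
        exact congrArg Subtype.val (hQab ⟨x, Subgroup.mem_sup_left hx⟩ (hQ' hx)
          ⟨y, Subgroup.mem_sup_left hy⟩ (hQ' hy))
      -- a central element moved modulo the commutator subgroup
      obtain ⟨y, hy⟩ : ∃ y : S, (x₀ • (x₀ • lam₀ / lam₀)) y ≠ (x₀ • lam₀ / lam₀) y := by
        by_contra hh
        push Not at hh
        exact hu lam₀ x₀ hx₀ hl₀ (MonoidHom.ext hh)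
      let y' : S := ⟨(x₀ : G)⁻¹ * y * x₀, by simpa using hS.conj_mem _ y.2 (x₀ : G)⁻¹⟩
      let v : S := y' * y⁻¹
      rw [hom_smul_subgroup_apply S K x₀ _ y y' rfl] at hy
      have hv1 : (x₀ • lam₀) v ≠ lam₀ v := by
        intro e
        apply hy
        have e' : (x₀ • lam₀ / lam₀) v = 1 := by
          rw [MonoidHom.div_apply, e, div_self']
        rw [map_mul, map_inv, mul_inv_eq_one] at e'
        exact e'
      have hvS₁ : (v : G) ∈ S₁ := ⟨v.2, fun c hc => by
        show c v = 1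
        have e := DFunLike.congr_fun (hc x₀ hx₀) y
        rw [hom_smul_subgroup_apply S K x₀ c y y' rfl] at e
        rw [map_mul, map_inv, e, mul_inv_cancel]⟩
      have hvc : ∀ z ∈ S, (v : G) * z = z * v := by
        intro z hz
        obtain ⟨d, ⟨hdS, hdA⟩, hzd⟩ := CfsgLib.Coprime.exists_centralizing_rep
          ((A : Subgroup K).map K.subtype) S Subgroup.le_normalizer_of_normal (by
            obtain ⟨i, hi⟩ := IsPGroup.iff_card.mp (A.isPGroup'.map K.subtype)
            obtain ⟨j, hj⟩ := IsPGroup.iff_card.mp h.hSp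
            rw [hi, hj]
            exact Nat.Coprime.pow _ _ ((Nat.coprime_primes ha.out hs.out).mpr ht.hla.symm))
          (Or.inl inferInstance) S₁ hS₁S
          (Subgroup.le_normalizer_of_normal (H := S₁)) hz (by
            rintro _ ⟨x, hx, rfl⟩
            have hm : (x : G) * z * (x : G)⁻¹ ∈ S := hS.conj_mem z hz _
            refine ⟨S.mul_mem (S.inv_mem hz) hm, fun c hc => ?_⟩
            have e := DFunLike.congr_fun (hc x hx) ⟨_, hm⟩
            rw [hom_smul_subgroup_apply S K x c ⟨_, hm⟩ ⟨z, hz⟩ (by simp [mul_assoc])] at e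
            show c ((⟨z, hz⟩ : S)⁻¹ * ⟨_, hm⟩) = 1
            rw [map_mul, map_inv, e, inv_mul_cancel])
        have hvd : (v : G) * d = d * v := by
          have hn : d * y * d⁻¹ * (y : G)⁻¹ ∈ N := by
            rw [← h.hSN]
            exact Subgroup.commutator_mem_commutator hdS y.2
          have hxd : (x₀ : G) * d = d * x₀ :=
            Subgroup.mem_centralizer_iff.mp hdA _ ⟨x₀, hx₀, rfl⟩
          set n := d * y * d⁻¹ * (y : G)⁻¹ with hndef
          have e1 : d * (y : G) * d⁻¹ = n * y := by rw [hndef]; group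
          have e2 : d * (y' : G) * d⁻¹ = n * y' := by
            have hxd' : d * (x₀ : G)⁻¹ = (x₀ : G)⁻¹ * d := by
              rw [eq_inv_mul_iff_mul_eq, ← mul_assoc, hxd, mul_inv_cancel_right]
            show d * ((x₀ : G)⁻¹ * y * x₀) * d⁻¹ = n * ((x₀ : G)⁻¹ * y * x₀)
            calc d * ((x₀ : G)⁻¹ * y * x₀) * d⁻¹
                = d * (x₀ : G)⁻¹ * y * ((x₀ : G) * d⁻¹) := by group
              _ = (x₀ : G)⁻¹ * d * y * (d⁻¹ * x₀) := by
                rw [hxd', show (x₀ : G) * d⁻¹ = d⁻¹ * x₀ by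
                  rw [eq_inv_mul_iff_mul_eq, ← mul_assoc, ← hxd, mul_inv_cancel_right]]
              _ = (x₀ : G)⁻¹ * (d * y * d⁻¹) * x₀ := by group
              _ = ((x₀ : G)⁻¹ * n * x₀) * ((x₀ : G)⁻¹ * y * x₀) := by rw [e1]; group
              _ = n * ((x₀ : G)⁻¹ * y * x₀) := by rw [hAN x₀ hx₀ n hn]
          have e3 : d * (v : G) * d⁻¹ = v := by
            show d * ((y' : G) * (y : G)⁻¹) * d⁻¹ = (y' : G) * (y : G)⁻¹
            rw [show d * ((y' : G) * (y : G)⁻¹) * d⁻¹ =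
              (d * (y' : G) * d⁻¹) * (d * (y : G) * d⁻¹)⁻¹ by group, e1, e2, mul_inv_rev]
            rw [show n * (y' : G) * ((y : G)⁻¹ * n⁻¹) = n * ((y' : G) * (y : G)⁻¹) * n⁻¹ by group,
              h.hNc n hn _ (S.mul_mem y'.2 (S.inv_mem y.2)), mul_inv_cancel_right]
          rw [mul_inv_eq_iff_eq_mul] at e3
          exact e3.symm
        have hz' : z = d * (z⁻¹ * d)⁻¹ := by group
        rw [hz']
        exact (Commute.mul_right hvd (Commute.inv_right (hS₁ab v hvS₁ _ hzd)))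
      obtain ⟨θ, hθ, -⟩ := h.exists_over μ₀ hμ₀
      obtain ⟨k, hk0, hk⟩ := exists_central_scalar θ v (Subgroup.mem_center_iff.mpr fun z =>
        Subtype.ext (hvc z z.2).symm)
      have h0 := hk 1
      rw [mul_one, hvanish θ hθ v x₀ hx₀ lam₀ hv1] at h0
      exact mul_ne_zero hk0 (irr_one_ne_zero θ) h0.symm
    · haveI := hMn
      exact degDvd_normal M (hidxR A hAR ht.hla) ht.da
    · haveI := hMn
      exact degDvd_normal M (hidxR P₁ (fun y hy c hc => hPC P₁ y hy c hc) ht.hlb) ht.db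
  have hmove : ∀ lam : S →* ℂˣ, lam ≠ 1 → ∃ x ∈ (A : Subgroup K), x • lam ≠ lam := by
    intro lam hlam
    by_contra hh
    push Not at hh
    have : lam ∈ C := hh
    rw [hCbot, Subgroup.mem_bot] at this
    exact hlam this
  have hW2 : SylowFix K (S →* ℂˣ) b := fun lam hlam => hmv lam (hmove lam hlam)
  haveI : Nontrivial (S →* ℂˣ) := ⟨⟨lam₀, 1, fun e => hl₀ (by
    rw [e]; exact MonoidHom.ext fun m => rfl)⟩⟩
  -- counting
  have hcount : ∀ {W : Type u} [CommGroup W] [MulDistribMulAction K W] [Finite W] [Nontrivial W],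
      SylowFix K W b → (∃ v, Nat.card W = s ^ v) → ∃ c v, c < v ∧ Nat.card W = s ^ v ∧
        Nat.card (Sylow b K) * (s ^ c - 1) = s ^ v - 1 := by
    rintro W _ _ _ _ hWf ⟨v, hv⟩
    let F : Subgroup W := fixSub (W := W) ((P₁ : Subgroup K) : Set K)
    obtain ⟨c, hcv, hc⟩ := (Nat.dvd_prime_pow hs.out).mp (hv ▸ F.card_subgroup_dvd_card)
    refine ⟨c, v, lt_of_le_of_ne hcv fun e => ?_, hv, ?_⟩
    · refine hBn P₁ (normal_of_le_actKer hWf P₁ fun k hk w => ?_)
      have htop : F = ⊤ := Subgroup.eq_top_of_card_eq _ (by rw [hc, e, hv])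
      exact (show w ∈ F by rw [htop]; trivial) k hk
    · rw [← hv, card_sub_one hWf P₁, ← hc]
  have hWcard : Nat.card (N →* ℂˣ) = Nat.card N := by
    rw [card_hom, commutator_eq_bot hNab, Subgroup.index_bot]
  obtain ⟨j, hj⟩ := IsPGroup.iff_card.mp h.hSp
  obtain ⟨c1, v1, hc1, hv1, he1⟩ := hcount hWb (by
    obtain ⟨i, -, hi⟩ := (Nat.dvd_prime_pow hs.out).mp (hj ▸ Subgroup.card_dvd_of_le h.hNS)
    exact ⟨i, hWcard.trans hi⟩)
  obtain ⟨c2, v2, hc2, hv2, he2⟩ := hcount hW2 (by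
    obtain ⟨i, -, hi⟩ := (Nat.dvd_prime_pow hs.out).mp (hj ▸ (commutator S).index_dvd_card)
    exact ⟨i, (card_hom _).trans hi⟩)
  have hn : Nat.Coprime s (Nat.card (Sylow b K)) :=
    hs.out.coprime_iff_not_dvd.mpr fun hd =>
      h.hsK (hd.trans ((Sylow.card_dvd_index P₁).trans (Subgroup.index_dvd_card _)))
  have hvv := nat_split hs.out.one_lt hc1 hc2 hn he1 he2
  have hWW : Nat.card (S →* ℂˣ) = Nat.card (N.subgroupOf S) := by
    rw [hv2, ← hvv, ← hv1, hWcard]
    exact (Nat.card_congr (Subgroup.subgroupOfEquivOfLe h.hNS).toEquiv).symm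
  obtain ⟨g, hg⟩ : ∃ g : S, g ∉ N.subgroupOf S := by
    by_contra hh
    push Not at hh
    apply hl₀
    refine MonoidHom.ext fun m => ?_
    have e1 : ∀ ν : S →* ℂˣ, ν m = 1 := fun ν => MonoidHom.mem_ker.mp
      (Abelianization.commutator_subset_ker ν (h.commutator_eq.ge (hh m)))
    rw [e1, e1]
  obtain ⟨lam, hlam⟩ := exists_hom_ne (h.commutator_eq ▸ hg : g ∉ commutator S)
  obtain ⟨x, hx, lam', hne⟩ : ∃ x ∈ (A : Subgroup K), ∃ lam' : S →* ℂˣ, (x • lam') g ≠ lam' g := by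
    by_contra hh
    push Not at hh
    apply hlam
    haveI := Fintype.ofFinite (A : Subgroup K)
    have hprod : (∏ x : (A : Subgroup K), (x : K) • lam) ∈ C := by
      intro y hy
      rw [hom_smul_prod]
      refine Fintype.prod_equiv (Equiv.mulLeft ⟨y, hy⟩) _ _ fun x => ?_
      rw [← mul_smul]
      rfl
    rw [hCbot, Subgroup.mem_bot] at hprod
    have e := DFunLike.congr_fun hprod g
    rw [MonoidHom.finsetProd_apply, MonoidHom.one_apply,
      Finset.prod_congr rfl (fun (x : (A : Subgroup K)) _ => hh (x : K) x.2 lam), Finset.prod_const, Finset.card_univ,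
      ← Nat.card_eq_fintype_card] at e
    obtain ⟨i, hi⟩ := IsPGroup.iff_card.mp A.isPGroup'
    exact hom_eq_one_of_pow hs.out h.hSp (by
      rw [hi]
      exact fun hd => ht.hla
        ((Nat.prime_dvd_prime_iff_eq hs.out ha.out).mp (hs.out.dvd_of_dvd_pow hd))) lam g rfl e
  haveI := Fintype.ofFinite (S →* ℂˣ)
  haveI := Fintype.ofFinite {χ : IrrCharacter S // (χ : S → ℂ) 1 = 1}
  have horth := column_orth g g
  rw [if_pos (IsConj.refl g)] at horth
  have hsum : ∑ χ : IrrCharacter S, (χ : S → ℂ) g * (starRingEnd ℂ) ((χ : S → ℂ) g) =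
      (Nat.card (S →* ℂˣ) : ℂ) := by
    rw [← Finset.sum_filter_of_ne (p := fun χ : IrrCharacter S => (χ : S → ℂ) 1 = 1) (fun χ _ hχ => by
        by_contra h1
        refine hχ ?_
        rw [hvanish χ (fun e => h1 (by rw [CharCorr.irr_one_eq_charDegree, e, Nat.cast_one])) g x hx
          lam' hne, zero_mul]),
      Finset.sum_subtype (p := fun χ : IrrCharacter S => (χ : S → ℂ) 1 = 1) _ (by simp),
      ← Nat.card_congr CharIto.linearIrrEquiv, Finset.sum_congr rfl (fun χ _ => ?_),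
      Finset.sum_const, Finset.card_univ, nsmul_one, Nat.card_eq_fintype_card]
    obtain ⟨f, hf⟩ := exists_linearIrr_eq χ.1 χ.2
    rw [← irr_apply_inv, ← hf]
    show (f g : ℂ) * (f g⁻¹ : ℂ) = 1
    rw [← Units.val_mul, ← map_mul, mul_inv_cancel, map_one, Units.val_one]
  rw [hsum, Nat.cast_inj, hWW] at horth
  have hle : N.subgroupOf S < Subgroup.centralizer ({g} : Set S) := by
    refine lt_of_le_of_ne (fun m hm => Subgroup.mem_centralizer_singleton_iff.mpr
      (Subtype.ext (h.hNc _ hm g g.2))) fun e => hg ?_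
    rw [e]
    exact Subgroup.mem_centralizer_singleton_iff.mpr rfl
  exact hle.ne (Subgroup.eq_of_le_of_card_ge hle.le horth.ge)

end Two

/-- The case of a quotient losing the prime of the minimal normal subgroup. -/
theorem case_two [Group.IsSolvable G] (N : Subgroup G) [hN : N.Normal] (hN1 : N ≠ ⊥)
    (hmin : ∀ M : Subgroup G, M.Normal → M ≤ N → M = ⊥ ∨ M = N) {s : ℕ} [hs : Fact s.Prime]
    (hNp : IsPGroup s N) (hexp : ∀ n ∈ N, n ^ s = 1) {a b : ℕ} (h : Triple G s a b)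
    (hsmall : ∀ M : Subgroup G, M.Normal → M ≠ ⊤ → DegDvd s M → DegDvd a M → DegDvd b M → False)
    (hQ : ¬ DegDvd s (G ⧸ N)) : False := by
  classical
  haveI := Fact.mk h.ha
  haveI := Fact.mk h.hb
  obtain ⟨S⟩ : Nonempty (Sylow s G) := inferInstance
  have hNS : N ≤ (S : Subgroup G) := by
    have h1 : IsPGroup s ((S : Subgroup G) ⊔ N : Subgroup G) := S.isPGroup'.to_sup_of_normal_right hNp
    exact (S.is_maximal' h1 le_sup_left) ▸ le_sup_right
  obtain ⟨hSn, hSab⟩ := sylow_of_not_degDvd hQ (S.mapSurjective (QuotientGroup.mk'_surjective N))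
  rw [Sylow.coe_mapSurjective] at hSn hSab
  haveI hS : (S : Subgroup G).Normal := by
    have := hSn.comap (QuotientGroup.mk' N)
    rwa [Subgroup.comap_map_eq, QuotientGroup.ker_mk', sup_of_le_left hNS] at this
  have hle : ⁅(S : Subgroup G), (S : Subgroup G)⁆ ≤ N := Subgroup.commutator_le.mpr fun x hx y hy => by
    have e := hSab _ ⟨x, hx, rfl⟩ _ ⟨y, hy, rfl⟩
    refine (QuotientGroup.eq_one_iff _).mp ?_
    show QuotientGroup.mk' N ⁅x, y⁆ = 1
    rw [map_commutatorElement, commutatorElement_eq_one_iff_mul_comm, e]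
  have hSN : ⁅(S : Subgroup G), (S : Subgroup G)⁆ = N := by
    refine (hmin _ (Subgroup.commutator_normal _ _) hle).resolve_left fun e => ?_
    refine not_degDvd_of_abelian (S : Subgroup G) (fun x hx y hy => ?_) S.not_dvd_index h.dl
    have := Subgroup.commutator_mem_commutator hx hy
    rw [e, Subgroup.mem_bot] at this
    exact commutatorElement_eq_one_iff_mul_comm.mp this
  have hNc : ∀ n ∈ N, ∀ x ∈ (S : Subgroup G), n * x = x * n := by
    let act : MulAction (S : Subgroup G) N :=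
      MulAction.compHom N ((MulAut.conjNormal (H := N)).comp (S : Subgroup G).subtype)
    letI := act
    have hdvd : s ∣ Nat.card N := by
      obtain ⟨i, hi⟩ := IsPGroup.iff_card.mp hNp
      rcases Nat.eq_zero_or_pos i with rfl | hi0
      · exact absurd (Subgroup.card_eq_one.mp (by simpa using hi)) hN1
      · exact hi ▸ dvd_pow_self s hi0.ne'
    obtain ⟨z, hz, hz1⟩ := S.isPGroup'.exists_fixed_point_of_prime_dvd_card_of_fixed_point N hdvd
      (a := (1 : N)) (fun x => map_one (MulAut.conjNormal (H := N) (x : G)))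
    have hmem : (z : G) ∈ N ⊓ Subgroup.centralizer ((S : Subgroup G) : Set G) := by
      refine ⟨z.2, Subgroup.mem_centralizer_iff.mpr fun x hx => ?_⟩
      have e := congrArg Subtype.val (hz ⟨x, hx⟩)
      change ((MulAut.conjNormal (H := N) x z : N) : G) = z at e
      rw [MulAut.conjNormal_apply] at e
      exact mul_inv_eq_iff_eq_mul.mp e
    have hMN := (hmin (N ⊓ Subgroup.centralizer ((S : Subgroup G) : Set G))
      inferInstance inf_le_left).resolve_left fun e => by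
        rw [e, Subgroup.mem_bot] at hmem
        exact hz1 (Subtype.ext hmem).symm
    intro n hn x hx
    rw [← hMN] at hn
    exact (Subgroup.mem_centralizer_iff.mp hn.2 x hx).symm
  obtain ⟨K, hK⟩ := Subgroup.exists_right_complement'_of_coprime S.card_coprime_index
  have hd : (S : Subgroup G) ⊓ K = ⊥ := hK.disjoint.eq_bot
  have hsup : K ⊔ (S : Subgroup G) = ⊤ := by rw [sup_comm]; exact hK.sup_eq_top
  obtain ⟨π, hπ, hπH⟩ := exists_retraction (S : Subgroup G) K hd hsup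
  have hset : Setup (S : Subgroup G) K N s :=
    ⟨S.isPGroup', hNS, hN1, hNc, hexp, hSN, hd, hsup, by
      rw [← index_eq_card_of_retraction (S : Subgroup G) K π hd hπ hπH]; exact S.not_dvd_index⟩
  haveI : Nontrivial (N →* ℂˣ) := Finite.one_lt_card_iff_nontrivial.mp (by
    rw [card_hom, commutator_eq_bot hset.comm, Subgroup.index_bot]
    exact N.one_lt_card_iff_ne_bot.mpr hN1)
  have hW : ∀ μ : N →* ℂˣ, μ ^ s = 1 := fun μ => MonoidHom.ext fun n => by
    rw [MonoidHom.pow_apply, ← map_pow, show n ^ s = 1 from Subtype.ext (hexp n n.2), map_one,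
      MonoidHom.one_apply]
  have hdeg : ∀ χ : IrrCharacter K, ¬ a * b ∣ charDegree (χ : K → ℂ) := fun χ hχ =>
    h.nab (degDvd_of_surjective π (fun k => ⟨k, hπ k⟩) ⟨χ, hχ⟩)
  letI : MulDistribMulAction G (N →* ℂˣ) := homAction N
  rcases normal_or_normal h.hab hW (hset.sylowFix hπ hπH h.hla h.nla)
    (hset.sylowFix hπ hπH h.hlb h.nlb) hdeg with hn | hn
  · exact hset.false_of_normal hπ hπH h hsmall hn
  · exact hset.false_of_normal hπ hπH h.swap (fun M hM hM1 h1 h2 h3 => hsmall M hM hM1 h1 h3 h2) hn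

/-- **Pálfy's three primes theorem.** -/
theorem three_primes : ∀ (n : ℕ) {G : Type u} [Group G] [Finite G] [Group.IsSolvable G],
    Nat.card G = n → ∀ {l a b : ℕ}, ¬ Triple G l a b := by
  intro n
  induction n using Nat.strong_induction_on with
  | _ n ih =>
  intro G _ _ _ hn l a b ht
  haveI : Nontrivial G := by
    refine Finite.one_lt_card_iff_nontrivial.mp ?_
    obtain ⟨χ, hχ⟩ := ht.dl
    have h1 := hχ.trans (CharCorr.charDegree_irr_dvd_card χ)
    exact lt_of_lt_of_le ht.hl.one_lt (Nat.le_of_dvd Nat.card_pos h1)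
  obtain ⟨N, hN, hN1, hmin⟩ := PrimRecog.exists_minimal_normal (G := G)
  haveI := hN
  obtain ⟨s, hs, hNp, hexp, hNab⟩ := elementary_of_minimal N hN1 hmin
  haveI := Fact.mk hs
  have core : ∀ {l a b : ℕ}, Triple G l a b → ¬ DegDvd l (G ⧸ N) → False := by
    intro l a b ht hQ
    rcases eq_or_ne l s with rfl | hls
    · refine case_two N hN1 hmin hNp hexp ht (fun M hM hM1 h1 h2 h3 => ?_) hQ
      haveI := hM
      refine ih (Nat.card M) ?_ rfl
        ⟨ht.hl, ht.ha, ht.hb, ht.hla, ht.hlb, ht.hab, h1, h2, h3,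
          fun h => ht.nla (degDvd_of_normal M h), fun h => ht.nlb (degDvd_of_normal M h),
          fun h => ht.nab (degDvd_of_normal M h)⟩
      rw [← hn]
      refine lt_of_le_of_ne (Nat.le_of_dvd Nat.card_pos M.card_subgroup_dvd_card) fun e => ?_
      exact hM1 (Subgroup.eq_top_of_card_eq M e)
    · exact case_one N hN1 hmin hNp hexp hNab ht hls hQ
  by_cases hl : DegDvd l (G ⧸ N)
  swap
  · exact core ht hl
  by_cases ha : DegDvd a (G ⧸ N)
  swap
  · exact core ht.rot ha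
  by_cases hb : DegDvd b (G ⧸ N)
  swap
  · exact core ht.rot.rot hb
  have hsurj := QuotientGroup.mk'_surjective N
  refine ih (Nat.card (G ⧸ N)) ?_ rfl
    ⟨ht.hl, ht.ha, ht.hb, ht.hla, ht.hlb, ht.hab, hl, ha, hb,
      fun h => ht.nla (degDvd_of_surjective _ hsurj h), fun h => ht.nlb (degDvd_of_surjective _ hsurj h),
      fun h => ht.nab (degDvd_of_surjective _ hsurj h)⟩
  rw [← hn, N.card_eq_card_quotient_mul_card_subgroup]
  exact lt_mul_of_one_lt_right Nat.card_pos (N.one_lt_card_iff_ne_bot.mpr hN1)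

end CfsgLib.Palfy80
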