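import Mathlib

/-!
# Products of fixed-point orders for a `p`-group acting coprimely

For a `p`-group `P` acting on a group `W` of order prime to `p`,
`(∏_{x ∈ P} |C_W(x)|) ^ p ≤ |W| ^ |P| * |C_W(P)| ^ (|P| (p - 1))`.
-/

set_option autoImplicit false

namespace CfsgLib.Structure80.FixedProduct

open scoped Pointwise

universe u v

variable {E : Type v} [Group E] {W : Type u} [Group W]

/-- The fixed points of an action. -/
def fixSub (φ : E →* MulAut W) : Subgroup W where
  carrier := {w | ∀ e, φ e w = w}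
  one_mem' e := map_one _
  mul_mem' {a b} ha hb e := by rw [map_mul, ha e, hb e]
  inv_mem' {a} ha e := by rw [map_inv, ha e]

lemma mem_fixSub {φ : E →* MulAut W} {w : W} : w ∈ fixSub φ ↔ ∀ e, φ e w = w := Iff.rfl

/-- Fixed points of one element. -/
def fixEl (φ : E →* MulAut W) (e : E) : Subgroup W := fixSub (φ.comp (Subgroup.zpowers e).subtype)

/-- Fixed points of two elements. -/
def fixPair (φ : E →* MulAut W) (x z : E) : Subgroup W :=
  fixSub (φ.comp (Subgroup.closure ({x, z} : Set E)).subtype)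

/-- The elements fixing a point form a subgroup. -/
def stab (φ : E →* MulAut W) (w : W) : Subgroup E where
  carrier := {e | φ e w = w}
  one_mem' := by simp
  mul_mem' {a b} ha hb := by
    show φ (a * b) w = w
    rw [map_mul, MulAut.mul_apply, hb, ha]
  inv_mem' {a} ha := by
    show φ a⁻¹ w = w
    conv_lhs => rw [← show φ a w = w from ha]
    rw [← MulAut.mul_apply, ← map_mul, inv_mul_cancel, map_one, MulAut.one_apply]

lemma mem_fixEl {φ : E →* MulAut W} {e : E} {w : W} : w ∈ fixEl φ e ↔ φ e w = w := by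
  refine ⟨fun h => h ⟨e, Subgroup.mem_zpowers e⟩, fun h ⟨a, ha⟩ => ?_⟩
  exact Subgroup.zpowers_le.2 (show e ∈ stab φ w from h) ha

lemma mem_fixPair {φ : E →* MulAut W} {x z : E} {w : W} :
    w ∈ fixPair φ x z ↔ φ x w = w ∧ φ z w = w := by
  refine ⟨fun h => ⟨h ⟨x, Subgroup.subset_closure (Or.inl rfl)⟩, h ⟨z, Subgroup.subset_closure (Or.inr rfl)⟩⟩,
    fun h ⟨a, ha⟩ => ?_⟩
  have : Subgroup.closure ({x, z} : Set E) ≤ stab φ w := by
    rw [Subgroup.closure_le]
    rintro y (rfl | rfl)
    exacts [h.1, h.2]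
  exact this ha

/-- Restriction to an invariant subgroup. -/
def restrictHom (φ : E →* MulAut W) (C : Subgroup W) (hC : ∀ e, ∀ w ∈ C, φ e w ∈ C) : E →* MulAut C where
  toFun e :=
    { toFun := fun w => ⟨φ e w, hC e w w.2⟩
      invFun := fun w => ⟨φ e⁻¹ w, hC e⁻¹ w w.2⟩
      left_inv := fun w => Subtype.ext (by simp)
      right_inv := fun w => Subtype.ext (by simp)
      map_mul' := fun a b => Subtype.ext (map_mul (φ e) (a : W) b) }
  map_one' := MulEquiv.ext fun w => Subtype.ext (by simp)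
  map_mul' a b := MulEquiv.ext fun w => Subtype.ext (by simp)

@[simp] lemma restrictHom_apply (φ : E →* MulAut W) (C : Subgroup W) (hC : ∀ e, ∀ w ∈ C, φ e w ∈ C)
    (e : E) (w : C) : ((restrictHom φ C hC e w : C) : W) = φ e w := rfl

/-- The induced action on an invariant quotient. -/
def quotHom (φ : E →* MulAut W) (N : Subgroup W) [N.Normal] (hN : ∀ e, ∀ w ∈ N, φ e w ∈ N) :
    E →* MulAut (W ⧸ N) where
  toFun e :=
    { toFun := QuotientGroup.map N N (φ e).toMonoidHom (fun w hw => hN e w hw)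
      invFun := QuotientGroup.map N N (φ e⁻¹).toMonoidHom (fun w hw => hN e⁻¹ w hw)
      left_inv := fun w => by
        induction w using QuotientGroup.induction_on with
        | H w => simp
      right_inv := fun w => by
        induction w using QuotientGroup.induction_on with
        | H w => simp
      map_mul' := fun a b => map_mul _ a b }
  map_one' := MulEquiv.ext fun w => by
    induction w using QuotientGroup.induction_on with
    | H w => simp
  map_mul' a b := MulEquiv.ext fun w => by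
    induction w using QuotientGroup.induction_on with
    | H w => simp

@[simp] lemma quotHom_mk (φ : E →* MulAut W) (N : Subgroup W) [N.Normal] (hN : ∀ e, ∀ w ∈ N, φ e w ∈ N)
    (e : E) (w : W) : quotHom φ N hN e (w : W ⧸ N) = ((φ e w : W) : W ⧸ N) := rfl

variable [Finite W] {p : ℕ} [hp : Fact p.Prime]

omit [Finite W] in
/-- A `p`-group fixes a point of an invariant set of size prime to `p`. -/
lemma exists_fixed {α : Type*} [Finite α] [MulAction E α] (hE : IsPGroup p E) (s : Set α)
    (hs : ∀ e : E, ∀ a ∈ s, e • a ∈ s) (hc : ¬ p ∣ Nat.card s) : ∃ a ∈ s, ∀ e : E, e • a = a := by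
  letI : MulAction E s :=
    { smul := fun e a => ⟨e • (a : α), hs e a a.2⟩
      one_smul := fun a => Subtype.ext (one_smul E (a : α))
      mul_smul := fun e f a => Subtype.ext (mul_smul e f (a : α)) }
  obtain ⟨⟨a, ha⟩, hfix⟩ := hE.nonempty_fixed_point_of_prime_not_dvd_card s hc
  exact ⟨a, ha, fun e => congrArg Subtype.val (hfix e)⟩

omit [Finite W] in
lemma not_dvd_of_dvd {a b : ℕ} (h : ¬ p ∣ b) (hd : a ∣ b) : ¬ p ∣ a := fun h' => h (h'.trans hd)

/-- Coprime fixed points of a quotient. -/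
lemma card_fixSub_quotient (hE : IsPGroup p E) (hW : ¬ p ∣ Nat.card W) (φ : E →* MulAut W)
    (N : Subgroup W) [N.Normal] (hN : ∀ e, ∀ w ∈ N, φ e w ∈ N) :
    Nat.card (fixSub φ) = Nat.card (fixSub (restrictHom φ N hN)) * Nat.card (fixSub (quotHom φ N hN)) := by
  let π : fixSub φ →* W ⧸ N := (QuotientGroup.mk' N).comp (fixSub φ).subtype
  have hrange : π.range = fixSub (quotHom φ N hN) := by
    ext y
    constructor
    · rintro ⟨⟨w, hw⟩, rfl⟩ e
      change ((φ e w : W) : W ⧸ N) = (w : W ⧸ N)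
      rw [hw e]
    · intro hy
      letI : MulAction E W := MulAction.compHom W φ
      obtain ⟨w0, rfl⟩ := QuotientGroup.mk'_surjective N y
      have hs : ∀ e : E, ∀ a ∈ {a : W | (a : W ⧸ N) = (w0 : W ⧸ N)}, e • a ∈ {a : W | (a : W ⧸ N) = (w0 : W ⧸ N)} := by
        intro e a ha
        change ((φ e a : W) : W ⧸ N) = (w0 : W ⧸ N)
        rw [← quotHom_mk φ N hN, show (a : W ⧸ N) = (w0 : W ⧸ N) from ha]
        exact hy e
      have hc : Nat.card {a : W | (a : W ⧸ N) = (w0 : W ⧸ N)} = Nat.card N := Nat.card_congr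
        { toFun := fun a => ⟨w0⁻¹ * a, QuotientGroup.eq.1 a.2.symm⟩
          invFun := fun n => ⟨w0 * n, (QuotientGroup.eq.2 (by simp)).symm⟩
          left_inv := fun a => Subtype.ext (mul_inv_cancel_left _ _)
          right_inv := fun n => Subtype.ext (inv_mul_cancel_left _ _) }
      obtain ⟨a, ha, hfix⟩ := exists_fixed hE _ hs
        (by rw [hc]; exact not_dvd_of_dvd hW (Subgroup.card_subgroup_dvd_card N))
      exact ⟨⟨a, hfix⟩, ha⟩
  have hker : Nat.card π.ker = Nat.card (fixSub (restrictHom φ N hN)) := Nat.card_congr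
    { toFun := fun a => ⟨⟨((a : fixSub φ) : W), (QuotientGroup.eq_one_iff _).1 a.2⟩,
        fun e => Subtype.ext ((a : fixSub φ).2 e)⟩
      invFun := fun a => ⟨⟨((a : N) : W), fun e => congrArg Subtype.val (a.2 e)⟩,
        (QuotientGroup.eq_one_iff _).2 (a : N).2⟩
      left_inv := fun a => rfl
      right_inv := fun a => rfl }
  rw [← Subgroup.card_mul_index π.ker, Subgroup.index_ker, hker, hrange]

omit [Finite W] hp in
lemma smul_smul_comm (a : MulAut W) (w : W) {r : ℕ} (S : Sylow r W) :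
    a • (w • S) = (a w) • (a • S) := by
  apply Sylow.ext
  ext y
  simp only [Sylow.coe_subgroup_smul, Sylow.pointwise_smul_def, Subgroup.mem_pointwise_smul_iff_inv_smul_mem,
    MulAut.smul_def]
  simp

/-- An invariant Sylow subgroup. -/
lemma exists_invariant_sylow (hE : IsPGroup p E) (hW : ¬ p ∣ Nat.card W) (φ : E →* MulAut W)
    (r : ℕ) [Fact r.Prime] : ∃ S : Sylow r W, ∀ e, φ e • S = S := by
  letI : MulAction E (Sylow r W) := MulAction.compHom _ φ
  have hd : Nat.card (Sylow r W) ∣ Nat.card W :=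
    ((default : Sylow r W).card_dvd_index).trans (Subgroup.index_dvd_card _)
  obtain ⟨S, -, hS⟩ := exists_fixed hE (Set.univ : Set (Sylow r W)) (fun _ _ _ => Set.mem_univ _)
    (by rw [Nat.card_univ]; exact not_dvd_of_dvd hW hd)
  exact ⟨S, hS⟩

omit [Finite W] hp in
lemma invariant_of_smul_eq (φ : E →* MulAut W) {r : ℕ} {S : Sylow r W} (hS : ∀ e, φ e • S = S) :
    ∀ e, ∀ w ∈ (S : Subgroup W), φ e w ∈ (S : Subgroup W) := by
  intro e w hw
  have h2 : φ e w ∈ φ e • (S : Subgroup W) := Subgroup.smul_mem_pointwise_smul w (φ e) _ hw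
  rw [← Sylow.pointwise_smul_def, hS e] at h2
  exact h2

/-- The fixed points on an invariant Sylow subgroup contain the full `r`-part. -/
lemma ordProj_fixSub_dvd (hE : IsPGroup p E) (hW : ¬ p ∣ Nat.card W) (φ : E →* MulAut W)
    {r : ℕ} [hr : Fact r.Prime] (S : Sylow r W) (hS : ∀ e, φ e • S = S) :
    r ^ (Nat.card (fixSub φ)).factorization r ∣
      Nat.card (fixSub (restrictHom φ (S : Subgroup W) (invariant_of_smul_eq φ hS))) := by
  obtain ⟨R0⟩ := (inferInstance : Nonempty (Sylow r (fixSub φ)))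
  set R := (R0 : Subgroup (fixSub φ)).map (fixSub φ).subtype with hR
  have hRc : Nat.card R = r ^ (Nat.card (fixSub φ)).factorization r := by
    rw [hR, Subgroup.card_map_of_injective (fixSub φ).subtype_injective, R0.card_eq_multiplicity]
  -- a maximal invariant `r`-subgroup containing `R`
  have hRinv : R ∈ {Q : Subgroup W | IsPGroup r Q ∧ R ≤ Q ∧ ∀ e, ∀ w ∈ Q, φ e w ∈ Q} :=
    ⟨R0.isPGroup'.map _, le_rfl, fun e w hw => by rw [(Subgroup.map_subtype_le _ hw) e]; exact hw⟩
  obtain ⟨Q, -, hQ⟩ := (Set.toFinite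
    {Q : Subgroup W | IsPGroup r Q ∧ R ≤ Q ∧ ∀ e, ∀ w ∈ Q, φ e w ∈ Q}).exists_le_maximal hRinv
  obtain ⟨⟨hQr, hRQ, hQinv⟩, hmax⟩ := hQ
  obtain ⟨n, hn⟩ := IsPGroup.iff_card.1 hQr
  have hn' : n = (Nat.card W).factorization r := by
    have hle : n ≤ (Nat.card W).factorization r :=
      (hr.out.pow_dvd_iff_le_factorization Nat.card_pos.ne').1 (hn ▸ Subgroup.card_subgroup_dvd_card Q)
    by_contra hne
    have hsucc : r ^ (n + 1) ∣ Nat.card W :=
      (pow_dvd_pow r (by omega)).trans (Nat.ordProj_dvd _ _)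
    have hN : ∀ e, ∀ w ∈ Subgroup.normalizer (Q : Set W), φ e w ∈ Subgroup.normalizer (Q : Set W) := by
      intro e w hw
      rw [Subgroup.mem_normalizer_iff] at hw ⊢
      intro y
      have hy : ∀ y, φ e y ∈ Q ↔ y ∈ Q := fun y => ⟨fun h => by
        have := hQinv e⁻¹ _ h
        rwa [← MulAut.mul_apply, ← map_mul, inv_mul_cancel, map_one, MulAut.one_apply] at this, hQinv e y⟩
      obtain ⟨y, rfl⟩ := (φ e).surjective y
      rw [← map_inv, ← map_mul, ← map_mul, hy, hy]
      exact hw y
    set N := Subgroup.normalizer (Q : Set W)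
    obtain ⟨T, hT⟩ := exists_invariant_sylow (W := N) hE
      (not_dvd_of_dvd hW (Subgroup.card_subgroup_dvd_card N)) (restrictHom φ N hN) r
    have hTinv := invariant_of_smul_eq _ hT
    haveI hQn : (Q.subgroupOf N).Normal := Subgroup.normal_in_normalizer
    have hQT : Q.subgroupOf N ≤ (T : Subgroup N) := by
      have hp1 : IsPGroup r (Q.subgroupOf N) := hQr.comap_subtype
      have h1 := T.is_maximal' (T.isPGroup'.to_sup_of_normal_right hp1) le_sup_left
      exact h1 ▸ le_sup_right
    have hQT' : Q ≤ (T : Subgroup N).map N.subtype := fun w hw =>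
      ⟨⟨w, Subgroup.le_normalizer hw⟩, hQT hw, rfl⟩
    have hmem : (T : Subgroup N).map N.subtype ∈
        {Q : Subgroup W | IsPGroup r Q ∧ R ≤ Q ∧ ∀ e, ∀ w ∈ Q, φ e w ∈ Q} := by
      refine ⟨T.isPGroup'.map _, hRQ.trans hQT', fun e w hw => ?_⟩
      obtain ⟨t, ht, rfl⟩ := hw
      exact ⟨_, hTinv e t ht, rfl⟩
    have heq := le_antisymm (hmax hmem hQT') hQT'
    have h1 : r ^ (n + 1) ∣ Nat.card N := by
      have h2 := Sylow.prime_dvd_card_quotient_normalizer hsucc hn
      have h3 := Subgroup.card_mul_index (Q.subgroupOf N)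
      rw [Subgroup.index_eq_card, Nat.card_congr (Subgroup.subgroupOfEquivOfLe Subgroup.le_normalizer).toEquiv, hn] at h3
      rw [← h3, pow_succ]
      exact Nat.mul_dvd_mul dvd_rfl h2
    have h4 := (hr.out.pow_dvd_iff_le_factorization Nat.card_pos.ne').1 h1
    have h5 : Nat.card Q = r ^ (Nat.card N).factorization r := by
      rw [← heq, Subgroup.card_map_of_injective N.subtype_injective, T.card_eq_multiplicity]
    rw [hn] at h5
    have := Nat.pow_right_injective hr.out.two_le h5
    omega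
  let T : Sylow r W := Sylow.ofCard Q (by rw [hn, hn'])
  have hTQ : (T : Subgroup W) = Q := rfl
  have hT : ∀ e, φ e • T = T := fun e => by
    apply Sylow.ext
    rw [Sylow.pointwise_smul_def, hTQ]
    refine Subgroup.eq_of_le_of_card_ge ?_ ?_
    · intro y hy
      rw [Subgroup.mem_pointwise_smul_iff_inv_smul_mem, MulAut.smul_def] at hy
      have := hQinv e _ hy
      simpa using this
    · exact (Nat.card_congr (Subgroup.equivSMul (φ e) Q).toEquiv).le
  -- `S` and `T` are conjugate by a fixed element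
  letI : MulAction E W := MulAction.compHom W φ
  let s : Set W := {w | w • T = S}
  have hs : ∀ e : E, ∀ w ∈ s, e • w ∈ s := by
    intro e w hw
    change (φ e w) • T = S
    conv_lhs => rw [← hT e]
    rw [← smul_smul_comm, show w • T = S from hw, hS e]
  obtain ⟨w0, hw0⟩ := MulAction.exists_smul_eq W T S
  have hsc : Nat.card s = Nat.card (MulAction.stabilizer W T) := Nat.card_congr
    { toFun := fun w => ⟨w0⁻¹ * w.1, by rw [MulAction.mem_stabilizer_iff, mul_smul, show w.1 • T = S from w.2, ← hw0, inv_smul_smul]⟩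
      invFun := fun k => ⟨w0 * k.1, by show (w0 * k.1) • T = S; rw [mul_smul, show k.1 • T = T from k.2, hw0]⟩
      left_inv := fun w => Subtype.ext (mul_inv_cancel_left _ _)
      right_inv := fun k => Subtype.ext (inv_mul_cancel_left _ _) }
  obtain ⟨c, hc, hcfix⟩ := exists_fixed hE s hs
    (by rw [hsc]; exact not_dvd_of_dvd hW (Subgroup.card_subgroup_dvd_card _))
  rw [← hRc]
  let g : R →* fixSub (restrictHom φ (S : Subgroup W) (invariant_of_smul_eq φ hS)) :=
    { toFun := fun u => ⟨⟨c * u.1 * c⁻¹, by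
        rw [← show c • T = S from hc, Sylow.coe_subgroup_smul, Subgroup.mem_pointwise_smul_iff_inv_smul_mem, hTQ]
        simpa [mul_assoc] using hRQ u.2⟩, fun e => Subtype.ext (by
        simp only [restrictHom_apply, map_mul, map_inv]
        rw [show φ e c = c from hcfix e, (Subgroup.map_subtype_le _ u.2) e])⟩
      map_one' := by ext; simp
      map_mul' := fun u v => by ext; simp [mul_assoc] }
  refine Subgroup.card_dvd_of_injective g fun u v huv => ?_
  have h1 : c * u.1 * c⁻¹ = c * v.1 * c⁻¹ :=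
    congrArg (fun a : fixSub (restrictHom φ (S : Subgroup W) (invariant_of_smul_eq φ hS)) => ((a : (S : Subgroup W)) : W)) huv
  exact Subtype.ext (mul_left_cancel (mul_right_cancel h1))

omit [Finite W] in
/-- The abelian case. -/
lemma card_prod_fixEl_dvd_comm {A : Type u} [CommGroup A] [Finite A] (hA : ¬ p ∣ Nat.card A) (φ : E →* MulAut A)
    (x z : E) (hcomm : Commute (φ x) (φ z)) (hz : φ z ^ p = 1) :
    (∏ i : ZMod p, Nat.card (fixEl φ (x * z ^ i.val))) * Nat.card (fixEl φ z) ∣
      Nat.card A * Nat.card (fixPair φ x z) ^ p := by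
  classical
  -- powers of `z` indexed by `ZMod p`
  let Z : ZMod p → MulAut A := fun k => φ z ^ k.val
  have hZadd : ∀ i j, Z (i + j) = Z i * Z j := fun i j => by
    simp only [Z, ← pow_add, ZMod.val_add]
    exact (pow_eq_pow_mod _ hz).symm
  have hZ0 : Z 0 = 1 := by simp [Z]
  have hZ1 : Z 1 = φ z := by simp [Z, ZMod.val_one]
  let nm : A → A := fun a => ∏ k : ZMod p, Z k a
  have hnm_mul : ∀ a b, nm (a * b) = nm a * nm b := fun a b => by
    simp only [nm, map_mul, Finset.prod_mul_distrib]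
  have hnm_z : ∀ a, φ z (nm a) = nm a := fun a => by
    simp only [nm, map_prod, ← hZ1, ← MulAut.mul_apply, ← hZadd]
    exact Equiv.prod_comp (Equiv.addLeft (1 : ZMod p)) (fun k => Z k a)
  have hnm_fix : ∀ a, φ z a = a → nm a = a ^ p := fun a ha => by
    have h : ∀ n : ℕ, (φ z ^ n) a = a := fun n => by
      induction n with
      | zero => simp
      | succ n ih => rw [pow_succ, MulAut.mul_apply, ha, ih]
    simp [nm, Z, h]
  have hcomm' : ∀ k a, φ x (Z k a) = Z k (φ x a) := fun k a => by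
    rw [← MulAut.mul_apply, ← MulAut.mul_apply, (hcomm.pow_right k.val).eq]
  -- the map
  have hel : ∀ (i : ZMod p) (a : A), a ∈ fixEl φ (x * z ^ i.val) → φ x a = Z (-i) a := fun i a ha => by
    have h1 : Z i (φ x a) = a := by
      rw [← hcomm']
      have := mem_fixEl.1 ha
      rwa [map_mul, MulAut.mul_apply, map_pow] at this
    conv_rhs => rw [← h1, ← MulAut.mul_apply, ← hZadd, neg_add_cancel, hZ0, MulAut.one_apply]
  have hpair : ∀ (i : ZMod p) (a : A), a ∈ fixEl φ (x * z ^ i.val) → nm a ∈ fixPair φ x z := fun i a ha => by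
    rw [mem_fixPair]
    refine ⟨?_, hnm_z a⟩
    simp only [nm, map_prod, hcomm', hel i a ha, ← MulAut.mul_apply, ← hZadd]
    exact Equiv.prod_comp (Equiv.addRight (-i)) (fun k => Z k a)
  let b : A → A := fun a => a ^ p * (nm a)⁻¹
  let NM : A →* A := MonoidHom.mk' nm hnm_mul
  have hb_mul : ∀ a a', b (a * a') = b a * b a' := fun a a' => by
    simp only [b, hnm_mul, mul_pow, mul_inv]
    exact mul_mul_mul_comm _ _ _ _
  have hb_nm : ∀ a, nm (b a) = 1 := fun a => by
    change NM (a ^ p * (NM a)⁻¹) = 1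
    rw [map_mul, map_pow, map_inv, show NM (NM a) = NM a ^ p from hnm_fix _ (hnm_z a), mul_inv_cancel]
  let Φ : ((i : ZMod p) → fixEl φ (x * z ^ i.val)) × fixEl φ z →* A × (ZMod p → fixPair φ x z) :=
    MonoidHom.mk' (fun t => ((∏ i, b (t.1 i : A)) * (t.2 : A), fun i => ⟨nm (t.1 i : A), hpair i _ (t.1 i).2⟩))
      fun t t' => by
        refine Prod.ext ?_ (funext fun i => Subtype.ext ?_)
        · simp only [Prod.fst_mul, Prod.snd_mul, Pi.mul_apply, Subgroup.coe_mul, hb_mul, Finset.prod_mul_distrib]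
          exact mul_mul_mul_comm _ _ _ _
        · simp only [Prod.fst_mul, Prod.snd_mul, Pi.mul_apply, Subgroup.coe_mul, hnm_mul]
  have hpinj : ∀ a : A, a ^ p = 1 → a = 1 := fun a ha => orderOf_eq_one_iff.1 <|
    ((Nat.dvd_prime hp.out).1 (orderOf_dvd_of_pow_eq_one ha)).resolve_right
      fun h => hA (h ▸ orderOf_dvd_natCard a)
  have hinj : Function.Injective Φ := by
    rw [injective_iff_map_eq_one]
    rintro ⟨a, c⟩ h
    have h1 : (∏ i, b (a i : A)) * (c : A) = 1 := congrArg Prod.fst h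
    have h2 : ∀ i, nm (a i : A) = 1 := fun i => congrArg Subtype.val (congrFun (congrArg Prod.snd h) i)
    have hc : (c : A) = 1 := by
      apply hpinj
      have h3 := congrArg NM h1
      rw [map_one, map_mul, map_prod, Finset.prod_eq_one (fun i _ => show NM (b (a i : A)) = 1 from hb_nm _), one_mul] at h3
      rw [← hnm_fix _ (mem_fixEl.1 c.2)]
      exact h3
    rw [hc, mul_one] at h1
    have hb : ∀ i, b (a i : A) = (a i : A) ^ p := fun i => by simp [b, h2 i]
    simp only [hb] at h1
    refine Prod.ext (funext fun j => Subtype.ext (hpinj _ ?_)) (Subtype.ext hc)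
    set y : ZMod p → A := fun i => (a i : A) ^ p with hy
    have hyi : ∀ i (n : ℕ), (φ x ^ n) (y i) = Z (-i * n) (y i) := by
      intro i n
      induction n with
      | zero => simp [hZ0]
      | succ n ih =>
        rw [pow_succ', MulAut.mul_apply, ih, hcomm', hel i _ (Subgroup.pow_mem _ (a i).2 p), ← MulAut.mul_apply,
          ← hZadd]
        push_cast
        rw [mul_add, mul_one]
    have hyn : ∀ i, nm (y i) = 1 := fun i => by
      change NM ((a i : A) ^ p) = 1
      rw [map_pow, show NM (a i : A) = 1 from h2 i, one_pow]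
    apply hpinj
    have hT : ∏ k : ZMod p, (Z (j * k) * φ x ^ k.val) (∏ i, y i) = 1 :=
      Finset.prod_eq_one fun k _ => by rw [show ∏ i, y i = 1 from h1, map_one]
    have hT' : ∏ k : ZMod p, ∏ i, Z ((j - i) * k) (y i) = 1 := by
      rw [← hT]
      refine Finset.prod_congr rfl fun k _ => ?_
      rw [map_prod]
      refine Finset.prod_congr rfl fun i _ => ?_
      rw [MulAut.mul_apply, hyi, ← MulAut.mul_apply, ← hZadd, ZMod.natCast_zmod_val]
      ring_nf
    replace hT := hT'
    rw [Finset.prod_comm, Finset.prod_eq_single j] at hT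
    · simpa [hZ0, y] using hT
    · intro i _ hij
      have hji : j - i ≠ 0 := sub_ne_zero.2 (Ne.symm hij)
      rw [← hyn i]
      simp only [nm]
      rw [← Equiv.prod_comp (Equiv.mulLeft₀ (j - i) hji) (fun k => Z k (y i))]
      refine Finset.prod_congr rfl fun k _ => ?_
      simp only [Equiv.mulLeft₀_apply]
    · exact fun h => absurd (Finset.mem_univ j) h
  have := Subgroup.card_dvd_of_injective Φ hinj
  rwa [Nat.card_prod, Nat.card_prod, Nat.card_pi, Nat.card_fun, Nat.card_zmod] at this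

lemma card_fixEl_quotient (hE : IsPGroup p E) (hW : ¬ p ∣ Nat.card W) (φ : E →* MulAut W)
    (N : Subgroup W) [N.Normal] (hN : ∀ e, ∀ w ∈ N, φ e w ∈ N) (e : E) :
    Nat.card (fixEl φ e) = Nat.card (fixEl (restrictHom φ N hN) e) * Nat.card (fixEl (quotHom φ N hN) e) :=
  card_fixSub_quotient (hE.to_subgroup _) hW (φ.comp (Subgroup.zpowers e).subtype) N fun a => hN _

lemma card_fixPair_quotient (hE : IsPGroup p E) (hW : ¬ p ∣ Nat.card W) (φ : E →* MulAut W)
    (N : Subgroup W) [N.Normal] (hN : ∀ e, ∀ w ∈ N, φ e w ∈ N) (x z : E) :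
    Nat.card (fixPair φ x z) =
      Nat.card (fixPair (restrictHom φ N hN) x z) * Nat.card (fixPair (quotHom φ N hN) x z) :=
  card_fixSub_quotient (hE.to_subgroup _) hW (φ.comp (Subgroup.closure ({x, z} : Set E)).subtype) N fun a => hN _

/-- The case of an `r`-group. -/
lemma card_prod_fixEl_dvd_pgroup (hE : IsPGroup p E) (r : ℕ) [Fact r.Prime] :
    ∀ (n : ℕ) (W : Type u) [Group W] [Finite W], Nat.card W ≤ n → IsPGroup r W → ¬ p ∣ Nat.card W →
      ∀ (φ : E →* MulAut W) (x z : E), Commute (φ x) (φ z) → φ z ^ p = 1 →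
      (∏ i : ZMod p, Nat.card (fixEl φ (x * z ^ i.val))) * Nat.card (fixEl φ z) ∣
        Nat.card W * Nat.card (fixPair φ x z) ^ p := by
  intro n
  induction n with
  | zero => intro W _ _ h; exact absurd (Nat.le_zero.1 h) Nat.card_pos.ne'
  | succ n ih =>
    intro W _ _ hn hr hW φ x z hcomm hz
    by_cases hab : Subgroup.center W = ⊤
    · letI : CommGroup W :=
        { (inferInstance : Group W) with
          mul_comm := fun a b => (Subgroup.mem_center_iff.1 (hab ▸ Subgroup.mem_top a) b).symm }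
      exact card_prod_fixEl_dvd_comm hW φ x z hcomm hz
    set N := Subgroup.center W
    have hN : ∀ e, ∀ w ∈ N, φ e w ∈ N := fun e w hw => by
      rw [Subgroup.mem_center_iff]
      intro g
      obtain ⟨g, rfl⟩ := (φ e).surjective g
      rw [← map_mul, ← map_mul, Subgroup.mem_center_iff.1 hw g]
    haveI : Nontrivial W := by
      by_contra h
      rw [not_nontrivial_iff_subsingleton] at h
      exact hab (Subsingleton.elim _ _)
    haveI := hr.center_nontrivial
    have h1 := Subgroup.card_eq_card_quotient_mul_card_subgroup N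
    have hN1 : 1 < Nat.card N := Finite.one_lt_card
    have hN2 : Nat.card N < Nat.card W := lt_of_le_of_ne (Nat.le_of_dvd Nat.card_pos (Subgroup.card_subgroup_dvd_card N))
      fun h => hab (Subgroup.eq_top_of_card_eq N h)
    have hQ2 : Nat.card (W ⧸ N) < Nat.card W := by
      rw [h1]; exact lt_mul_of_one_lt_right Nat.card_pos hN1
    have hres : ∀ (V : Type u) [Group V] (ψ : E →* MulAut V) (f : ∀ e, φ e = 1 → ψ e = 1),
        Commute (φ x) (φ z) → φ z ^ p = 1 → (Commute (ψ x) (ψ z) ∧ ψ z ^ p = 1) := by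
      intro V _ ψ f hc hz
      refine ⟨?_, by rw [← map_pow]; exact f _ (by rw [map_pow, hz])⟩
      have h2 : ψ (x * z * (z * x)⁻¹) = 1 := f _ (by rw [map_mul, map_inv, map_mul, map_mul, hc.eq, mul_inv_cancel])
      rw [map_mul, map_inv, map_mul, map_mul, mul_inv_eq_one] at h2
      exact h2
    obtain ⟨hc1, hz1⟩ := hres N (restrictHom φ N hN) (fun e he => MulEquiv.ext fun w => Subtype.ext (by simp [he])) hcomm hz
    obtain ⟨hc2, hz2⟩ := hres (W ⧸ N) (quotHom φ N hN) (fun e he => MulEquiv.ext fun w => by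
      induction w using QuotientGroup.induction_on with
      | H w => simp [he]) hcomm hz
    have A := ih N (by omega) (hr.to_subgroup N) (not_dvd_of_dvd hW (Subgroup.card_subgroup_dvd_card N)) _ x z hc1 hz1
    have B := ih (W ⧸ N) (by omega) (hr.to_quotient N) (not_dvd_of_dvd hW (Subgroup.card_quotient_dvd_card N)) _ x z hc2 hz2
    simp only [fun e => card_fixEl_quotient hE hW φ N hN e, card_fixPair_quotient hE hW φ N hN x z,
      Finset.prod_mul_distrib, h1]
    refine Eq.subst ?_ (Nat.mul_dvd_mul A B) (motive := fun t : ℕ × ℕ => t.1 ∣ t.2) (a := (_, _)) (b := (_, _))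
    refine Prod.ext ?_ ?_ <;> ring

omit hp in
lemma ordProj_prod {ι : Type*} (s : Finset ι) (f : ι → ℕ) (hf : ∀ i ∈ s, f i ≠ 0) (r : ℕ) :
    r ^ (∏ i ∈ s, f i).factorization r = ∏ i ∈ s, r ^ (f i).factorization r := by
  rw [Nat.factorization_prod hf, Finsupp.finsetSum_apply, ← Finset.prod_pow_eq_pow_sum]

/-- Fixed points of a coset of a central element of order `p`. -/
theorem card_prod_fixEl_dvd (hE : IsPGroup p E) (hW : ¬ p ∣ Nat.card W) (φ : E →* MulAut W) (x z : E)
    (hcomm : Commute (φ x) (φ z)) (hz : φ z ^ p = 1) :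
    (∏ i : ZMod p, Nat.card (fixEl φ (x * z ^ i.val))) * Nat.card (fixEl φ z) ∣
      Nat.card W * Nat.card (fixPair φ x z) ^ p := by
  set L := (∏ i : ZMod p, Nat.card (fixEl φ (x * z ^ i.val))) * Nat.card (fixEl φ z) with hL
  have hL0 : L ≠ 0 := mul_ne_zero (Finset.prod_ne_zero_iff.2 fun i _ => Nat.card_pos.ne') Nat.card_pos.ne'
  rw [Nat.dvd_iff_prime_pow_dvd_dvd]
  intro r k hr hk
  haveI := Fact.mk hr
  refine (pow_dvd_pow r ((hr.pow_dvd_iff_le_factorization hL0).1 hk)).trans ?_
  obtain ⟨S, hS⟩ := exists_invariant_sylow hE hW φ r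
  set ψ := restrictHom φ (S : Subgroup W) (invariant_of_smul_eq φ hS) with hψ
  have hel : ∀ e, r ^ (Nat.card (fixEl φ e)).factorization r ∣ Nat.card (fixEl ψ e) := fun e =>
    ordProj_fixSub_dvd (hE.to_subgroup _) hW (φ.comp (Subgroup.zpowers e).subtype) S fun a => hS _
  have hWS : ¬ p ∣ Nat.card (S : Subgroup W) := not_dvd_of_dvd hW (Subgroup.card_subgroup_dvd_card _)
  have key := card_prod_fixEl_dvd_pgroup hE r _ (S : Subgroup W) le_rfl S.isPGroup' hWS ψ x z
    (MulEquiv.ext fun w => Subtype.ext (by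
      simp only [hψ, MulAut.mul_apply, restrictHom_apply]
      rw [← MulAut.mul_apply, ← MulAut.mul_apply, hcomm.eq]))
    (by
      rw [← map_pow]
      refine MulEquiv.ext fun w => Subtype.ext ?_
      rw [hψ, restrictHom_apply, map_pow, hz]
      rfl)
  refine (dvd_trans ?_ key).trans (Nat.mul_dvd_mul (Subgroup.card_subgroup_dvd_card _) (pow_dvd_pow_of_dvd ?_ p))
  · rw [hL, Nat.ordProj_mul r (Finset.prod_ne_zero_iff.2 fun i _ => Nat.card_pos.ne') Nat.card_pos.ne',
      ordProj_prod _ _ (fun i _ => Nat.card_pos.ne')]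
    exact Nat.mul_dvd_mul (Finset.prod_dvd_prod_of_dvd _ _ fun i _ => hel _) (hel z)
  · let g : fixPair ψ x z →* fixPair φ x z :=
      MonoidHom.mk' (fun w => ⟨((w : (S : Subgroup W)) : W), fun a => congrArg Subtype.val (w.2 a)⟩) fun a b => rfl
    exact Subgroup.card_dvd_of_injective g fun a b h =>
      Subtype.ext (Subtype.ext (congrArg (fun w : fixPair φ x z => (w : W)) h))

/-- The product over a whole `p`-group. -/
theorem prod_fixEl_le [Fintype E] (hE : IsPGroup p E) :
    ∀ (n : ℕ) (W : Type u) [Group W] [Finite W], Nat.card W ≤ n → ¬ p ∣ Nat.card W → ∀ φ : E →* MulAut W,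
      (∏ x : E, Nat.card (fixEl φ x)) ^ p ≤
        Nat.card W ^ Nat.card E * Nat.card (fixSub φ) ^ (Nat.card E * (p - 1)) := by
  intro n
  induction n with
  | zero => intro W _ _ h; exact absurd (Nat.le_zero.1 h) Nat.card_pos.ne'
  | succ n ih =>
    intro W _ _ hn hW φ
    classical
    by_cases htriv : φ.ker = ⊤
    · have h1 : ∀ x, φ x = 1 := fun x => MonoidHom.mem_ker.1 (htriv ▸ Subgroup.mem_top x)
      have h2 : ∀ x, fixEl φ x = ⊤ := fun x => eq_top_iff.2 fun w _ => mem_fixEl.2 (by rw [h1, MulAut.one_apply])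
      have h3 : fixSub φ = ⊤ := eq_top_iff.2 fun w _ e => by rw [h1, MulAut.one_apply]
      simp only [h2, h3, Subgroup.card_top, Finset.prod_const, Finset.card_univ, ← Nat.card_eq_fintype_card]
      rw [← pow_mul, ← pow_add]
      have := hp.out.one_lt
      refine le_of_eq (congrArg _ ?_)
      rw [add_comm, ← Nat.mul_succ]
      congr 1
      omega
    -- an element central modulo the kernel
    haveI : Nontrivial (E ⧸ φ.ker) := QuotientGroup.nontrivial_iff.2 htriv
    have hQ : IsPGroup p (E ⧸ φ.ker) := hE.to_quotient _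
    haveI := hQ.center_nontrivial
    obtain ⟨k, hk0, hk⟩ := (IsPGroup.nontrivial_iff_card (hQ.to_subgroup (Subgroup.center (E ⧸ φ.ker)))).1 inferInstance
    obtain ⟨zb, hzb⟩ := exists_prime_orderOf_dvd_card' (G := Subgroup.center (E ⧸ φ.ker)) p (hk ▸ dvd_pow_self p hk0.ne')
    obtain ⟨z, hz⟩ := QuotientGroup.mk'_surjective φ.ker (zb : E ⧸ φ.ker)
    have hzK : φ z ≠ 1 := fun h => by
      have : (zb : E ⧸ φ.ker) = 1 := by
        rw [← hz, QuotientGroup.mk'_apply, QuotientGroup.eq_one_iff]; exact h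
      rw [← Subgroup.orderOf_coe, this, orderOf_one] at hzb
      exact hp.out.ne_one hzb.symm
    have hzp : φ z ^ p = 1 := by
      rw [← map_pow, ← MonoidHom.mem_ker, ← QuotientGroup.eq_one_iff, ← QuotientGroup.mk'_apply, map_pow, hz,
        ← hzb, ← SubgroupClass.coe_pow, pow_orderOf_eq_one]
      rfl
    have hzc : ∀ x, Commute (φ x) (φ z) := fun x => by
      have h1 := Subgroup.mem_center_iff.1 zb.2 (x : E ⧸ φ.ker)
      rw [← hz, ← QuotientGroup.mk'_apply, ← map_mul, ← map_mul, QuotientGroup.mk'_eq_mk'] at h1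
      obtain ⟨y, hy, hxy⟩ := h1
      change φ x * φ z = φ z * φ x
      rw [← map_mul, ← map_mul, ← hxy, map_mul _ (x * z), MonoidHom.mem_ker.1 hy, mul_one]
    set C := fixEl φ z
    have hC : ∀ e, ∀ w ∈ C, φ e w ∈ C := fun e w hw => by
      rw [mem_fixEl, ← MulAut.mul_apply, ← (hzc e).eq, MulAut.mul_apply, mem_fixEl.1 hw]
    have hCne : C ≠ ⊤ := fun h => hzK (MulEquiv.ext fun w => by
      rw [MulAut.one_apply]
      exact mem_fixEl.1 (h ▸ Subgroup.mem_top w : w ∈ C))
    have hClt : Nat.card C < Nat.card W := lt_of_le_of_ne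
      (Nat.le_of_dvd Nat.card_pos (Subgroup.card_subgroup_dvd_card C)) fun h => hCne (Subgroup.eq_top_of_card_eq C h)
    set ψ := restrictHom φ C hC
    have hI := ih C (by omega) (not_dvd_of_dvd hW (Subgroup.card_subgroup_dvd_card C)) ψ
    have hsub : Nat.card (fixSub ψ) = Nat.card (fixSub φ) := Nat.card_congr
      { toFun := fun w => ⟨((w : C) : W), fun e => congrArg Subtype.val (w.2 e)⟩
        invFun := fun w => ⟨⟨(w : W), mem_fixEl.2 (w.2 z)⟩, fun e => Subtype.ext (w.2 e)⟩
        left_inv := fun w => rfl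
        right_inv := fun w => rfl }
    have hpair : ∀ x, Nat.card (fixPair φ x z) = Nat.card (fixEl ψ x) := fun x => Nat.card_congr
      { toFun := fun w => ⟨⟨(w : W), mem_fixEl.2 (mem_fixPair.1 w.2).2⟩,
          mem_fixEl.2 (Subtype.ext (mem_fixPair.1 w.2).1)⟩
        invFun := fun w => ⟨((w : C) : W),
          mem_fixPair.2 ⟨congrArg Subtype.val (mem_fixEl.1 w.2), mem_fixEl.1 (w : C).2⟩⟩
        left_inv := fun w => rfl
        right_inv := fun w => rfl }
    have hstep : ∀ x : E, (∏ i : ZMod p, Nat.card (fixEl φ (x * z ^ i.val))) * Nat.card C ≤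
        Nat.card W * Nat.card (fixEl ψ x) ^ p := fun x => by
      rw [← hpair]
      exact Nat.le_of_dvd (Nat.mul_pos Nat.card_pos (pow_pos Nat.card_pos p))
        (card_prod_fixEl_dvd hE hW φ x z (hzc x) hzp)
    have hall := Finset.prod_le_prod' (s := (Finset.univ : Finset E)) (fun x _ => hstep x)
    rw [Finset.prod_mul_distrib, Finset.prod_mul_distrib, Finset.prod_pow, Finset.prod_const, Finset.prod_const,
      Finset.card_univ, ← Nat.card_eq_fintype_card, Finset.prod_comm,
      Finset.prod_congr rfl (fun (i : ZMod p) _ => show (∏ x : E, Nat.card (fixEl φ (x * z ^ i.val))) = ∏ x : E, Nat.card (fixEl φ x) from Equiv.prod_comp (Equiv.mulRight (z ^ i.val)) (fun x => Nat.card (fixEl φ x))),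
      Finset.prod_const, Finset.card_univ, ZMod.card] at hall
    rw [hsub] at hI
    refine Nat.le_of_mul_le_mul_right ?_ (pow_pos (Nat.card_pos (α := C)) (Nat.card E))
    calc (∏ x : E, Nat.card (fixEl φ x)) ^ p * Nat.card C ^ Nat.card E
        ≤ Nat.card W ^ Nat.card E * (∏ x : E, Nat.card (fixEl ψ x)) ^ p := hall
      _ ≤ Nat.card W ^ Nat.card E * (Nat.card C ^ Nat.card E * Nat.card (fixSub φ) ^ (Nat.card E * (p - 1))) :=
          Nat.mul_le_mul le_rfl hI
      _ = _ := by ring

end CfsgLib.Structure80.FixedProduct
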