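import Mathlib
import Cfsg.Agent.Lib.Solvable.Fitting

/-!
Small general lemmas used by helper80's statements.
-/

namespace CfsgLib.Structure80

variable {G : Type*} [Group G] [Finite G]

/-- A subgroup not inside `N` has an element of prime power order outside `N`. -/
theorem exists_primePow_mem_not_mem {C N : Subgroup G} (h : ¬ C ≤ N) :
    ∃ q : ℕ, q.Prime ∧ ∃ y ∈ C, y ∉ N ∧ ∃ k : ℕ, y ^ q ^ k = 1 := by
  by_contra hcon
  push Not at hcon
  apply h
  rw [← Subgroup.subgroupOf_eq_top]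
  apply CfsgLib.Fitting.eq_top_of_forall_sylow_le
  intro q hq _
  have := Fact.mk hq
  obtain ⟨Q⟩ := (inferInstance : Nonempty (Sylow q C))
  refine ⟨Q, fun y hy => ?_⟩
  by_contra hyN
  obtain ⟨k, hk⟩ := Q.isPGroup' ⟨y, hy⟩
  exact hcon q hq y y.2 hyN k (by simpa using congrArg Subtype.val (congrArg Subtype.val hk))

/-- A `q`-element outside a normal subgroup forces `q` to divide the index. -/
theorem dvd_index_of_pow_eq_one_of_not_mem (N : Subgroup G) [N.Normal] {q k : ℕ} (hq : q.Prime)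
    {y : G} (hy : y ∉ N) (hk : y ^ q ^ k = 1) : q ∣ N.index := by
  have h0 : ((QuotientGroup.mk' N) y) ≠ 1 := fun h => hy ((QuotientGroup.eq_one_iff (N := N) y).1 h)
  have h1 : ((QuotientGroup.mk' N) y) ^ q ^ k = 1 := by rw [← map_pow, hk, map_one]
  obtain ⟨i, -, hi⟩ := (Nat.dvd_prime_pow hq).1 (orderOf_dvd_of_pow_eq_one h1)
  have hd : orderOf ((QuotientGroup.mk' N) y) ∣ N.index := orderOf_dvd_natCard _
  have hi0 : i ≠ 0 := by
    rintro rfl
    exact h0 (orderOf_eq_one_iff.1 (by simpa using hi))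
  exact (dvd_pow_self q hi0).trans (hi ▸ hd)

omit [Finite G] in
/-- Membership in a conjugate Sylow subgroup. -/
theorem mem_smul_sylow {p : ℕ} {g x : G} {P : Sylow p G} :
    x ∈ ((g • P : Sylow p G) : Subgroup G) ↔ g⁻¹ * x * g ∈ (P : Subgroup G) := by
  rw [Sylow.coe_subgroup_smul, Subgroup.mem_pointwise_smul_iff_inv_smul_mem]
  simp [MulAut.smul_def]

end CfsgLib.Structure80
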