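import Mathlib
import Cfsg.Agent.Lib.Recognition.ComplementNonsolvable
import Cfsg.Agent.Lib.Frobenius.Action
import Cfsg.Agent.Lib.TwoGroups.OneInvolution
import Cfsg.Agent.Lib.Fusion.DihedralTop
import Cfsg.Agent.Lib.Solvable.Fitting
import Cfsg.Agent.Lib.Characters.Burnside
import Cfsg.Agent.S3742

/-!
Automorphisms of groups acting without fixed points: a coprime group of automorphisms of a
solvable such group is solvable.
-/

set_option autoImplicit false

namespace CfsgLib.Structure80.ComplementAut

open CfsgLib.Frobenius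

variable {H N : Type*} [Group H] [Finite H] [Group N] [Finite N] [Nontrivial N]
  [MulDistribMulAction H N]

/-- A group acting without fixed points and without subgroups `SL(2,5)` is solvable. -/
theorem isSolvable_of_no_sl25 (h : IsFPF H N)
    (hno : ∀ K : Subgroup H, ¬ Nonempty (K ≃* Matrix.SpecialLinearGroup (Fin 2) (ZMod 5))) :
    Group.IsSolvable H := by
  by_contra hns
  obtain ⟨-, -, -, S, -, -, -, -, -, -, hS, -, -⟩ :=
    CfsgLib.Recognition.Complement.structure_of_fpf h hns
  exact hno S hS

omit [Finite H] in
theorem isSolvable_mulAut_of_cyclic [IsCyclic H] : Group.IsSolvable (MulAut H) :=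
  Group.isSolvable_of_comm fun a b => by
    apply (IsCyclic.mulAutMulEquiv H).injective
    rw [map_mul, map_mul, mul_comm]

/-- The automorphism group of a `p`-group acting without fixed points is solvable. -/
theorem isSolvable_mulAut_pGroup (h : IsFPF H N) {p : ℕ} [hp : Fact p.Prime] (hH : IsPGroup p H) :
    Group.IsSolvable (MulAut H) := by
  rcases eq_or_ne p 2 with rfl | hp2
  · have h1 : ∀ a b : H, orderOf a = 2 → orderOf b = 2 → a = b := by
      intro a b ha hb
      refine h.involution_unique ?_ ?_ ?_ ?_
      · rintro rfl; simp at ha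
      · rw [← sq, ← ha, pow_orderOf_eq_one]
      · rintro rfl; simp at hb
      · rw [← sq, ← hb, pow_orderOf_eq_one]
    rcases CfsgLib.TwoGroups.OneInvolution.isCyclic_or_quaternion hH h1 with hc | ⟨n, hn, ⟨e⟩⟩
    · exact isSolvable_mulAut_of_cyclic
    · suffices hs : Group.IsSolvable (MulAut (QuaternionGroup (2 ^ n))) from
        Group.isSolvable_of_isSolvable_injective (f := (MulAut.congr e).toMonoidHom)
          (MulAut.congr e).injective
      rcases Nat.lt_or_ge n 2 with hn2 | hn2
      · obtain rfl : n = 1 := by omega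
        obtain ⟨e'⟩ := Cfsg.Agent.S3742.result
        haveI : NeZero (2 ^ 1) := ⟨two_ne_zero⟩
        change Group.IsSolvable (MulAut (QuaternionGroup 2))
        refine CfsgLib.Burnside.isSolvable_of_card_eq Nat.prime_two Nat.prime_three 3 1 ?_
        rw [Nat.card_congr e'.toEquiv, Nat.card_perm, Nat.card_fin]
        rfl
      · haveI : NeZero (2 ^ n) := ⟨(pow_pos two_pos n).ne'⟩
        haveI := (CfsgLib.Fusion.isPGroup_mulAut_quaternion n hn2).isNilpotent
        infer_instance
  · haveI : IsCyclic H := by
      haveI := CfsgLib.Recognition.Complement.isCyclic_odd_pgroup h hp2 (⊤ : Subgroup H)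
        (hH.to_subgroup ⊤)
      exact isCyclic_of_surjective _ Subgroup.topEquiv.surjective
    exact isSolvable_mulAut_of_cyclic

/-- A group of automorphisms of coprime order of a solvable group acting without fixed points is
solvable. -/
theorem isSolvable_of_coprime_mulAut (h : IsFPF H N) [Group.IsSolvable H] {J : Type*} [Group J]
    [Finite J] (f : J →* MulAut H) (hf : Function.Injective f)
    (hcop : (Nat.card J).Coprime (Nat.card H)) : Group.IsSolvable J := by
  classical
  let I := {p : ℕ // p ∈ (Nat.card H).primeFactors}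
  have hchar : ∀ p : ℕ, (Cfsg.pCore p H).Characteristic :=
    CfsgLib.Fitting.pCore_characteristic
  have hmem : ∀ (p : ℕ) (σ : MulAut H) (x : H), x ∈ Cfsg.pCore p H → σ x ∈ Cfsg.pCore p H := by
    intro p σ x hx
    have := Subgroup.characteristic_iff_comap_eq.1 (hchar p) σ
    rw [← this] at hx
    exact hx
  let r : ∀ p : ℕ, J →* MulAut (Cfsg.pCore p H) := fun p =>
    { toFun := fun j =>
        { toFun := fun x => ⟨f j x, hmem p _ _ x.2⟩
          invFun := fun x => ⟨f j⁻¹ x, hmem p _ _ x.2⟩
          left_inv := fun x => Subtype.ext (by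
            change f j⁻¹ (f j (x : H)) = _
            rw [← MulAut.mul_apply, ← map_mul, inv_mul_cancel, map_one, MulAut.one_apply])
          right_inv := fun x => Subtype.ext (by
            change f j (f j⁻¹ (x : H)) = _
            rw [← MulAut.mul_apply, ← map_mul, mul_inv_cancel, map_one, MulAut.one_apply])
          map_mul' := fun x y => Subtype.ext (map_mul (f j) (x : H) y) }
      map_one' := MulEquiv.ext fun x => Subtype.ext (by
        change f 1 (x : H) = _
        rw [map_one]; rfl)
      map_mul' := fun a b => MulEquiv.ext fun x => Subtype.ext (by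
        change f (a * b) (x : H) = f a (f b x)
        rw [map_mul]; rfl) }
  have hker : ∀ j : J, (∀ p : I, r p j = 1) → j = 1 := by
    intro j hj
    have hfix : ∀ y ∈ Cfsg.fittingSubgroup H, f j y = y := by
      have hle : Cfsg.fittingSubgroup H ≤
          (f j : MulAut H).toMonoidHom.eqLocus (MonoidHom.id H) := by
        rw [CfsgLib.Fitting.fitting_eq_iSup_pCore]
        refine iSup_le fun p x hx => ?_
        exact congrArg Subtype.val (DFunLike.congr_fun (hj p) ⟨x, hx⟩)
      exact hle
    have hnorm := CfsgLib.Fitting.fitting_normal (G := H)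
    apply hf
    rw [map_one]
    refine MulEquiv.ext fun x => ?_
    rw [MulAut.one_apply]
    set c := x⁻¹ * f j x with hc
    have hcF : c ∈ Cfsg.fittingSubgroup H := by
      refine CfsgLib.Fitting.centralizer_fitting_le (G := H) ?_
      rw [Subgroup.mem_centralizer_iff]
      intro y hy
      have h1 : f j (x * y * x⁻¹) = x * y * x⁻¹ := hfix _ (hnorm.conj_mem y hy x)
      rw [map_mul, map_mul, hfix y hy, map_inv] at h1
      calc y * c = x⁻¹ * (x * y * x⁻¹) * f j x := by rw [hc]; group
        _ = x⁻¹ * (f j x * y * (f j x)⁻¹) * f j x := by rw [h1]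
        _ = c * y := by rw [hc]; group
    have hk : ∀ k : ℕ, f (j ^ k) x = x * c ^ k := by
      intro k
      induction k with
      | zero => simp
      | succ k ih =>
        rw [pow_succ', map_mul, MulAut.mul_apply, ih, map_mul, map_pow (f j), hfix c hcF, pow_succ' c,
          ← mul_assoc, hc, mul_inv_cancel_left]
    have h2 := hk (orderOf j)
    rw [pow_orderOf_eq_one, map_one, MulAut.one_apply] at h2
    have h3 : orderOf c ∣ orderOf j := orderOf_dvd_of_pow_eq_one (left_eq_mul.1 h2)
    have h4 : c = 1 := orderOf_eq_one_iff.1 (Nat.eq_one_of_dvd_coprimes hcop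
      (h3.trans (orderOf_dvd_natCard j)) (orderOf_dvd_natCard c))
    rw [hc, inv_mul_eq_one] at h4
    exact h4.symm
  have hsol : ∀ p : I, Group.IsSolvable (MulAut (Cfsg.pCore (p : ℕ) H)) := fun p => by
    haveI : Fact (p : ℕ).Prime := ⟨Nat.prime_of_mem_primeFactors p.2⟩
    exact isSolvable_mulAut_pGroup
      (h.comp (Cfsg.pCore (p : ℕ) H).subtype (Subgroup.subtype_injective _))
      (CfsgLib.Fitting.pCore_isPGroup (p : ℕ))
  choose n hn using fun p : I => (Group.isSolvable_def _).1 (hsol p)
  rw [Group.isSolvable_def]
  refine ⟨∑ p, n p, eq_bot_iff.2 fun j hj => ?_⟩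
  rw [Subgroup.mem_bot]
  refine hker j fun p => ?_
  have h1 := map_derivedSeries_le_derivedSeries (r p) _ (Subgroup.mem_map_of_mem (r p) hj)
  have h2 : derivedSeries (MulAut (Cfsg.pCore (p : ℕ) H)) (∑ p, n p) = ⊥ := by
    rw [eq_bot_iff, ← hn p]
    exact derivedSeries_antitone _ (Finset.single_le_sum (fun _ _ => Nat.zero_le _) (Finset.mem_univ p))
  rw [h2] at h1
  exact h1

end CfsgLib.Structure80.ComplementAut
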