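import Mathlib
import Cfsg.Agent.Lib.PrimRecog.CyclicPrimePower
import Cfsg.Agent.S0675

/-!
A permutation group of odd order with a regular cyclic `p`-subgroup is solvable.
-/

set_option autoImplicit false

namespace CfsgLib.Structure80.CyclicRegularOdd

open MulAction
open scoped Pointwise

/-- Jointly injective maps into solvable groups. -/
theorem isSolvable_of_joint {G : Type*} [Group G] {ι : Type*} [Finite ι] {K : ι → Type*}
    [∀ i, Group (K i)] (f : ∀ i, G →* K i) (hs : ∀ i, Group.IsSolvable (f i).range)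
    (hinj : ∀ g, (∀ i, f i g = 1) → g = 1) : Group.IsSolvable G := by
  classical
  have := Fintype.ofFinite ι
  choose n hn using fun i => (Group.isSolvable_def _).1 (hs i)
  rw [Group.isSolvable_def]
  refine ⟨∑ i, n i, eq_bot_iff.2 fun g hg => ?_⟩
  rw [Subgroup.mem_bot]
  refine hinj g fun i => ?_
  have h1 := map_derivedSeries_le_derivedSeries (f i).rangeRestrict _ (Subgroup.mem_map_of_mem _ hg)
  have h2 : derivedSeries (f i).range (∑ i, n i) = ⊥ := by
    rw [eq_bot_iff, ← hn i]
    exact derivedSeries_antitone _ (Finset.single_le_sum (fun _ _ => Nat.zero_le _) (Finset.mem_univ i))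
  rw [h2, Subgroup.mem_bot] at h1
  exact congrArg Subtype.val h1

/-- A two-transitive group on at least three points has even order. -/
theorem two_dvd_of_twoTrans {G Ω : Type*} [Group G] [Finite G] [MulAction G Ω] {a b : Ω} (hab : a ≠ b)
    (h2 : IsMultiplyPretransitive G Ω 2) : 2 ∣ Nat.card G := by
  rw [is_two_pretransitive_iff] at h2
  obtain ⟨g, hga, hgb⟩ := h2 hab hab.symm
  by_contra hodd
  have ho : Odd (orderOf g) := by
    rw [← Nat.not_even_iff_odd, even_iff_two_dvd]
    exact fun h => hodd (h.trans (orderOf_dvd_natCard g))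
  obtain ⟨t, ht⟩ := ho
  have h3 : ∀ k : ℕ, g ^ (2 * k) • a = a := by
    intro k
    induction k with
    | zero => simp
    | succ k ih => rw [mul_add, pow_add, mul_smul, pow_two, mul_smul, hga, hgb, ih]
  apply hab
  have h4 := pow_orderOf_eq_one g
  rw [ht, pow_succ'] at h4
  calc a = (g * g ^ (2 * t)) • a := by rw [h4, one_smul]
    _ = b := by rw [mul_smul, h3, hga]

/-- The image in the symmetric group of a group of odd order with a cyclic `p`-subgroup acting
regularly is solvable. -/
theorem isSolvable_range (p : ℕ) [hp : Fact p.Prime] : ∀ (m : ℕ) {G Ω : Type*} [Group G] [Finite G]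
    [Finite Ω] [MulAction G Ω], Odd (Nat.card G) → Nat.card Ω = p ^ m →
    ∀ (C : Subgroup G), IsCyclic C → IsPretransitive C Ω →
      Group.IsSolvable (toPermHom G Ω).range := by
  intro m
  induction m using Nat.strong_induction_on with
  | _ m ih =>
  intro G Ω _ _ _ _ hodd hn C hC hCt
  classical
  rcases Nat.eq_zero_or_pos m with rfl | hm
  · haveI : Subsingleton Ω := by
      rw [pow_zero] at hn
      exact (Nat.card_eq_one_iff_unique.1 hn).1
    exact inferInstance
  haveI : IsPretransitive G Ω := ⟨fun x y => by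
    obtain ⟨c, hc⟩ := hCt.exists_smul_eq x y
    exact ⟨c, hc⟩⟩
  have hodd' : Odd (Nat.card (toPermHom G Ω).range) := Odd.of_dvd_nat hodd (Subgroup.card_range_dvd _)
  haveI : Nontrivial Ω := Finite.one_lt_card_iff_nontrivial.mp (by
    rw [hn]; exact Nat.one_lt_pow hm.ne' hp.out.one_lt)
  obtain ⟨a, b, hab⟩ := exists_pair_ne Ω
  by_cases hprim : IsPreprimitive G Ω
  · rcases Nat.lt_or_ge m 2 with hm2 | hm2
    · obtain rfl : m = 1 := by omega
      letI := Fintype.ofFinite Ω
      have hpr : (Fintype.card Ω).Prime := by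
        rw [← Nat.card_eq_fintype_card, hn, pow_one]; exact hp.out
      haveI : IsPretransitive (toPermHom G Ω).range Ω := ⟨fun x y => by
        obtain ⟨g, hg⟩ := exists_smul_eq G x y
        exact ⟨⟨toPermHom G Ω g, g, rfl⟩, hg⟩⟩
      rcases Cfsg.Agent.S0675.result hpr (toPermHom G Ω).range with h | h
      · exact h
      · exact absurd (two_dvd_of_twoTrans hab h) (fun h' => (Nat.not_even_iff_odd.2 hodd') (even_iff_two_dvd.2 h'))
    · exfalso
      set C' := C.map (toPermHom G Ω)
      haveI : IsCyclic C' := isCyclic_of_surjective ((toPermHom G Ω).subgroupMap C)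
        (MonoidHom.subgroupMap_surjective _ _)
      haveI : IsPretransitive (toPermHom G Ω).range Ω := ⟨fun x y => by
        obtain ⟨g, hg⟩ := exists_smul_eq G x y
        exact ⟨⟨toPermHom G Ω g, g, rfl⟩, hg⟩⟩
      set R := (toPermHom G Ω).range
      set C'' := C'.subgroupOf R
      have hle : C' ≤ R := Subgroup.map_le_range _ _
      have hcyc : IsCyclic C'' := isCyclic_of_surjective (Subgroup.subgroupOfEquivOfLe hle).symm
        (MulEquiv.surjective _)
      have htr : IsPretransitive C'' Ω := ⟨fun x y => by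
        obtain ⟨c, hc⟩ := hCt.exists_smul_eq x y
        exact ⟨⟨⟨toPermHom G Ω c, (c : G), rfl⟩, ⟨(c : G), c.2, rfl⟩⟩, hc⟩⟩
      have hfree : ∀ x : Ω, stabilizer C'' x = ⊥ := fun x => by
        rw [eq_bot_iff]
        intro c hc
        rw [Subgroup.mem_bot]
        apply Subtype.ext; apply Subtype.ext
        refine Equiv.ext fun y => ?_
        obtain ⟨d, rfl⟩ := htr.exists_smul_eq x y
        letI : CommGroup C'' := IsCyclic.commGroup
        have h1 : c • d • x = d • c • x := by rw [← mul_smul, ← mul_smul, mul_comm]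
        rw [mem_stabilizer_iff.1 hc] at h1
        exact h1
      haveI : IsPreprimitive R Ω := IsPreprimitive.of_surjective (f := (⟨id, fun g x => rfl⟩ :
        Ω →ₑ[(toPermHom G Ω).rangeRestrict] Ω)) Function.surjective_id
      have h := CfsgLib.PrimRecog.twoTrans_of_regular_cyclic_prime_power hp.out hm2 hn C'' hcyc htr hfree inferInstance
      exact (Nat.not_even_iff_odd.2 hodd') (even_iff_two_dvd.2 (two_dvd_of_twoTrans hab h))
  -- a proper block system
  obtain ⟨B, hB, hB1, hBtop, hBne⟩ : ∃ B : Set Ω, IsBlock G B ∧ ¬ B.Subsingleton ∧ B ≠ Set.univ ∧ B.Nonempty := by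
    by_contra hcon
    push Not at hcon
    apply hprim
    refine IsPreprimitive.of_isTrivialBlock_base a fun {B} hBa hB => ?_
    unfold IsTrivialBlock
    by_contra h
    push Not at h
    have hne := hcon B hB h.1 h.2
    exact (hne ▸ hBa : a ∈ (∅ : Set Ω))
  set O := orbit G B with hO
  have hcardO : B.ncard * O.ncard = p ^ m := hn ▸ hB.ncard_block_mul_ncard_orbit_eq hBne
  obtain ⟨i, him, hi⟩ := (Nat.dvd_prime_pow hp.out).1 (Dvd.intro _ hcardO : B.ncard ∣ p ^ m)
  have hi0 : 0 < i := by
    rcases Nat.eq_zero_or_pos i with rfl | h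
    · exact absurd ((Set.ncard_le_one_iff_subsingleton).1 (by rw [hi, pow_zero])) hB1
    · exact h
  have him' : i < m := by
    refine lt_of_le_of_ne him fun h => hBtop ?_
    rw [Set.eq_univ_iff_ncard, hi, hn, h]
  have hO' : Nat.card O = p ^ (m - i) := by
    rw [Nat.card_coe_set_eq]
    refine Nat.eq_of_mul_eq_mul_left (pow_pos hp.out.pos i) ?_
    rw [← pow_add, Nat.add_sub_cancel' him, ← hi, hcardO]
  obtain ⟨x0, hx0⟩ := hBne
  have hkey : ∀ g : G, ∃ c : C, (c : G) • B = g • B := fun g => by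
    obtain ⟨c, hc⟩ := hCt.exists_smul_eq x0 (g • x0)
    refine ⟨c, hB.smul_eq_smul_of_nonempty ⟨g • x0, ?_, Set.smul_mem_smul_set hx0⟩⟩
    exact Set.mem_smul_set.2 ⟨x0, hx0, hc⟩
  haveI hCO : IsPretransitive C O := ⟨by
    rintro ⟨_, g, rfl⟩ ⟨_, h, rfl⟩
    obtain ⟨c, hc⟩ := hkey g
    obtain ⟨d, hd⟩ := hkey h
    refine ⟨d * c⁻¹, Subtype.ext ?_⟩
    change ((d * c⁻¹ : C) : G) • g • B = h • B
    rw [← hc, ← hd, Subgroup.coe_mul, mul_smul, Subgroup.coe_inv, inv_smul_smul]⟩
  have h1 := ih (m - i) (by omega) (Ω := O) hodd hO' C hC hCO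
  set GB := stabilizer G B
  letI actB : MulAction GB B :=
    { smul := fun g x => ⟨(g : G) • (x : Ω), by
        have := Set.smul_mem_smul_set (a := (g : G)) x.2
        rwa [mem_stabilizer_iff.1 g.2] at this⟩
      one_smul := fun x => Subtype.ext (one_smul G (x : Ω))
      mul_smul := fun a b x => Subtype.ext (mul_smul (a : G) (b : G) (x : Ω)) }
  haveI : IsCyclic (C.subgroupOf GB) := isCyclic_of_injective
    ({ toFun := fun c => ⟨((c : GB) : G), c.2⟩, map_one' := rfl, map_mul' := fun _ _ => rfl } :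
      C.subgroupOf GB →* C)
    (fun c d h => Subtype.ext (Subtype.ext (congrArg (fun z : C => (z : G)) h)))
  haveI hCB : IsPretransitive (C.subgroupOf GB) B := ⟨fun x y => by
    obtain ⟨c, hc⟩ := hCt.exists_smul_eq (x : Ω) (y : Ω)
    have hcB : (c : G) ∈ GB := by
      rw [mem_stabilizer_iff]
      conv_rhs => rw [← one_smul G B]
      refine hB.smul_eq_smul_of_nonempty ⟨y, Set.mem_smul_set.2 ⟨x, x.2, hc⟩, ?_⟩
      rw [one_smul]; exact y.2
    exact ⟨⟨⟨(c : G), hcB⟩, c.2⟩, Subtype.ext hc⟩⟩
  have h2 := ih i him' (G := GB) (Ω := B) (Odd.of_dvd_nat hodd (Subgroup.card_subgroup_dvd_card GB))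
    (by rw [Nat.card_coe_set_eq, hi]) (C.subgroupOf GB) inferInstance hCB
  obtain ⟨n1, hn1⟩ := (Group.isSolvable_def _).1 h1
  obtain ⟨n2, hn2⟩ := (Group.isSolvable_def _).1 h2
  have hstep : ∀ j, derivedSeries G (n1 + j) ≤ (derivedSeries GB j).map GB.subtype := by
    intro j
    induction j with
    | zero =>
      intro g hg
      rw [Nat.add_zero] at hg
      have h3 := map_derivedSeries_le_derivedSeries (toPermHom G O).rangeRestrict _ (Subgroup.mem_map_of_mem _ hg)
      rw [hn1, Subgroup.mem_bot] at h3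
      have h4 := congrArg (fun σ : Equiv.Perm O => ((σ ⟨B, mem_orbit_self B⟩ : O) : Set Ω)) (congrArg Subtype.val h3)
      exact ⟨⟨g, h4⟩, Subgroup.mem_top _, rfl⟩
    | succ j ihj =>
      rw [← Nat.add_assoc, derivedSeries_succ, derivedSeries_succ, Subgroup.map_commutator]
      exact Subgroup.commutator_mono ihj ihj
  rw [Group.isSolvable_def]
  refine ⟨n1 + n2, ?_⟩
  rw [← map_derivedSeries_eq (toPermHom G Ω).rangeRestrict_surjective, Subgroup.map_eq_bot_iff]
  intro g hg
  refine MonoidHom.mem_ker.2 (Subtype.ext (Equiv.ext fun y => ?_))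
  obtain ⟨k, rfl⟩ := exists_smul_eq G x0 y
  have hk : k⁻¹ * g * k ∈ derivedSeries G (n1 + n2) := by
    have := (derivedSeries_normal G (n1 + n2)).conj_mem g hg k⁻¹
    rwa [inv_inv] at this
  obtain ⟨d, hd, hdk⟩ := hstep n2 hk
  have h3 := map_derivedSeries_le_derivedSeries (toPermHom GB B).rangeRestrict _ (Subgroup.mem_map_of_mem _ hd)
  rw [hn2, Subgroup.mem_bot] at h3
  have h4 : (d : G) • x0 = x0 :=
    congrArg (fun σ : Equiv.Perm B => ((σ ⟨x0, hx0⟩ : B) : Ω)) (congrArg Subtype.val h3)
  rw [show (d : G) = k⁻¹ * g * k from hdk, mul_smul, mul_smul, inv_smul_eq_iff] at h4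
  exact h4

end CfsgLib.Structure80.CyclicRegularOdd
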