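import Mathlib

/-!
# A fixed-point-free operator of prime order `q` on an `F_p`-space and its twists

Twists of the operator by powers are all conjugate, transitively on nonzero vectors, exactly when
`p` is a primitive root modulo `q`.
-/

namespace CfsgLib.Structure80

open Polynomial

variable {p q : ℕ} [hp : Fact p.Prime] [hq : Fact q.Prime]
variable {V : Type*} [AddCommGroup V] [Module (ZMod p) V]

/-- The `q`-th cyclotomic polynomial annihilates a fixed-point-free operator of order `q`. -/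
theorem aeval_cyclotomic_eq_zero (T : Module.End (ZMod p) V) (hTq : T ^ q = 1)
    (hfpf : ∀ v, T v = v → v = 0) : aeval T (cyclotomic q (ZMod p)) = 0 := by
  rw [cyclotomic_prime, map_sum]
  simp only [map_pow, aeval_X]
  refine LinearMap.ext fun v => hfpf _ ?_
  have h : T * ∑ k ∈ Finset.range q, T ^ k = ∑ k ∈ Finset.range q, T ^ k := by
    have := Finset.sum_range_succ' (fun k => T ^ k) q
    rw [Finset.sum_range_succ, pow_zero, hTq] at this
    rw [Finset.mul_sum]
    simp only [← pow_succ']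
    exact (add_right_cancel this).symm
  exact LinearMap.congr_fun h v

/-- A power of a fixed-point-free operator of prime order is one too. -/
theorem fpf_pow (T : Module.End (ZMod p) V) (hTq : T ^ q = 1) (hfpf : ∀ v, T v = v → v = 0) {i : ℕ}
    (hi : ¬ q ∣ i) {v : V} (hv : (T ^ i) v = v) : v = 0 := by
  obtain ⟨j, -, hj⟩ := Nat.exists_mul_mod_eq_one_of_coprime (n := i) (k := q)
    ((hq.out.coprime_iff_not_dvd.2 hi).symm) hq.out.one_lt
  apply hfpf
  have h1 : (T ^ (i * j)) v = v := by
    rw [pow_mul, Module.End.pow_apply]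
    exact Function.iterate_fixed hv j
  rw [← Nat.mod_add_div (i * j) q, hj, pow_add, pow_mul, hTq, one_pow, mul_one, pow_one] at h1
  exact h1

theorem irreducible_cyclotomic (hpq : p ≠ q) (hord : orderOf (p : ZMod q) = q - 1) :
    Irreducible (cyclotomic q (ZMod p)) := by
  refine ZMod.irreducible_of_dvd_cyclotomic_of_natDegree
    (fun h => hpq ((Nat.prime_dvd_prime_iff_eq hp.out hq.out).1 h)) dvd_rfl ?_
  rw [natDegree_cyclotomic, Nat.totient_prime hq.out, ← orderOf_units, ZMod.coe_unitOfCoprime, hord]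

/-- A nonzero vector can be moved to any other by a linear automorphism. -/
theorem exists_linearEquiv_apply_eq {K W : Type*} [Field K] [AddCommGroup W] [Module K W]
    [FiniteDimensional K W] {a b : W} (ha : a ≠ 0) (hb : b ≠ 0) : ∃ g : W ≃ₗ[K] W, g a = b := by
  obtain ⟨g, hg⟩ := Submodule.exists_linearEquiv_restrict_eq
    ((LinearEquiv.toSpanNonzeroSingleton K W a ha).symm.trans
      (LinearEquiv.toSpanNonzeroSingleton K W b hb))
  refine ⟨g, ?_⟩
  rw [← hg ⟨a, Submodule.mem_span_singleton_self a⟩]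
  have : (⟨a, Submodule.mem_span_singleton_self a⟩ : Submodule.span K ({a} : Set W)) =
      LinearEquiv.toSpanNonzeroSingleton K W a ha 1 := Subtype.ext (one_smul K a).symm
  rw [this, LinearEquiv.trans_apply, LinearEquiv.symm_apply_apply, LinearEquiv.toSpanNonzeroSingleton_one]

/-- Two module structures over one finite field on a finite group are isomorphic, moving any nonzero
vector to any other. -/
theorem exists_addEquiv_semiconj {K W : Type*} [Field K] [Finite K] [AddCommGroup W] [Finite W]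
    (ψ₁ ψ₂ : K →+* AddMonoid.End W) {v w : W} (hv : v ≠ 0) (hw : w ≠ 0) :
    ∃ σ : W ≃+ W, σ v = w ∧ ∀ k u, σ (ψ₁ k u) = ψ₂ k (σ u) := by
  let m₁ : Module K W := Module.compHom W ψ₁
  let m₂ : Module K W := Module.compHom W ψ₂
  have key : ∀ (m : Module K W) (z : W), z ≠ 0 →
      ∃ (e : (Fin (@Module.finrank K W _ _ m) → K) ≃+ W) (a : Fin (@Module.finrank K W _ _ m) → K),
        a ≠ 0 ∧ e a = z ∧ ∀ (k : K) x, e (k • x) = m.smul k (e x) := by
    intro m z hz
    letI := m
    obtain ⟨e⟩ := FiniteDimensional.nonempty_linearEquiv_of_finrank_eq (R := K)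
      (M := Fin (Module.finrank K W) → K) (M' := W) (Module.finrank_fin_fun K)
    exact ⟨e.toAddEquiv, e.symm z, fun h => hz (by simpa using congrArg e h), e.apply_symm_apply z,
      fun k x => e.map_smul k x⟩
  obtain ⟨e₁, a₁, ha₁, he₁, hs₁⟩ := key m₁ v hv
  obtain ⟨e₂, a₂, ha₂, he₂, hs₂⟩ := key m₂ w hw
  have hdim : @Module.finrank K W _ _ m₁ = @Module.finrank K W _ _ m₂ := by
    apply Nat.pow_right_injective (Finite.one_lt_card (α := K))
    change Nat.card K ^ _ = Nat.card K ^ _
    rw [← Fintype.card_fin (@Module.finrank K W _ _ m₁), ← Fintype.card_fin (@Module.finrank K W _ _ m₂),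
      ← Nat.card_eq_fintype_card, ← Nat.card_eq_fintype_card, ← Nat.card_fun, ← Nat.card_fun,
      Nat.card_congr e₁.toEquiv, Nat.card_congr e₂.toEquiv]
  let c := LinearEquiv.funCongrLeft K K (finCongr hdim.symm)
  obtain ⟨g, hg⟩ := exists_linearEquiv_apply_eq (K := K) (a := c a₁) (b := a₂)
    (fun h => ha₁ (c.injective (by rw [h, map_zero]))) ha₂
  refine ⟨(e₁.symm.trans (c.trans g).toAddEquiv).trans e₂, ?_, fun k u => ?_⟩
  · simp [← he₁, hg, he₂]
  · obtain ⟨x, rfl⟩ := e₁.surjective u
    have h1 : ψ₁ k (e₁ x) = e₁ (k • x) := (hs₁ k x).symm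
    rw [h1]
    simp only [AddEquiv.trans_apply, AddEquiv.symm_apply_apply]
    change e₂ ((c.trans g) (k • x)) = _
    rw [map_smul]
    exact hs₂ k _

/-- If `p` is a primitive root mod `q`, every twist is conjugate, transitively on nonzero vectors. -/
theorem exists_twist [Finite V] (hpq : p ≠ q) (hord : orderOf (p : ZMod q) = q - 1)
    (T : Module.End (ZMod p) V) (hTq : T ^ q = 1) (hfpf : ∀ v, T v = v → v = 0)
    {i : ℕ} (hi : ¬ q ∣ i) {v w : V} (hv : v ≠ 0) (hw : w ≠ 0) :
    ∃ σ : V ≃+ V, σ v = w ∧ ∀ u, σ (T u) = (T ^ i) (σ u) := by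
  have hirr := irreducible_cyclotomic (p := p) (q := q) hpq hord
  have : Fact (Irreducible (cyclotomic q (ZMod p))) := ⟨hirr⟩
  have := (cyclotomic.monic q (ZMod p)).finite_adjoinRoot
  have : Finite (AdjoinRoot (cyclotomic q (ZMod p))) := Module.finite_of_finite (ZMod p)
  let toAdd : Module.End (ZMod p) V →+* AddMonoid.End V :=
    { toFun := fun f => f.toAddMonoidHom
      map_one' := rfl
      map_mul' := fun _ _ => rfl
      map_zero' := rfl
      map_add' := fun _ _ => rfl }
  let ψ : (S : Module.End (ZMod p) V) → aeval S (cyclotomic q (ZMod p)) = 0 →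
      (AdjoinRoot (cyclotomic q (ZMod p)) →+* AddMonoid.End V) := fun S hS =>
    toAdd.comp (Ideal.Quotient.lift (Ideal.span {cyclotomic q (ZMod p)}) (aeval S).toRingHom fun f hf => by
      obtain ⟨g, rfl⟩ := Ideal.mem_span_singleton'.1 hf
      simp [hS])
  have hT := aeval_cyclotomic_eq_zero T hTq hfpf
  have hTi := aeval_cyclotomic_eq_zero (T ^ i) (by rw [← pow_mul, mul_comm, pow_mul, hTq, one_pow])
    (fun u hu => fpf_pow T hTq hfpf hi hu)
  obtain ⟨σ, hσ, hsm⟩ := exists_addEquiv_semiconj (ψ T hT) (ψ (T ^ i) hTi) hv hw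
  refine ⟨σ, hσ, fun u => ?_⟩
  have h := hsm (AdjoinRoot.root _) u
  have hroot : ∀ (S : Module.End (ZMod p) V) (hS : aeval S (cyclotomic q (ZMod p)) = 0) (x : V),
      ψ S hS (AdjoinRoot.root _) x = S x := fun S hS x => by
    change (aeval S (X : (ZMod p)[X])) x = S x
    rw [aeval_X]
  rw [hroot T hT, hroot (T ^ i) hTi] at h
  exact h

/-- If the twists are all conjugate, transitively on nonzero vectors, `p` is a primitive root. -/
theorem orderOf_eq_of_twists [Finite V] [Nontrivial V] (hpq : p ≠ q)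
    (T : Module.End (ZMod p) V) (hTq : T ^ q = 1) (hfpf : ∀ v, T v = v → v = 0)
    (htrans : ∀ v w : V, v ≠ 0 → w ≠ 0 →
      ∃ σ : V ≃+ V, σ v = w ∧ ∃ j, ¬ q ∣ j ∧ ∀ u, σ (T u) = (T ^ j) (σ u))
    (htwist : ∀ j, ¬ q ∣ j → ∃ σ : V ≃+ V, ∀ u, σ (T u) = (T ^ j) (σ u)) :
    orderOf (p : ZMod q) = q - 1 := by
  -- intertwining of polynomials
  have hint : ∀ (σ : V ≃+ V) (S S' : Module.End (ZMod p) V), (∀ u, σ (S u) = S' (σ u)) →
      ∀ (f : (ZMod p)[X]) u, σ (aeval S f u) = aeval S' f (σ u) := by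
    intro σ S S' h f
    induction f using Polynomial.induction_on with
    | C a =>
      intro u
      simp only [aeval_C, Module.algebraMap_end_apply]
      exact ZMod.map_smul σ.toAddMonoidHom a u
    | add f g hf hg => intro u; simp [hf, hg]
    | monomial n a hn =>
      intro u
      rw [show C a * X ^ (n + 1) = (C a * X ^ n) * X by ring, map_mul (aeval S) (C a * X ^ n) X,
        map_mul (aeval S') (C a * X ^ n) X, aeval_X, aeval_X, Module.End.mul_apply, Module.End.mul_apply, hn, h]
  have hΦ := aeval_cyclotomic_eq_zero T hTq hfpf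
  -- an irreducible factor with a nonzero kernel
  obtain ⟨g, hg, hgd, v, hv, hgv⟩ : ∃ g : (ZMod p)[X], Irreducible g ∧ g ∣ cyclotomic q (ZMod p) ∧
      ∃ v : V, v ≠ 0 ∧ aeval T g v = 0 := by
    have : Module.Finite (ZMod p) V := Module.Finite.of_finite
    have hμ : IsIntegral (ZMod p) T := Algebra.IsIntegral.isIntegral T
    obtain ⟨g, hg, hgd⟩ := WfDvdMonoid.exists_irreducible_factor
      (minpoly.not_isUnit (ZMod p) T) (minpoly.ne_zero hμ)
    refine ⟨g, hg, hgd.trans (minpoly.dvd (ZMod p) T hΦ), ?_⟩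
    obtain ⟨h, hh⟩ := hgd
    have hh0 : h ≠ 0 := by rintro rfl; exact minpoly.ne_zero hμ (by rw [hh, mul_zero])
    have hne : aeval T h ≠ 0 := fun h0 => by
      have hd := minpoly.dvd (ZMod p) T h0
      rw [hh] at hd
      have := natDegree_le_of_dvd hd hh0
      rw [natDegree_mul hg.ne_zero hh0] at this
      have := hg.natDegree_pos
      omega
    obtain ⟨u, hu⟩ : ∃ u, aeval T h u ≠ 0 := by
      by_contra hcon
      push Not at hcon
      exact hne (LinearMap.ext hcon)
    refine ⟨aeval T h u, hu, ?_⟩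
    rw [← Module.End.mul_apply, ← map_mul, ← hh, minpoly.aeval]
    rfl
  -- the annihilator of `v` is `(g)`
  have hann : ∀ f : (ZMod p)[X], aeval T f v = 0 ↔ g ∣ f := by
    intro f
    refine ⟨fun hf => ?_, fun ⟨c, hc⟩ => ?_⟩
    · rcases (em (g ∣ f)).symm.imp_left hg.coprime_iff_not_dvd.2 with ⟨a, b, hab⟩ | h
      · exfalso
        apply hv
        have := LinearMap.congr_fun (congrArg (aeval T) hab) v
        simpa [map_mul, hf, hgv] using this.symm
      · exact h
    · rw [hc, mul_comm, map_mul, Module.End.mul_apply, hgv, map_zero]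
  -- every annihilator is prime
  have hprime : ∀ w : V, w ≠ 0 → ∀ f₁ f₂ : (ZMod p)[X], aeval T (f₁ * f₂) w = 0 →
      aeval T f₁ w = 0 ∨ aeval T f₂ w = 0 := by
    intro w hw f₁ f₂ h12
    obtain ⟨σ, hσ, j, hj, hσT⟩ := htrans v w hv hw
    obtain ⟨i, -, hi⟩ := Nat.exists_mul_mod_eq_one_of_coprime (n := j) (k := q)
      ((hq.out.coprime_iff_not_dvd.2 hj).symm) hq.out.one_lt
    have hTi : (T ^ j) ^ i = T := by
      rw [← pow_mul, ← Nat.mod_add_div (j * i) q, hi, pow_add, pow_mul, hTq, one_pow, mul_one, pow_one]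
    have hiff : ∀ f : (ZMod p)[X], aeval T f w = 0 ↔ g ∣ f.comp (X ^ i) := by
      intro f
      have h1 := hint σ T (T ^ j) hσT (f.comp (X ^ i)) v
      rw [hσ, aeval_comp (x := T ^ j), map_pow, aeval_X, hTi] at h1
      rw [← hann, ← h1, AddEquiv.map_eq_zero_iff]
    rw [hiff, mul_comp] at h12
    rw [hiff, hiff]
    exact hg.prime.dvd_or_dvd h12
  have hgT : ∀ w : V, aeval T g w = 0 := by
    intro w
    by_contra hw
    have hw0 : w ≠ 0 := fun h => hw (by rw [h, map_zero])
    have hvw : v + w ≠ 0 := fun h => hw (by rw [eq_neg_of_add_eq_zero_right h, map_neg, hgv, neg_zero])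
    obtain ⟨h, hh⟩ : g ∣ cyclotomic q (ZMod p) := hgd
    have hwh : aeval T h w = 0 := by
      refine (hprime w hw0 g h ?_).resolve_left hw
      rw [← hh, hΦ]; rfl
    have hvh : ¬ g ∣ h := by
      intro hd
      have : NeZero (q : ZMod p) := ⟨fun h0 => hpq ((Nat.prime_dvd_prime_iff_eq hp.out hq.out).1
        ((ZMod.natCast_eq_zero_iff q p).1 h0))⟩
      exact hg.not_isUnit (squarefree_cyclotomic q (ZMod p) g (hh ▸ mul_dvd_mul_left g hd))
    rcases hprime (v + w) hvw g h (by rw [← hh, hΦ]; rfl) with h0 | h0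
    · rw [map_add, hgv, zero_add] at h0
      exact hw h0
    · rw [map_add, hwh, add_zero] at h0
      exact hvh ((hann h).1 h0)
  -- roots
  have : Fact (Irreducible g) := ⟨hg⟩
  have hqp : p.Coprime q := (Nat.coprime_primes hp.out hq.out).2 hpq
  have hdeg : g.natDegree = orderOf (p : ZMod q) := by
    rw [natDegree_of_dvd_cyclotomic_of_irreducible (f := 1) (by rw [ZMod.card, pow_one]) hqp hgd hg,
      ← orderOf_units, ZMod.coe_unitOfCoprime, pow_one]
  have hroot : ∀ j, ¬ q ∣ j → aeval (AdjoinRoot.root g ^ j) g = 0 := by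
    intro j hj
    obtain ⟨σ, hσ⟩ := htwist j hj
    have h1 : aeval T (g.comp (X ^ j)) = 0 := by
      rw [aeval_comp, map_pow, aeval_X]
      refine LinearMap.ext fun u => ?_
      obtain ⟨u, rfl⟩ := σ.surjective u
      rw [← hint σ T (T ^ j) hσ g u, hgT, map_zero]
      rfl
    obtain ⟨u, hu⟩ := exists_ne (0 : V)
    have h2 : g ∣ g.comp (X ^ j) := by
      rcases (em (g ∣ g.comp (X ^ j))).symm.imp_left hg.coprime_iff_not_dvd.2 with ⟨a, b, hab⟩ | h
      · exfalso
        apply hu
        have := LinearMap.congr_fun (congrArg (aeval T) hab) u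
        simpa [map_mul, hgT, h1] using this.symm
      · exact h
    obtain ⟨c, hc⟩ := h2
    have := congrArg (aeval (AdjoinRoot.root g)) hc
    rw [aeval_comp, map_pow, aeval_X, map_mul, AdjoinRoot.aeval_eq g, AdjoinRoot.mk_self, zero_mul] at this
    exact this
  have hζ : IsPrimitiveRoot (AdjoinRoot.root g) q := by
    have : NeZero (q : AdjoinRoot g) := ⟨fun h0 => by
      rw [← map_natCast (algebraMap (ZMod p) (AdjoinRoot g)),
        map_eq_zero_iff _ (algebraMap (ZMod p) (AdjoinRoot g)).injective] at h0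
      exact hpq ((Nat.prime_dvd_prime_iff_eq hp.out hq.out).1 ((ZMod.natCast_eq_zero_iff q p).1 h0))⟩
    rw [← isRoot_cyclotomic_iff]
    obtain ⟨c, hc⟩ := hgd
    rw [← map_cyclotomic q (algebraMap (ZMod p) (AdjoinRoot g)), IsRoot.def, eval_map_algebraMap,
      hc, map_mul, AdjoinRoot.aeval_eq g, AdjoinRoot.mk_self, zero_mul]
  have hle : q - 1 ≤ g.natDegree := by
    classical
    have hmap : (g.map (algebraMap (ZMod p) (AdjoinRoot g))) ≠ 0 :=
      (Polynomial.map_ne_zero_iff (algebraMap (ZMod p) (AdjoinRoot g)).injective).2 hg.ne_zero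
    have hsub : ((Finset.Ico 1 q).image fun j => AdjoinRoot.root g ^ j).val ⊆
        (g.map (algebraMap (ZMod p) (AdjoinRoot g))).roots := by
      intro x hx
      obtain ⟨j, hj, rfl⟩ := Finset.mem_image.1 (Finset.mem_def.2 hx)
      rw [Finset.mem_Ico] at hj
      rw [mem_roots hmap, IsRoot.def, eval_map_algebraMap]
      exact hroot j (fun hd => by have := Nat.le_of_dvd (by omega) hd; omega)
    have h1 := Polynomial.card_le_degree_of_subset_roots (p := g.map (algebraMap (ZMod p) (AdjoinRoot g))) hsub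
    rw [natDegree_map, Finset.card_image_of_injOn, Nat.card_Ico] at h1
    · exact h1
    · intro a ha b hb hab
      simp only [Finset.coe_Ico, Set.mem_Ico] at ha hb
      exact hζ.pow_inj ha.2 hb.2 hab
  refine le_antisymm ?_ (hdeg ▸ hle)
  have hne : (p : ZMod q) ≠ 0 := fun h0 => hpq ((Nat.prime_dvd_prime_iff_eq hq.out hp.out).1
    ((ZMod.natCast_eq_zero_iff p q).1 h0)).symm
  exact Nat.le_of_dvd (by have := hq.out.two_le; omega) (ZMod.orderOf_dvd_card_sub_one hne)

end CfsgLib.Structure80
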