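import Mathlib
import Cfsg.Prelude.Def_Transfer
import Cfsg.Prelude.Def_CaseTheorems
import Cfsg.Agent.Lib.Structure80.CyclicRegularOdd
import Cfsg.Agent.Lib.Recognition.NormalSquareAll

/-!
A finite group acting linearly, coprimely and faithfully on a finite vector space such that every
orbit has `p`-power size (for one prime `p`) is solvable.
-/

set_option autoImplicit false

namespace CfsgLib.Structure80.OrbitPrimePower

variable {q : ℕ} [Fact q.Prime] {A : Type*} [Group A] [Finite A]
variable {V : Type*} [AddCommGroup V] [Module (ZMod q) V]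

/-- The stabiliser of a vector. -/
def stab (ρ : Representation (ZMod q) A V) (v : V) : Subgroup A where
  carrier := {a | ρ a v = v}
  one_mem' := by simp
  mul_mem' := fun {a b} ha hb => by
    simp only [Set.mem_setOf_eq] at ha hb ⊢
    rw [map_mul, Module.End.mul_apply, hb, ha]
  inv_mem' := fun {a} ha => by
    simp only [Set.mem_setOf_eq] at ha ⊢
    conv_lhs => rw [← ha]
    rw [← Module.End.mul_apply, ← map_mul, inv_mul_cancel, map_one, Module.End.one_apply]

omit [Finite A] in
@[simp] theorem mem_stab {ρ : Representation (ZMod q) A V} {v : V} {a : A} :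
    a ∈ stab ρ v ↔ ρ a v = v := Iff.rfl

/-- All orbits have `p`-power size. -/
def OrbPow (p : ℕ) (ρ : Representation (ZMod q) A V) : Prop :=
  ∀ v, ∃ k, (stab ρ v).index = p ^ k

omit [Finite A] in
theorem smul_eq_zero_of_not_dvd {m : ℕ} (hm : ¬ q ∣ m) {v : V} (h : (m : ZMod q) • v = 0) : v = 0 := by
  refine (smul_eq_zero.1 h).resolve_left fun h' => hm ?_
  exact (ZMod.natCast_eq_zero_iff m q).1 h'

omit [Finite A] in
/-- A coprime element unipotent of class two is trivial. -/
theorem fix_of_sub_fixed (ρ : Representation (ZMod q) A V) {a : A} (ha : ¬ q ∣ orderOf a) {v : V}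
    (h : ρ a (ρ a v - v) = ρ a v - v) : ρ a v = v := by
  have hk : ∀ k : ℕ, ρ (a ^ k) v = v + (k : ZMod q) • (ρ a v - v) := by
    intro k
    induction k with
    | zero => simp
    | succ k ih =>
      rw [pow_succ', map_mul, Module.End.mul_apply, ih, map_add, map_smul, h, Nat.cast_succ, add_smul, one_smul]
      abel
  have h1 := hk (orderOf a)
  rw [pow_orderOf_eq_one, map_one, Module.End.one_apply, left_eq_add] at h1
  exact sub_eq_zero.1 (smul_eq_zero_of_not_dvd ha h1)

/-- A Sylow `p`-subgroup is transitive on every orbit. -/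
theorem exists_sylow_apply {p : ℕ} [Fact p.Prime] {ρ : Representation (ZMod q) A V} (horb : OrbPow p ρ)
    (P : Sylow p A) (a : A) (v : V) : ∃ π ∈ (P : Subgroup A), ρ π v = ρ a v := by
  set S := stab ρ v with hS
  obtain ⟨k, hk⟩ := horb v
  let f : (P : Subgroup A) ⧸ (S.subgroupOf (P : Subgroup A)) → A ⧸ S :=
    Quotient.map' (fun x => (x : A)) fun x y h => by
      rw [QuotientGroup.leftRel_apply] at h ⊢
      exact h
  have hfi : Function.Injective f := by
    intro x y
    induction x using QuotientGroup.induction_on with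
    | _ x =>
    induction y using QuotientGroup.induction_on with
    | _ y =>
    intro h
    exact QuotientGroup.eq.2 (QuotientGroup.eq.1 h : (x : A)⁻¹ * (y : A) ∈ S)
  have hcard : Nat.card (A ⧸ S) ≤ Nat.card ((P : Subgroup A) ⧸ (S.subgroupOf (P : Subgroup A))) := by
    change S.index ≤ (S.subgroupOf (P : Subgroup A)).index
    rw [hk]
    have h1 := (S.subgroupOf (P : Subgroup A)).card_mul_index
    have h2 := S.card_mul_index
    rw [hk] at h2
    obtain ⟨j, hj⟩ := (IsPGroup.iff_card.1 (P.isPGroup'.to_subgroup (S.subgroupOf (P : Subgroup A))))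
    have h3 : p ^ j ∣ Nat.card S := by
      rw [← hj]
      refine Subgroup.card_dvd_of_injective
        ({ toFun := fun x => ⟨((x : (P : Subgroup A)) : A), x.2⟩, map_one' := rfl, map_mul' := fun _ _ => rfl } :
          S.subgroupOf (P : Subgroup A) →* S) fun x y h => ?_
      exact Subtype.ext (Subtype.ext (congrArg (fun z : S => (z : A)) h))
    have h4 : j + k ≤ (Nat.card A).factorization p := by
      rw [← (Fact.out : p.Prime).pow_dvd_iff_le_factorization Nat.card_pos.ne', pow_add, ← h2]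
      exact Nat.mul_dvd_mul_right h3 _
    have h5 : Nat.card (P : Subgroup A) = p ^ (Nat.card A).factorization p := P.card_eq_multiplicity
    rw [hj, h5] at h1
    have h6 : p ^ (j + k) ≤ p ^ j * (S.subgroupOf (P : Subgroup A)).index := by
      rw [h1]
      exact Nat.pow_le_pow_right (Fact.out : p.Prime).pos h4
    rw [pow_add] at h6
    exact Nat.le_of_mul_le_mul_left h6 (pow_pos (Fact.out : p.Prime).pos j)
  obtain ⟨x, hx⟩ := (Function.Injective.bijective_of_nat_card_le hfi hcard).2 (QuotientGroup.mk a)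
  induction x using QuotientGroup.induction_on with
  | _ π =>
  refine ⟨π, π.2, ?_⟩
  have h1 : (π : A)⁻¹ * a ∈ S := QuotientGroup.eq.1 hx
  have h2 : ρ ((π : A)⁻¹ * a) v = v := h1
  conv_lhs => rw [← h2]
  rw [← Module.End.mul_apply, ← map_mul, mul_inv_cancel_left]

/-- With `p` odd, no element negates a non-zero vector. -/
theorem not_neg {p : ℕ} [hp : Fact p.Prime] (hp2 : p ≠ 2) (hq2 : q ≠ 2)
    {ρ : Representation (ZMod q) A V} (horb : OrbPow p ρ) (a : A) {u : V} (h : ρ a u = -u) : u = 0 := by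
  obtain ⟨P⟩ := (inferInstance : Nonempty (Sylow p A))
  obtain ⟨π, hπ, hπu⟩ := exists_sylow_apply horb P a u
  rw [h] at hπu
  have ho : Odd (orderOf π) := by
    obtain ⟨k, hk⟩ := IsPGroup.iff_orderOf.1 P.isPGroup' ⟨π, hπ⟩
    rw [Subgroup.orderOf_mk] at hk
    rw [hk]
    exact (hp.out.odd_of_ne_two hp2).pow
  obtain ⟨t, ht⟩ := ho
  have h2 : ∀ k : ℕ, ρ (π ^ (2 * k)) u = u := by
    intro k
    induction k with
    | zero => simp
    | succ k ih =>
      rw [mul_add, pow_add, map_mul, Module.End.mul_apply, pow_two, map_mul, Module.End.mul_apply, hπu, map_neg, hπu,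
        neg_neg, ih]
  have h3 := pow_orderOf_eq_one π
  rw [ht, pow_succ'] at h3
  have h4 : ρ (π * π ^ (2 * t)) u = u := by rw [h3]; simp
  rw [map_mul, Module.End.mul_apply, h2, hπu] at h4
  refine smul_eq_zero_of_not_dvd (q := q) (m := 2) ?_ ?_
  · intro hd
    exact hq2 ((Nat.prime_dvd_prime_iff_eq Fact.out Nat.prime_two).1 hd)
  · rw [Nat.cast_smul_eq_nsmul, two_nsmul]
    nth_rw 1 [← h4]
    exact neg_add_cancel u

/-- With `p` odd the group has odd order. -/
theorem odd_card {p : ℕ} [hp : Fact p.Prime] (hp2 : p ≠ 2) {ρ : Representation (ZMod q) A V}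
    (horb : OrbPow p ρ) (hf : Function.Injective ρ) (hq : ¬ q ∣ Nat.card A) : Odd (Nat.card A) := by
  rw [← Nat.not_even_iff_odd, even_iff_two_dvd]
  intro h2
  have hq2 : q ≠ 2 := by rintro rfl; exact hq h2
  haveI := Fact.mk Nat.prime_two
  obtain ⟨t, ht⟩ := exists_prime_orderOf_dvd_card' 2 h2
  have ht1 : t ≠ 1 := by rintro rfl; simp at ht
  apply ht1
  apply hf
  rw [map_one]
  refine LinearMap.ext fun v => ?_
  have h3 : ρ t (ρ t v) = v := by
    rw [← Module.End.mul_apply, ← map_mul, ← sq, ← ht, pow_orderOf_eq_one, map_one, Module.End.one_apply]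
  have h4 := not_neg hp2 hq2 horb t (u := v - ρ t v) (by rw [map_sub, h3, neg_sub])
  exact (sub_eq_zero.1 h4).symm

omit [Finite A] in
/-- A group of order prime to `q` of linear maps with an invariant subspace embeds in the two induced
groups. -/
theorem faithful_two (ρ : Representation (ZMod q) A V) (hf : Function.Injective ρ) {a : A}
    (ha : ¬ q ∣ orderOf a) (W : Submodule (ZMod q) V) (h1 : ∀ w ∈ W, ρ a w = w)
    (h2 : ∀ v, ρ a v - v ∈ W) : a = 1 := by
  apply hf
  rw [map_one]
  exact LinearMap.ext fun v => fix_of_sub_fixed ρ ha (h1 _ (h2 v))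

omit [Finite A] in
/-- A finite union of subspaces covering a subspace: two-support argument. -/
theorem exists_le_of_mapsTo_union {ι : Type*} [Finite ι] (W : ι → Submodule (ZMod q) V)
    (hind : iSupIndep W) (U : Submodule (ZMod q) V) (hU : ∀ u ∈ U, ∃ i, u ∈ W i) (hU0 : U ≠ ⊥) :
    ∃ i, U ≤ W i := by
  obtain ⟨u, huU, hu0⟩ := Submodule.exists_mem_ne_zero_of_ne_bot hU0
  obtain ⟨i, hi⟩ := hU u huU
  refine ⟨i, fun x hx => ?_⟩
  by_contra hxi
  obtain ⟨j, hj⟩ := hU x hx
  have hji : j ≠ i := fun h => hxi (h ▸ hj)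
  obtain ⟨k, hk⟩ := hU (u + x) (U.add_mem huU hx)
  have hdis := hind j
  by_cases hkj : k = j
  · subst hkj
    have hu : u ∈ W k := by
      have := (W k).sub_mem hk hj
      rwa [add_sub_cancel_right] at this
    exact hu0 (Submodule.disjoint_def.1 hdis u hu (Submodule.mem_iSup_of_mem i (Submodule.mem_iSup_of_mem hji.symm hi)))
  · apply hxi
    have h1 : x ∈ ⨆ (l) (_ : l ≠ j), W l := by
      have h2 : x = (u + x) - u := (add_sub_cancel_left u x).symm
      rw [h2]
      exact Submodule.sub_mem _ (Submodule.mem_iSup_of_mem k (Submodule.mem_iSup_of_mem hkj hk))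
        (Submodule.mem_iSup_of_mem i (Submodule.mem_iSup_of_mem hji.symm hi))
    rw [Submodule.disjoint_def.1 hdis x hj h1]
    exact (W i).zero_mem

section Induced

open MulAction

omit [Fact q.Prime] in
/-- Index in a normal subgroup divides the index. -/
theorem relIndex_dvd_index (S A0 : Subgroup A) [A0.Normal] : S.relIndex A0 ∣ S.index := by
  have e1 : (S ⊓ A0).relIndex S * S.index = (S ⊓ A0).index := Subgroup.relIndex_mul_index inf_le_left
  have e2 : (S ⊓ A0).relIndex A0 * A0.index = (S ⊓ A0).index := Subgroup.relIndex_mul_index inf_le_right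
  rw [Subgroup.inf_relIndex_right] at e2
  rw [Subgroup.inf_relIndex_left] at e1
  obtain ⟨c, hc⟩ := Subgroup.relIndex_dvd_index_of_normal A0 S
  refine Dvd.intro_left c (Nat.eq_of_mul_eq_mul_left (show 0 < A0.relIndex S from Nat.pos_of_ne_zero ?_) ?_)
  · exact Subgroup.FiniteIndex.index_ne_zero
  · rw [← mul_assoc, ← hc, mul_comm A0.index, e2, ← e1]

/-- The induced representation of a subgroup on an invariant subspace. -/
def restrict (ρ : Representation (ZMod q) A V) (A0 : Subgroup A) (W : Submodule (ZMod q) V)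
    (hW : ∀ a ∈ A0, ∀ w ∈ W, ρ a w ∈ W) : Representation (ZMod q) A0 W where
  toFun a := (ρ (a : A)).restrict (hW a a.2)
  map_one' := LinearMap.ext fun w => Subtype.ext (by simp)
  map_mul' a b := LinearMap.ext fun w => Subtype.ext (by simp)

omit [Finite A] in
@[simp] theorem restrict_apply (ρ : Representation (ZMod q) A V) (A0 : Subgroup A) (W : Submodule (ZMod q) V)
    (hW : ∀ a ∈ A0, ∀ w ∈ W, ρ a w ∈ W) (a : A0) (w : W) :
    ((restrict ρ A0 W hW a w : W) : V) = ρ (a : A) (w : V) := rfl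

/-- The induced representation on the quotient by an invariant subspace. -/
def quot (ρ : Representation (ZMod q) A V) (W : Submodule (ZMod q) V)
    (hW : ∀ a, ∀ w ∈ W, ρ a w ∈ W) : Representation (ZMod q) A (V ⧸ W) where
  toFun a := W.mapQ W (ρ a) (hW a)
  map_one' := Submodule.linearMap_qext _ (LinearMap.ext fun v => by simp)
  map_mul' a b := Submodule.linearMap_qext _ (LinearMap.ext fun v => by simp)

theorem orbPow_restrict {p : ℕ} [hp : Fact p.Prime] {ρ : Representation (ZMod q) A V} (horb : OrbPow p ρ)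
    (A0 : Subgroup A) [A0.Normal] (W : Submodule (ZMod q) V) (hW : ∀ a ∈ A0, ∀ w ∈ W, ρ a w ∈ W) :
    OrbPow p (restrict ρ A0 W hW) := by
  intro w
  obtain ⟨k, hk⟩ := horb (w : V)
  have h : stab (restrict ρ A0 W hW) w = (stab ρ (w : V)).subgroupOf A0 := by
    ext a
    rw [mem_stab, Subgroup.mem_subgroupOf, mem_stab]
    exact Subtype.ext_iff
  obtain ⟨i, -, hi⟩ := (Nat.dvd_prime_pow hp.out).1 (hk ▸ relIndex_dvd_index (stab ρ (w : V)) A0)
  exact ⟨i, by rw [h]; exact hi⟩

theorem orbPow_quot {p : ℕ} [hp : Fact p.Prime] {ρ : Representation (ZMod q) A V} (horb : OrbPow p ρ)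
    (W : Submodule (ZMod q) V) (hW : ∀ a, ∀ w ∈ W, ρ a w ∈ W) : OrbPow p (quot ρ W hW) := by
  intro x
  obtain ⟨v, rfl⟩ := W.mkQ_surjective x
  obtain ⟨k, hk⟩ := horb v
  have h : stab ρ v ≤ stab (quot ρ W hW) (W.mkQ v) := fun a ha => by
    rw [mem_stab] at ha ⊢
    change W.mkQ (ρ a v) = W.mkQ v
    rw [ha]
  obtain ⟨i, -, hi⟩ := (Nat.dvd_prime_pow hp.out).1 (hk ▸ Subgroup.index_dvd_of_le h)
  exact ⟨i, hi⟩

end Induced

open MulAction in
/-- Blocks: if every Sylow image of a block is a block, the group permutes the blocks solvably. -/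
theorem isSolvable_of_blocks {p : ℕ} [hp : Fact p.Prime] {ρ : Representation (ZMod q) A V} (horb : OrbPow p ρ)
    (hf : Function.Injective ρ) (hpodd : p ≠ 2 → Odd (Nat.card A)) (P : Sylow p A)
    {ι : Type} [Finite ι] (hι : Nat.card ι = p) (W : ι → Submodule (ZMod q) V) (hind : iSupIndep W)
    (hspan : ⨆ i, W i = ⊤) (hne : ∀ i, W i ≠ ⊥)
    (hP : ∀ π ∈ (P : Subgroup A), ∀ i, ∃ j, ∀ w ∈ W i, ρ π w ∈ W j)
    (htr : ∀ i j, ∃ π ∈ (P : Subgroup A), ∀ w ∈ W i, ρ π w ∈ W j)
    (ih : ∀ (A0 : Subgroup A) (i : ι) (hW : ∀ a ∈ A0, ∀ w ∈ W i, ρ a w ∈ W i), A0.Normal →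
      Group.IsSolvable (A0 ⧸ MonoidHom.ker (restrict ρ A0 (W i) hW))) :
    Group.IsSolvable A := by
  classical
  have hex : ∀ (a : A) (i : ι), ∃ j, ∀ w ∈ W i, ρ a w ∈ W j := by
    intro a i
    obtain ⟨j, hj⟩ := exists_le_of_mapsTo_union W hind ((W i).map (ρ a)) (by
      rintro _ ⟨w, hw, rfl⟩
      obtain ⟨π, hπ, hπw⟩ := exists_sylow_apply horb P a w
      obtain ⟨j, hj⟩ := hP π hπ i
      exact ⟨j, hπw ▸ hj w hw⟩) (by
      rw [Ne, ← Submodule.map_bot (ρ a)]
      exact fun h => hne i (Submodule.map_injective_of_injective (ρ.apply_bijective a).1 h))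
    exact ⟨j, fun w hw => hj (Submodule.mem_map_of_mem hw)⟩
  have huniq : ∀ {a : A} {i j k : ι}, (∀ w ∈ W i, ρ a w ∈ W j) → (∀ w ∈ W i, ρ a w ∈ W k) → j = k := by
    intro a i j k hj hk
    by_contra hjk
    obtain ⟨w, hw, hw0⟩ := Submodule.exists_mem_ne_zero_of_ne_bot (hne i)
    refine hw0 ((ρ.apply_bijective a).1 ?_)
    rw [map_zero]
    exact Submodule.disjoint_def.1 (hind.pairwiseDisjoint hjk) _ (hj w hw) (hk w hw)
  choose σ hσ using hex
  letI act : MulAction A ι :=
    { smul := σ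
      one_smul := fun i => huniq (hσ 1 i) (fun w hw => by simpa using hw)
      mul_smul := fun a b i => huniq (hσ (a * b) i) (fun w hw => by
        rw [map_mul, Module.End.mul_apply]
        exact hσ a _ _ (hσ b i w hw)) }
  have hsm : ∀ (a : A) (i : ι), ∀ w ∈ W i, ρ a w ∈ W (a • i) := hσ
  have himg : Group.IsSolvable (toPermHom A ι).range := by
    rcases eq_or_ne p 2 with rfl | hp2
    · haveI : Group.IsSolvable (Equiv.Perm ι) := by
        haveI : IsCyclic (Equiv.Perm ι) := isCyclic_of_prime_card (p := 2) (by rw [Nat.card_perm, hι]; rfl)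
        letI : CommGroup (Equiv.Perm ι) := IsCyclic.commGroup
        infer_instance
      infer_instance
    · haveI : Nontrivial ι := Finite.one_lt_card_iff_nontrivial.mp (hι ▸ hp.out.one_lt)
      obtain ⟨i0, i1, hne01⟩ := exists_pair_ne ι
      obtain ⟨π, hπ, hπw⟩ := htr i0 i1
      have hπi : π • i0 = i1 := huniq (hsm π i0) hπw
      haveI : IsPretransitive (Subgroup.zpowers π) ι := by
        have horbit : ∀ x : ι, orbit (Subgroup.zpowers π) i0 = Set.univ := fun _ => by
          rw [Set.eq_univ_iff_ncard]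
          have h1 : (orbit (Subgroup.zpowers π) i0).ncard ∣ Nat.card (Subgroup.zpowers π) := by
            rw [← index_stabilizer]
            exact Subgroup.index_dvd_card _
          obtain ⟨k, hk⟩ := IsPGroup.iff_card.1 (P.isPGroup'.to_le (Subgroup.zpowers_le.2 hπ))
          rw [hk] at h1
          obtain ⟨j, -, hj⟩ := (Nat.dvd_prime_pow hp.out).1 h1
          have h2 : 2 ≤ (orbit (Subgroup.zpowers π) i0).ncard := by
            have hsub : ({i0, i1} : Set ι) ⊆ orbit (Subgroup.zpowers π) i0 := by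
              rintro x (rfl | rfl)
              · exact mem_orbit_self _
              · exact ⟨⟨π, Subgroup.mem_zpowers π⟩, hπi⟩
            have := Set.ncard_le_ncard hsub (Set.toFinite _)
            rwa [Set.ncard_pair hne01] at this
          have h3 : (orbit (Subgroup.zpowers π) i0).ncard ≤ p := hι ▸ Set.ncard_le_card _
          rcases Nat.lt_or_ge j 1 with h | h
          · obtain rfl : j = 0 := by omega
            rw [hj, pow_zero] at h2; omega
          rw [hι]
          exact le_antisymm h3 (hj ▸ Nat.le_self_pow (by omega) p)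
        refine ⟨fun x y => ?_⟩
        obtain ⟨g, rfl⟩ : x ∈ orbit (Subgroup.zpowers π) i0 := horbit x ▸ Set.mem_univ x
        obtain ⟨h, rfl⟩ : y ∈ orbit (Subgroup.zpowers π) i0 := horbit y ▸ Set.mem_univ y
        exact ⟨h * g⁻¹, by rw [mul_smul, inv_smul_smul]⟩
      exact CyclicRegularOdd.isSolvable_range p 1 (hpodd hp2) (by rw [hι, pow_one]) (Subgroup.zpowers π) inferInstance inferInstance
  set A0 := (toPermHom A ι).ker with hA0
  have hW : ∀ i, ∀ a ∈ A0, ∀ w ∈ W i, ρ a w ∈ W i := by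
    intro i a ha w hw
    have h := hsm a i w hw
    rwa [show a • i = i from Equiv.ext_iff.1 (MonoidHom.mem_ker.1 ha) i] at h
  haveI : Group.IsSolvable A0 := by
    refine CyclicRegularOdd.isSolvable_of_joint (fun i => QuotientGroup.mk' (MonoidHom.ker (restrict ρ A0 (W i) (hW i))))
      (fun i => by
        haveI := ih A0 i (hW i) inferInstance
        infer_instance) fun a ha => ?_
    apply Subtype.ext
    apply hf
    rw [OneMemClass.coe_one, map_one]
    refine LinearMap.ext fun v => ?_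
    have hv : v ∈ LinearMap.eqLocus (ρ (a : A)) LinearMap.id := by
      refine (le_trans hspan.ge (iSup_le fun i w hw => ?_)) (Submodule.mem_top)
      have h1 := MonoidHom.mem_ker.1 ((QuotientGroup.eq_one_iff a).1 (ha i))
      exact congrArg Subtype.val (LinearMap.congr_fun h1 ⟨w, hw⟩)
    exact hv
  haveI := himg
  exact Group.isSolvable_of_ker_le_range A0.subtype (toPermHom A ι).rangeRestrict (by simp [hA0])

/-- The dichotomy for non-cyclic `p`-groups. -/
theorem pGroup_cases {P : Type*} [Group P] [Finite P] {p : ℕ} [hp : Fact p.Prime] (hP : IsPGroup p P)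
    (hnc : ¬ IsCyclic P) :
    (∃ U : Subgroup P, U.Normal ∧ Cfsg.IsElementaryAbelian p U ∧ Nat.card U = p ^ 2) ∨
    (p = 2 ∧ ∃ (b π : P) (a r : ℕ), 2 ≤ a ∧ orderOf b = 2 ^ a ∧ π ∉ Subgroup.zpowers b ∧
      (Subgroup.zpowers b).index = 2 ∧ π * b * π⁻¹ = b ^ r ∧ r % 4 = 3 ∧ 2 ^ a ∣ r ^ 2 - 1) := by
  by_cases h1 : ∀ n : ℕ, ¬ Nonempty (P ≃* QuaternionGroup n)
  swap
  · push Not at h1
    obtain ⟨n, ⟨e⟩⟩ := h1
    haveI : NeZero n := ⟨fun h0 => by
      subst h0
      have hfin : Finite (QuaternionGroup 0) := Finite.of_equiv P e.toEquiv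
      haveI : Finite ℤ := Finite.of_injective (fun i : ℤ => QuaternionGroup.a (n := 0) i) fun i j h =>
        (QuaternionGroup.a.injEq _ _).mp h
      exact not_finite ℤ⟩
    obtain ⟨k, hk⟩ := IsPGroup.iff_card.1 hP
    rw [Nat.card_congr e.toEquiv, Nat.card_eq_fintype_card, QuaternionGroup.card] at hk
    obtain rfl : p = 2 := ((Nat.prime_dvd_prime_iff_eq Nat.prime_two hp.out).1
      (Nat.prime_two.dvd_of_dvd_pow (hk ▸ dvd_mul_of_dvd_left (by norm_num) n))).symm
    obtain ⟨t, -, ht⟩ := (Nat.dvd_prime_pow Nat.prime_two).1 (hk ▸ Dvd.intro_left 4 rfl : n ∣ 2 ^ k)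
    subst ht
    rcases Nat.eq_zero_or_pos t with rfl | ht
    · exfalso
      haveI : IsCyclic (QuaternionGroup (2 ^ 0)) := QuaternionGroup.quaternionGroup_one_isCyclic
      exact hnc (isCyclic_of_surjective e.symm e.symm.surjective)
    refine Or.inr ⟨rfl, e.symm (.a 1), e.symm (.xa 0), t + 1, 2 ^ (t + 1) - 1, by omega, ?_, ?_, ?_, ?_, ?_, ?_⟩
    · rw [MulEquiv.orderOf_eq, QuaternionGroup.orderOf_a_one, pow_succ']
    · rintro ⟨i, hi⟩
      have := congrArg e hi
      simp only [map_zpow, e.apply_symm_apply] at this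
      have h2 : ∀ j : ℤ, ∃ c, (QuaternionGroup.a 1 : QuaternionGroup (2 ^ t)) ^ j = .a c := by
        intro j
        obtain ⟨m, hm⟩ := mem_powers_iff_mem_zpowers.2 (⟨j, rfl⟩ : (QuaternionGroup.a 1 : QuaternionGroup (2 ^ t)) ^ j ∈ Subgroup.zpowers _)
        exact ⟨m, hm.symm.trans (QuaternionGroup.a_one_pow m)⟩
      obtain ⟨c, hc⟩ := h2 i
      rw [hc] at this
      cases this
    · have h2 := (Subgroup.zpowers (e.symm (QuaternionGroup.a 1 : QuaternionGroup (2 ^ t)))).card_mul_index
      rw [Nat.card_zpowers, MulEquiv.orderOf_eq, QuaternionGroup.orderOf_a_one, Nat.card_congr e.toEquiv,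
        Nat.card_eq_fintype_card, QuaternionGroup.card] at h2
      refine Nat.eq_of_mul_eq_mul_left (by positivity : 0 < 2 * 2 ^ t) ?_
      rw [h2]; ring
    · apply e.injective
      rw [map_mul, map_mul, map_pow, map_inv, e.apply_symm_apply, e.apply_symm_apply, QuaternionGroup.a_one_pow,
        mul_inv_eq_iff_eq_mul, QuaternionGroup.xa_mul_a, QuaternionGroup.a_mul_xa]
      congr 1
      rw [Nat.cast_sub Nat.one_le_two_pow, pow_succ', ZMod.natCast_self]
      simp
    · have h4 : 4 ∣ 2 ^ (t + 1) := pow_dvd_pow 2 (by omega : 2 ≤ t + 1)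
      have := Nat.one_le_two_pow (n := t + 1)
      omega
    · obtain ⟨c, hc⟩ : ∃ c, 2 ^ (t + 1) = c + 2 := ⟨2 ^ (t + 1) - 2, by have := Nat.le_self_pow (show t + 1 ≠ 0 by omega) 2; omega⟩
      rw [hc, show c + 2 - 1 = c + 1 by omega]
      exact ⟨c, by rw [sq]; rw [Nat.sub_eq_iff_eq_add (Nat.one_le_iff_ne_zero.2 (by simp))]; ring⟩
  by_cases h2 : ∀ n : ℕ, ¬ Nonempty (P ≃* DihedralGroup n)
  swap
  · push Not at h2
    obtain ⟨n, ⟨e⟩⟩ := h2
    haveI : NeZero n := ⟨fun h0 => by
      subst h0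
      have hfin : Finite (DihedralGroup 0) := Finite.of_equiv P e.toEquiv
      haveI : Finite ℤ := Finite.of_injective (fun i : ℤ => DihedralGroup.r (n := 0) i) fun i j h =>
        (DihedralGroup.r.injEq _ _).mp h
      exact not_finite ℤ⟩
    obtain ⟨k, hk⟩ := IsPGroup.iff_card.1 hP
    rw [Nat.card_congr e.toEquiv, DihedralGroup.nat_card] at hk
    obtain rfl : p = 2 := ((Nat.prime_dvd_prime_iff_eq Nat.prime_two hp.out).1
      (Nat.prime_two.dvd_of_dvd_pow (hk ▸ dvd_mul_right 2 n))).symm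
    obtain ⟨t, -, ht⟩ := (Nat.dvd_prime_pow Nat.prime_two).1 (hk ▸ Dvd.intro_left 2 rfl : n ∣ 2 ^ k)
    subst ht
    rcases Nat.lt_or_ge t 2 with ht | ht
    · rcases Nat.eq_zero_or_pos t with rfl | ht0
      · exfalso
        haveI : IsCyclic (DihedralGroup (2 ^ 0)) := DihedralGroup.isCyclic_iff.2 (pow_zero 2)
        exact hnc (isCyclic_of_surjective e.symm e.symm.surjective)
      obtain rfl : t = 1 := by omega
      left
      have hex : ∀ x y : DihedralGroup (2 ^ 1), x * y = y * x ∧ x * x = 1 := by decide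
      refine ⟨⊤, inferInstance, ⟨.of_setLike_mul_comm fun x _ y _ => e.injective (by rw [map_mul, map_mul, (hex _ _).1]), fun x _ => e.injective (by
        rw [map_pow, map_one, sq]; exact (hex (e x) 1).2)⟩, ?_⟩
      rw [Subgroup.card_top, Nat.card_congr e.toEquiv, DihedralGroup.nat_card]; rfl
    refine Or.inr ⟨rfl, e.symm (.r 1), e.symm (.sr 0), t, 2 ^ t - 1, ht, ?_, ?_, ?_, ?_, ?_, ?_⟩
    · rw [MulEquiv.orderOf_eq, DihedralGroup.orderOf_r_one]
    · rintro ⟨i, hi⟩
      have := congrArg e hi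
      simp only [map_zpow, e.apply_symm_apply, DihedralGroup.r_one_zpow] at this
      cases this
    · have h2 := (Subgroup.zpowers (e.symm (DihedralGroup.r 1 : DihedralGroup (2 ^ t)))).card_mul_index
      rw [Nat.card_zpowers, MulEquiv.orderOf_eq, DihedralGroup.orderOf_r_one, Nat.card_congr e.toEquiv,
        DihedralGroup.nat_card] at h2
      refine Nat.eq_of_mul_eq_mul_left (by positivity : 0 < 2 ^ t) ?_
      rw [h2, mul_comm]
    · apply e.injective
      rw [map_mul, map_mul, map_pow, map_inv, e.apply_symm_apply, e.apply_symm_apply, DihedralGroup.r_one_pow,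
        mul_inv_eq_iff_eq_mul, DihedralGroup.sr_mul_r, DihedralGroup.r_mul_sr, Nat.cast_sub Nat.one_le_two_pow,
        ZMod.natCast_self]
      simp
    · have h4 : 4 ∣ 2 ^ t := pow_dvd_pow 2 ht
      have := Nat.one_le_two_pow (n := t)
      omega
    · obtain ⟨c, hc⟩ : ∃ c, 2 ^ t = c + 2 := ⟨2 ^ t - 2, by have := Nat.le_self_pow (show t ≠ 0 by omega) 2; omega⟩
      rw [hc, show c + 2 - 1 = c + 1 by omega]
      exact ⟨c, by rw [sq]; rw [Nat.sub_eq_iff_eq_add (Nat.one_le_iff_ne_zero.2 (by simp))]; ring⟩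
  by_cases h3 : Cfsg.IsQuasiDihedral P
  · obtain ⟨n, hn, hcard, x, y, hx, hy, hrel⟩ := h3
    obtain ⟨k, hk⟩ := IsPGroup.iff_card.1 hP
    obtain rfl : p = 2 := ((Nat.prime_dvd_prime_iff_eq Nat.prime_two hp.out).1
      (Nat.prime_two.dvd_of_dvd_pow (hk ▸ hcard ▸ dvd_pow_self 2 (by omega)))).symm
    have h4 : 4 ∣ 2 ^ (n - 1) := pow_dvd_pow 2 (by omega : 2 ≤ n - 1)
    have h5 : 4 ≤ 2 ^ (n - 1) := Nat.le_of_dvd (by positivity) h4
    refine Or.inr ⟨rfl, x, y, n, 2 ^ (n - 1) - 1, by omega, hx, ?_, ?_, hrel, by omega, ?_⟩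
    · rintro ⟨i, hi⟩
      have h6 : y * x * y⁻¹ = x := by
        rw [← hi, (Commute.refl x).zpow_left i |>.eq, mul_inv_cancel_right]
      rw [hrel] at h6
      nth_rw 2 [← pow_one x] at h6
      have h7 := (pow_eq_pow_iff_modEq.1 h6)
      rw [hx] at h7
      have h8 : 2 ^ (n - 1) < 2 ^ n := Nat.pow_lt_pow_right one_lt_two (by omega)
      have := Nat.ModEq.eq_of_lt_of_lt h7 (by omega) (by omega)
      omega
    · have h6 := (Subgroup.zpowers x).card_mul_index
      rw [Nat.card_zpowers, hx, hcard, pow_succ] at h6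
      exact Nat.eq_of_mul_eq_mul_left (by positivity) h6
    · obtain ⟨c, hc⟩ : ∃ c, 2 ^ (n - 1) = c + 2 := ⟨2 ^ (n - 1) - 2, by omega⟩
      obtain ⟨d, hd⟩ : 2 ∣ c := by omega
      have h6 : 2 ^ n = 2 * (c + 2) := by rw [← hc, ← pow_succ']; congr 1; omega
      rw [h6, hc, show c + 2 - 1 = c + 1 by omega]
      exact ⟨d, by rw [sq, Nat.sub_eq_iff_eq_add (Nat.one_le_iff_ne_zero.2 (by simp)), hd]; ring⟩
  exact Or.inl (CfsgLib.RecognitionNormalSquare.exists_normal_elementary_square_of_not_special hP hnc h1 h2 h3)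

/-- In dimension at most two the group is solvable. -/
theorem isSolvable_of_finrank_le_two [Finite V] {ρ : Representation (ZMod q) A V}
    (horb : OrbPow 2 ρ) (hf : Function.Injective ρ) (hq : ¬ q ∣ Nat.card A)
    (hn0 : Nontrivial V) (hn : Module.finrank (ZMod q) V ≤ 2) : Group.IsSolvable A := by
  classical
  haveI := Fact.mk Nat.prime_two
  set n := Module.finrank (ZMod q) V with hnn
  let b := Module.finBasisOfFinrankEq (ZMod q) V hnn.symm
  let M : A →* Matrix (Fin n) (Fin n) (ZMod q) :=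
    (LinearMap.toMatrixAlgEquiv b).toMonoidHom.comp ρ
  let δ : A →* (ZMod q)ˣ := ((Matrix.detMonoidHom).comp M).toHomUnits
  haveI : Group.IsSolvable δ.range := inferInstance
  have hker : IsPGroup 2 δ.ker := by
    refine (IsPGroup.iff_card).2 ⟨(Nat.card δ.ker).factorization 2, ?_⟩
    have huniq : ∀ {d : ℕ}, d.Prime → d ∣ Nat.card δ.ker → d = 2 := ?_
    · conv_lhs => rw [Nat.eq_prime_pow_of_unique_prime_dvd Nat.card_pos.ne' huniq]
      congr 1
      have h := Nat.eq_prime_pow_of_unique_prime_dvd Nat.card_pos.ne' huniq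
      conv_rhs => rw [h]
      rw [Nat.Prime.factorization_pow Nat.prime_two]
      simp
    intro s hs hsd
    by_contra hs2
    haveI := Fact.mk hs
    obtain ⟨a, ha⟩ := exists_prime_orderOf_dvd_card' s hsd
    have ha1 : a ≠ 1 := by rintro rfl; simp at ha; exact hs.ne_one ha.symm
    -- `a` fixes a non-zero vector
    obtain ⟨S⟩ := (inferInstance : Nonempty (Sylow s δ.ker))
    obtain ⟨v0, hv0⟩ := exists_ne (0 : V)
    obtain ⟨k, hk⟩ := horb v0
    set T := (stab ρ v0).subgroupOf δ.ker with hT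
    have hTidx : ¬ s ∣ T.index := by
      obtain ⟨i, -, hi⟩ := (Nat.dvd_prime_pow Nat.prime_two).1
        (hk ▸ relIndex_dvd_index (stab ρ v0) δ.ker : (stab ρ v0).relIndex δ.ker ∣ 2 ^ k)
      change ¬ s ∣ (stab ρ v0).relIndex δ.ker
      rw [hi]
      intro hd
      exact hs2 ((Nat.prime_dvd_prime_iff_eq hs Nat.prime_two).1 (hs.dvd_of_dvd_pow hd))
    obtain ⟨S0⟩ := (inferInstance : Nonempty (Sylow s T))
    have hidx0 : ¬ s ∣ ((S0 : Subgroup T).map T.subtype).index := by
      rw [Subgroup.index_map_subtype]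
      intro h
      rcases hs.dvd_mul.1 h with h | h
      · exact S0.not_dvd_index h
      · exact hTidx h
    set S1 : Sylow s δ.ker := (S0.isPGroup'.map T.subtype).toSylow hidx0
    obtain ⟨S2, hS2⟩ := (IsPGroup.of_card (n := 1) (by rw [Nat.card_zpowers, ha, pow_one]) :
      IsPGroup s (Subgroup.zpowers a)).exists_le_sylow
    obtain ⟨g, hg⟩ := MulAction.exists_smul_eq δ.ker S1 S2
    have hmem : g⁻¹ * a * g ∈ (S1 : Subgroup δ.ker) := by
      have h1 : a ∈ ((g • S1 : Sylow s δ.ker) : Subgroup δ.ker) := hg ▸ hS2 (Subgroup.mem_zpowers a)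
      rw [Sylow.coe_subgroup_smul, Subgroup.mem_pointwise_smul_iff_inv_smul_mem] at h1
      simpa [MulAut.smul_def] using h1
    obtain ⟨t, -, ht⟩ := hmem
    have hfix : ρ ((g : A)⁻¹ * (a : A) * (g : A)) v0 = v0 := by
      have h2 : ((t : δ.ker) : A) ∈ stab ρ v0 := t.2
      rw [show ((t : δ.ker) : A) = (g : A)⁻¹ * (a : A) * (g : A) by
        rw [show (t : δ.ker) = g⁻¹ * a * g from ht]; rfl] at h2
      exact h2
    set v := ρ (g : A) v0 with hv
    have hv1 : v ≠ 0 := fun h => hv0 ((ρ.apply_bijective (g : A)).1 (h.trans (map_zero _).symm))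
    have hav : ρ (a : A) v = v := by
      have h3 := congrArg (ρ (g : A)) hfix
      rw [← Module.End.mul_apply, ← map_mul, show (g : A) * ((g : A)⁻¹ * (a : A) * (g : A)) = (a : A) * (g : A) by group,
        map_mul, Module.End.mul_apply] at h3
      exact h3
    have hoa : ¬ q ∣ orderOf (a : A) := fun h => hq (h.trans (orderOf_dvd_natCard _))
    have hdet : (LinearMap.det (ρ (a : A))) = 1 := by
      rw [← LinearMap.det_toMatrix b]
      exact congrArg (fun z : (ZMod q)ˣ => (z : ZMod q)) (MonoidHom.mem_ker.1 a.2)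
    apply ha1
    apply Subtype.ext
    set f := ρ (a : A) with hf'
    -- `(f - 1) ^ 2 = 0`
    have hsq : ∀ w, f (f w - w) = f w - w := by
      rcases Nat.lt_or_ge n 2 with hn2 | hn2
      · intro w
        have hspan : ∀ x : V, ∃ c : ZMod q, c • v = x := fun x =>
          (finrank_eq_one_iff_of_nonzero' v hv1).1 (le_antisymm (by omega) Module.finrank_pos) x
        obtain ⟨c, rfl⟩ := hspan w
        rw [map_smul, hav, sub_self, map_zero]
      · have hn' : n = 2 := by omega
        let b2 := Module.finBasisOfFinrankEq (ZMod q) V (n := 2) (hnn.symm.trans hn')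
        have hC := LinearMap.aeval_self_charpoly f
        rw [← LinearMap.charpoly_toMatrix f b2, Matrix.charpoly_fin_two, LinearMap.det_toMatrix, hdet] at hC
        set T := (LinearMap.toMatrix b2 b2 f).trace
        simp only [map_add, map_sub, map_pow, map_mul, Polynomial.aeval_X, Polynomial.aeval_C, map_one] at hC
        have hC' : ∀ w, f (f w) - T • f w + w = 0 := fun w => by
          have := LinearMap.congr_fun hC w
          simpa [pow_two, Algebra.algebraMap_eq_smul_one] using this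
        have hT := hC' v
        rw [hav, hav] at hT
        have hT2 : T = 2 := by
          have h5 : ((2 : ZMod q) - T) • v = 0 := by
            rw [sub_smul, two_smul]
            calc v + v - T • v = v - T • v + v := by abel
              _ = 0 := hT
          exact (sub_eq_zero.1 ((smul_eq_zero.1 h5).resolve_right hv1)).symm
        intro w
        have h6 := hC' w
        rw [hT2, two_smul] at h6
        rw [map_sub, ← sub_eq_zero]
        calc f (f w) - f w - (f w - w) = f (f w) - (f w + f w) + w := by abel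
          _ = 0 := h6
    refine congrArg Subtype.val (show (⟨(a : A), a.2⟩ : δ.ker) = 1 from Subtype.ext ?_)
    apply hf
    rw [OneMemClass.coe_one, map_one]
    exact LinearMap.ext fun w => fix_of_sub_fixed ρ hoa (hsq w)
  haveI : Group.IsSolvable δ.ker := by
    haveI := hker.isNilpotent
    infer_instance
  exact Group.isSolvable_of_ker_le_range δ.ker.subtype δ.rangeRestrict (by simp)

section Fixed

variable {p : ℕ} [hp : Fact p.Prime]

/-- Sum of the powers of an element of order dividing `p`. -/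
def norm (ρ : Representation (ZMod q) A V) (p : ℕ) (y : A) : Module.End (ZMod q) V :=
  ∑ i ∈ Finset.range p, ρ (y ^ i)

omit [Finite A] hp in
theorem fixed_norm (ρ : Representation (ZMod q) A V) {y : A} (hy : y ^ p = 1) (v : V) :
    ρ y (norm ρ p y v) = norm ρ p y v := by
  unfold norm
  rw [LinearMap.sum_apply, map_sum]
  have h1 : ∀ i, ρ y (ρ (y ^ i) v) = ρ (y ^ (i + 1)) v := fun i => by
    rw [pow_succ', map_mul, Module.End.mul_apply]
  simp only [h1]
  have h2 := Finset.sum_range_succ' (fun i => ρ (y ^ i) v) p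
  have h3 := Finset.sum_range_succ (fun i => ρ (y ^ i) v) p
  rw [h3, hy, pow_zero] at h2
  exact (add_right_cancel h2).symm

omit [Finite A] hp in
theorem norm_eq_smul (ρ : Representation (ZMod q) A V) {y : A} {v : V} (hv : ρ y v = v) :
    norm ρ p y v = (p : ZMod q) • v := by
  have h : ∀ i : ℕ, ρ (y ^ i) v = v := by
    intro i
    induction i with
    | zero => simp
    | succ i ih => rw [pow_succ, map_mul, Module.End.mul_apply, hv, ih]
  unfold norm
  rw [LinearMap.sum_apply]
  simp only [h, Finset.sum_const, Finset.card_range, Nat.cast_smul_eq_nsmul]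

set_option maxHeartbeats 1600000 in
omit [Finite A] in
/-- A block decomposition from a normal elementary abelian subgroup of order `p ^ 2` of a Sylow
subgroup acting irreducibly. -/
theorem exists_blocks_of_square (hpq : ¬ q ∣ p) {ρ : Representation (ZMod q) A V}
    (hf : Function.Injective ρ) {P : Subgroup A} [Finite P] (hP : IsPGroup p P)
    (hirr : ∀ W : Submodule (ZMod q) V, (∀ π ∈ P, ∀ w ∈ W, ρ π w ∈ W) → W = ⊥ ∨ W = ⊤)
    (U : Subgroup P) [U.Normal] (hU : Cfsg.IsElementaryAbelian p U) (hUc : Nat.card U = p ^ 2) :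
    ∃ W : ZMod p → Submodule (ZMod q) V, iSupIndep W ∧ (⨆ i, W i) = ⊤ ∧ (∀ i, W i ≠ ⊥) ∧ (∀ i, W i ≠ ⊤) ∧
      (∀ π ∈ P, ∀ i, ∃ j, ∀ w ∈ W i, ρ π w ∈ W j) ∧
      (∀ i j, ∃ π ∈ P, ∀ w ∈ W i, ρ π w ∈ W j) := by
  classical
  haveI : NeZero p := ⟨hp.out.ne_zero⟩
  have hUpow : ∀ u ∈ U, u ^ p = 1 := hU.2
  haveI := hU.1
  have hUcomm : ∀ u ∈ U, ∀ w ∈ U, u * w = w * u := fun u hu w hw => by
    simpa using congrArg Subtype.val (mul_comm' (⟨u, hu⟩ : U) ⟨w, hw⟩)
  haveI : Nontrivial U := Finite.one_lt_card_iff_nontrivial.mp (hUc ▸ Nat.one_lt_pow two_ne_zero hp.out.one_lt)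
  -- an element of order `p` of `U` central in `P`
  obtain ⟨z, hzU, hzc, hz1⟩ : ∃ z ∈ U, (∀ π : P, π * z = z * π) ∧ z ≠ 1 := by
    letI : MulAction P U := MulAction.compHom U (MulAut.conjNormal : P →* MulAut U)
    have h := hP.exists_fixed_point_of_prime_dvd_card_of_fixed_point (α := U) (hUc ▸ dvd_pow_self p two_ne_zero)
      (a := 1) (fun π => map_one (MulAut.conjNormal π))
    obtain ⟨z, hz, hz1⟩ := h
    refine ⟨z, z.2, fun π => ?_, fun h => hz1 (Subtype.ext h.symm)⟩
    have h1 := congrArg Subtype.val (hz π)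
    change ((MulAut.conjNormal π z : U) : P) = z at h1
    rw [MulAut.conjNormal_apply] at h1
    exact mul_inv_eq_iff_eq_mul.1 h1
  have hzp : (z : A) ^ p = 1 := by rw [← SubgroupClass.coe_pow, hUpow z hzU]; rfl
  have hzA : ∀ π ∈ P, π * (z : A) = (z : A) * π := fun π hπ => congrArg Subtype.val (hzc ⟨π, hπ⟩)
  have hzfix : ∀ k : ℕ, (z : A) ^ k ≠ 1 → ∀ v, ρ ((z : A) ^ k) v = v → v = 0 := by
    intro k hk v hv
    rcases hirr (LinearMap.eqLocus (ρ ((z : A) ^ k)) LinearMap.id) (by
      intro π hπ w hw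
      rw [LinearMap.mem_eqLocus, LinearMap.id_apply] at hw ⊢
      have hc : Commute π ((z : A) ^ k) := (show Commute π (z : A) from hzA π hπ).pow_right k
      rw [← Module.End.mul_apply, ← map_mul, ← hc.eq, map_mul, Module.End.mul_apply, hw]) with h | h
    · have : v ∈ (⊥ : Submodule (ZMod q) V) := h ▸ (show v ∈ LinearMap.eqLocus (ρ ((z : A) ^ k)) LinearMap.id from hv)
      exact (Submodule.mem_bot _).1 this
    · exfalso
      apply hk
      apply hf
      rw [map_one]
      refine LinearMap.ext fun w => ?_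
      have : w ∈ LinearMap.eqLocus (ρ ((z : A) ^ k)) LinearMap.id := h ▸ Submodule.mem_top
      exact this
  have hzo : orderOf (z : A) = p := orderOf_eq_prime hzp (fun h => hz1 (Subtype.ext h))
  have hnz : ∀ d : ℕ, ¬ p ∣ d → ∀ v, norm ρ p ((z : A) ^ d) v = 0 := fun d hd v =>
    hzfix d (fun h => hd (hzo ▸ orderOf_dvd_of_pow_eq_one h)) _
      (fixed_norm ρ (by rw [← pow_mul, mul_comm, pow_mul, hzp, one_pow]) v)
  obtain ⟨e, heU, hez⟩ : ∃ e ∈ U, e ∉ Subgroup.zpowers z := by
    by_contra hcon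
    push Not at hcon
    have h1 := Subgroup.card_le_of_le (show U ≤ Subgroup.zpowers z from hcon)
    rw [Nat.card_zpowers, ← Subgroup.orderOf_coe, hzo, hUc, sq] at h1
    have := hp.out.two_le
    nlinarith
  let y : ZMod p → A := fun k => (e : A) * (z : A) ^ k.val
  have hep : (e : A) ^ p = 1 := by rw [← SubgroupClass.coe_pow, hUpow e heU]; rfl
  have hez' : Commute (e : A) (z : A) := congrArg Subtype.val (hUcomm e heU z hzU)
  have hyp : ∀ k, y k ^ p = 1 := fun k => by
    rw [(hez'.pow_right _).mul_pow, hep, ← pow_mul, mul_comm, pow_mul, hzp, one_pow, one_mul]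
  let W : ZMod p → Submodule (ZMod q) V := fun k => LinearMap.eqLocus (ρ (y k)) LinearMap.id
  have hWmem : ∀ {k : ZMod p} {w : V}, w ∈ W k ↔ ρ (y k) w = w := Iff.rfl
  -- the projections
  have hproj : ∀ k j : ZMod p, j ≠ k → ∀ w ∈ W j, norm ρ p (y k) w = 0 := by
    intro k j hjk w hw
    set d : ℕ := (k.val + (p - j.val)) with hd
    have hdp : ¬ p ∣ d := by
      intro hc
      apply hjk
      rw [← ZMod.natCast_eq_zero_iff, hd, Nat.cast_add, Nat.cast_sub (ZMod.val_lt j).le,
        ZMod.natCast_self, ZMod.natCast_zmod_val, ZMod.natCast_zmod_val, zero_sub, ← sub_eq_add_neg, sub_eq_zero] at hc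
      exact hc.symm
    have hyk : y k = y j * (z : A) ^ d := by
      rw [mul_assoc, ← pow_add, show j.val + d = k.val + p by have := ZMod.val_lt j; omega, pow_add, hzp, mul_one]
    have hpw : ∀ i : ℕ, ρ (y k ^ i) w = ρ (((z : A) ^ d) ^ i) w := by
      intro i
      have hc : Commute ((z : A) ^ d) (y j) :=
        ((hez'.symm.mul_right ((Commute.refl (z : A)).pow_right _))).pow_left d
      rw [hyk, hc.symm.mul_pow, ← (hc.pow_pow i i).eq, map_mul, Module.End.mul_apply]
      congr 1
      induction i with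
      | zero => simp
      | succ i ih => rw [pow_succ, map_mul, Module.End.mul_apply, hWmem.1 hw, ih]
    have h := hnz d hdp w
    unfold norm at h ⊢
    rw [LinearMap.sum_apply] at h ⊢
    simp only [hpw]
    exact h
  have hind : iSupIndep W := by
    intro k
    rw [Submodule.disjoint_def]
    intro x hx hx'
    have h0 : norm ρ p (y k) x = 0 := by
      have hle : (⨆ (j) (_ : j ≠ k), W j) ≤ LinearMap.ker (norm ρ p (y k)) :=
        iSup₂_le fun j hj w hw => hproj k j hj w hw
      exact hle hx'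
    rw [norm_eq_smul ρ (hWmem.1 hx)] at h0
    exact smul_eq_zero_of_not_dvd (q := q) (m := p) hpq h0
  -- existence of fixed vectors
  have hsome : ∃ k, W k ≠ ⊥ := by
    by_contra hcon
    push Not at hcon
    have h0 : ∀ (k : ZMod p) (v : V), norm ρ p (y k) v = 0 := fun k v => by
      have : norm ρ p (y k) v ∈ W k := hWmem.2 (fixed_norm ρ (hyp k) v)
      rwa [hcon k, Submodule.mem_bot] at this
    have hall : ∀ v : V, v = 0 := by
      intro v
      have h1 : ∑ k : ZMod p, norm ρ p (y k) v = 0 := Finset.sum_eq_zero fun k _ => h0 k v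
      have h2 : ∀ k : ZMod p, norm ρ p (y k) v = ∑ i ∈ Finset.range p, ρ ((e : A) ^ i) (ρ (((z : A) ^ i) ^ k.val) v) := by
        intro k
        unfold norm
        rw [LinearMap.sum_apply]
        refine Finset.sum_congr rfl fun i _ => ?_
        rw [(hez'.pow_right _).mul_pow, ← pow_mul, mul_comm, pow_mul, map_mul, Module.End.mul_apply]
      simp only [h2] at h1
      rw [Finset.sum_comm] at h1
      simp only [← map_sum] at h1
      have h3 : ∀ i : ℕ, ∑ k : ZMod p, ρ (((z : A) ^ i) ^ k.val) v = norm ρ p ((z : A) ^ i) v := fun i => by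
        unfold norm
        rw [LinearMap.sum_apply]
        exact Finset.sum_nbij' ZMod.val (fun n => (n : ZMod p)) (fun k _ => Finset.mem_range.2 (ZMod.val_lt k))
          (fun n _ => Finset.mem_univ _) (fun k _ => ZMod.natCast_zmod_val k)
          (fun n hn => ZMod.val_natCast_of_lt (Finset.mem_range.1 hn)) (fun k _ => rfl)
      simp only [h3] at h1
      rw [Finset.sum_eq_single 0] at h1
      · rw [pow_zero, map_one, Module.End.one_apply, pow_zero, norm_eq_smul ρ (by simp)] at h1
        exact smul_eq_zero_of_not_dvd (q := q) (m := p) hpq h1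
      · intro i hi hi0
        rw [hnz i (fun hd => hi0 (Nat.eq_zero_of_dvd_of_lt hd (Finset.mem_range.1 hi))), map_zero]
      · intro h
        exact absurd (Finset.mem_range.2 hp.out.pos) h
    exact hz1 (Subtype.ext (hf (LinearMap.ext fun v => by rw [hall v, map_zero, map_zero])))
  -- the action of `P`
  have hein : ∀ m : ℤ, e ^ m ∈ Subgroup.zpowers z → (p : ℤ) ∣ m := by
    intro m hm
    by_contra hd
    apply hez
    have hep' : e ^ (p : ℤ) = 1 := by rw [zpow_natCast, hUpow e heU]
    have hm' : e ^ (m % (p : ℤ)).toNat ∈ Subgroup.zpowers z := by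
      rw [← zpow_natCast, Int.toNat_of_nonneg (Int.emod_nonneg _ (by exact_mod_cast hp.out.ne_zero)), Int.emod_def,
        zpow_sub, zpow_mul, hep', one_zpow, inv_one, mul_one]
      exact hm
    have hcop : ((m % (p : ℤ)).toNat).Coprime (orderOf e) := by
      refine Nat.Coprime.coprime_dvd_right (orderOf_dvd_of_pow_eq_one (hUpow e heU)) ((hp.out.coprime_iff_not_dvd.2 ?_).symm)
      intro hc
      apply hd
      rw [Int.dvd_iff_emod_eq_zero]
      have h1 := Int.natCast_dvd_natCast.2 hc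
      rw [Int.toNat_of_nonneg (Int.emod_nonneg _ (by exact_mod_cast hp.out.ne_zero))] at h1
      have h2 := Int.emod_emod_of_dvd m (dvd_refl (p : ℤ))
      rw [← h2]
      exact Int.emod_eq_zero_of_dvd h1
    obtain ⟨t, ht⟩ := exists_pow_eq_self_of_coprime hcop
    rw [← ht]
    exact Subgroup.pow_mem _ hm' t
  have hex : ∀ π ∈ P, ∃ l : ℕ, π * (e : A) * π⁻¹ = (e : A) * (z : A) ^ l := by
    intro π hπ
    have hmem : (⟨π, hπ⟩ : P) * e * (⟨π, hπ⟩ : P)⁻¹ ∈ U := (inferInstance : U.Normal).conj_mem e heU _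
    let f : Fin p × Fin p → U := fun a => ⟨e ^ (a.1 : ℕ) * z ^ (a.2 : ℕ), mul_mem (pow_mem heU _) (pow_mem hzU _)⟩
    have hfi : Function.Injective f := by
      rintro ⟨a, c⟩ ⟨a', c'⟩ h
      have h' : e ^ (a : ℕ) * z ^ (c : ℕ) = e ^ (a' : ℕ) * z ^ (c' : ℕ) := congrArg Subtype.val h
      have hea : ((a : ℕ) : ℤ) = (a' : ℕ) := by
        have hc : Commute e z := hUcomm e heU z hzU
        have h5 : e ^ (((a : ℕ) : ℤ) - (a' : ℕ)) = z ^ (((c' : ℕ) : ℤ) - (c : ℕ)) := by
          rw [zpow_sub, zpow_sub, zpow_natCast, zpow_natCast, zpow_natCast, zpow_natCast]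
          apply mul_right_cancel (b := e ^ (a' : ℕ) * z ^ (c : ℕ))
          rw [← mul_assoc, inv_mul_cancel_right, h', (hc.pow_pow (a' : ℕ) (c' : ℕ)).eq, (hc.pow_pow (a' : ℕ) (c : ℕ)).eq]
          group
        have h6 := hein _ (h5 ▸ Subgroup.zpow_mem _ (Subgroup.mem_zpowers z) _)
        obtain ⟨m, hm⟩ := h6
        have := a.2; have := a'.2
        rcases lt_trichotomy m 0 with h | h | h
        · nlinarith
        · subst h; omega
        · nlinarith
      have hea' : a = a' := Fin.ext (by exact_mod_cast hea)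
      subst hea'
      have h5 := mul_left_cancel h'
      refine Prod.ext rfl (Fin.ext ?_)
      have h6 := pow_eq_pow_iff_modEq.1 h5
      rw [← Subgroup.orderOf_coe, hzo] at h6
      exact Nat.ModEq.eq_of_lt_of_lt h6 c.2 c'.2
    obtain ⟨⟨a, c⟩, hac⟩ := (hfi.bijective_of_nat_card_le (by
      rw [hUc, Nat.card_prod, Nat.card_fin, sq])).2 ⟨_, hmem⟩
    have hac' : π * (e : A) * π⁻¹ = (e : A) ^ (a : ℕ) * (z : A) ^ (c : ℕ) :=
      (congrArg (fun u : U => ((u : P) : A)) hac).symm
    refine ⟨c, ?_⟩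
    have hpow : ∀ t : ℕ, ∃ l : ℕ, π ^ t * (e : A) * (π ^ t)⁻¹ = (e : A) ^ ((a : ℕ) ^ t) * (z : A) ^ l := by
      intro t
      induction t with
      | zero => exact ⟨0, by simp⟩
      | succ t ih =>
        obtain ⟨l, hl⟩ := ih
        refine ⟨(c : ℕ) * (a : ℕ) ^ t + l, ?_⟩
        have hzl : π * (z : A) ^ l * π⁻¹ = (z : A) ^ l := by
          rw [((show Commute π (z : A) from hzA π hπ).pow_right l).eq, mul_inv_cancel_right]
        calc π ^ (t + 1) * (e : A) * (π ^ (t + 1))⁻¹ = π * (π ^ t * (e : A) * (π ^ t)⁻¹) * π⁻¹ := by rw [pow_succ']; group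
          _ = (π * (e : A) * π⁻¹) ^ ((a : ℕ) ^ t) * (π * (z : A) ^ l * π⁻¹) := by rw [hl, conj_pow]; group
          _ = _ := by rw [hac', hzl, (hez'.pow_pow _ _).mul_pow, ← pow_mul, ← pow_mul, ← pow_succ', mul_assoc, ← pow_add]
    obtain ⟨m, hm⟩ := hP ⟨π, hπ⟩
    have hm' : π ^ p ^ m = 1 := congrArg Subtype.val hm
    obtain ⟨l, hl⟩ := hpow (p ^ m)
    rw [hm', one_mul, inv_one, mul_one] at hl
    have ha1 : (((a : ℕ) ^ p ^ m : ℕ) : ZMod p) = 1 := by
      set A' := (a : ℕ) ^ p ^ m
      have h5 : e ^ ((A' : ℤ) - 1) ∈ Subgroup.zpowers z := by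
        have h9 : e = e ^ A' * z ^ l := Subtype.ext hl
        have h10 : e ^ ((A' : ℤ) - 1) = z ^ (-(l : ℤ)) := by
          rw [zpow_sub, zpow_natCast, zpow_one, zpow_neg, zpow_natCast]
          conv_lhs => arg 2; rw [h9]
          rw [mul_inv_rev, ← mul_assoc, ((show Commute e z from hUcomm e heU z hzU).pow_pow A' l).inv_right.eq, mul_assoc, mul_inv_cancel, mul_one]
        exact h10 ▸ Subgroup.zpow_mem _ (Subgroup.mem_zpowers z) _
      have hd := hein _ h5
      rw [← ZMod.intCast_zmod_eq_zero_iff_dvd] at hd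
      push_cast at hd
      exact_mod_cast sub_eq_zero.1 hd
    have hap : ∀ t : ℕ, ((a : ℕ) : ZMod p) ^ p ^ t = ((a : ℕ) : ZMod p) := fun t => by
      induction t with
      | zero => simp
      | succ t ih => rw [pow_succ, pow_mul, ih, ZMod.pow_card]
    rw [Nat.cast_pow, hap] at ha1
    have ha' : (a : ℕ) = 1 := by
      rw [← Nat.cast_one, ZMod.natCast_eq_natCast_iff] at ha1
      exact Nat.ModEq.eq_of_lt_of_lt ha1 a.2 hp.out.one_lt
    rw [hac', ha', pow_one]
  have hmap : ∀ π ∈ P, ∀ l : ℕ, π * (e : A) * π⁻¹ = (e : A) * (z : A) ^ l →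
      ∀ k : ZMod p, ∀ w ∈ W k, ρ π w ∈ W (k + (l : ZMod p)) := by
    intro π hπ l hl k w hw
    refine hWmem.2 ?_
    have h1 : π * y k * π⁻¹ = y (k + (l : ZMod p)) := by
      have h2 : π * y k * π⁻¹ = (e : A) * (z : A) ^ (k.val + l) := by
        rw [show π * y k * π⁻¹ = (π * (e : A) * π⁻¹) * (π * (z : A) ^ k.val * π⁻¹) by simp only [y]; group, hl,
          ((show Commute π (z : A) from hzA π hπ).pow_right _).eq, mul_inv_cancel_right, mul_assoc, ← pow_add,
          add_comm l]
      rw [h2]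
      refine congrArg ((e : A) * ·) ?_
      rw [← pow_mod_orderOf, hzo, ZMod.val_add, ZMod.val_natCast, Nat.add_mod_mod]
    rw [← h1, ← Module.End.mul_apply, ← map_mul, inv_mul_cancel_right, map_mul, Module.End.mul_apply, hWmem.1 hw]
  obtain ⟨π0, hπ0, l0, hl0, hl0p⟩ : ∃ π ∈ P, ∃ l : ℕ, π * (e : A) * π⁻¹ = (e : A) * (z : A) ^ l ∧ ¬ p ∣ l := by
    by_contra hcon
    push Not at hcon
    obtain ⟨k, hk⟩ := hsome
    rcases hirr (W k) (by
      intro π hπ w hw
      obtain ⟨l, hl⟩ := hex π hπ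
      have h1 := hmap π hπ l hl k w hw
      rwa [show (l : ZMod p) = 0 from (ZMod.natCast_eq_zero_iff l p).2 (hcon π hπ l hl), add_zero] at h1) with h | h
    · exact hk h
    · have hy1 : y k = 1 := hf (by
        rw [map_one]
        exact LinearMap.ext fun w => hWmem.1 (h ▸ Submodule.mem_top : w ∈ W k))
      apply hez
      have : e = (z ^ k.val)⁻¹ := Subtype.ext (eq_inv_of_mul_eq_one_left hy1)
      rw [this]
      exact Subgroup.inv_mem _ (Subgroup.pow_mem _ (Subgroup.mem_zpowers z) _)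
  have hshift : ∀ k : ZMod p, ∀ t : ℕ, ∀ w ∈ W k, ρ (π0 ^ t) w ∈ W (k + (t : ZMod p) * (l0 : ZMod p)) := by
    intro k t
    induction t with
    | zero => intro w hw; simpa using hw
    | succ t ih =>
      intro w hw
      rw [pow_succ', map_mul, Module.End.mul_apply]
      have h1 := hmap π0 hπ0 l0 hl0 _ _ (ih w hw)
      rwa [Nat.cast_succ, add_mul, one_mul, ← add_assoc]
  have htr : ∀ i j : ZMod p, ∃ π ∈ P, ∀ w ∈ W i, ρ π w ∈ W j := by
    intro i j
    have hu : (l0 : ZMod p) ≠ 0 := fun h => hl0p ((ZMod.natCast_eq_zero_iff l0 p).1 h)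
    refine ⟨π0 ^ ((j - i) * (l0 : ZMod p)⁻¹).val, P.pow_mem hπ0 _, ?_⟩
    have h := hshift i ((j - i) * (l0 : ZMod p)⁻¹).val
    rwa [ZMod.natCast_zmod_val, inv_mul_cancel_right₀ hu, add_sub_cancel] at h
  obtain ⟨k0, hk0⟩ := hsome
  have hne : ∀ i, W i ≠ ⊥ := fun i hi => hk0 (by
    rw [eq_bot_iff]
    intro w hw
    obtain ⟨π, _, hπ⟩ := htr k0 i
    have h := hπ w hw
    rw [hi, Submodule.mem_bot] at h
    rw [Submodule.mem_bot]
    exact (ρ.apply_bijective π).1 (h.trans (map_zero _).symm))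
  refine ⟨W, hind, ?_, hne, ?_, fun π hπ i => ?_, htr⟩
  · rcases hirr (⨆ i, W i) (fun π hπ => by
      obtain ⟨l, hl⟩ := hex π hπ
      have hle : ⨆ i, W i ≤ (⨆ i, W i).comap (ρ π) :=
        iSup_le fun k w hw => Submodule.mem_iSup_of_mem _ (hmap π hπ l hl k w hw)
      exact fun w hw => hle hw) with h | h
    · exact absurd (eq_bot_iff.2 (h ▸ le_iSup W k0)) hk0
    · exact h
  · intro i hi
    apply hez
    have hy1 : y i = 1 := hf (by
      rw [map_one]
      exact LinearMap.ext fun w => hWmem.1 (hi ▸ Submodule.mem_top : w ∈ W i))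
    have : e = (z ^ i.val)⁻¹ := Subtype.ext (eq_inv_of_mul_eq_one_left hy1)
    rw [this]
    exact Subgroup.inv_mem _ (Subgroup.pow_mem _ (Subgroup.mem_zpowers z) _)
  · obtain ⟨l, hl⟩ := hex π hπ
    exact ⟨_, hmap π hπ l hl i⟩

end Fixed

section CyclicIndexTwo

set_option maxHeartbeats 1600000 in
/-- A two-group with a cyclic subgroup of index two inverted up to `r % 4 = 3`, acting irreducibly:
either two blocks or dimension at most two. -/
theorem blocks_or_finrank_le_two [Finite V] [Nontrivial V] {ρ : Representation (ZMod q) A V}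
    (hf : Function.Injective ρ) (hq2 : q ≠ 2) {P : Subgroup A}
    (hirr : ∀ W : Submodule (ZMod q) V, (∀ π ∈ P, ∀ w ∈ W, ρ π w ∈ W) → W = ⊥ ∨ W = ⊤)
    (b π : P) (a r : ℕ) (ha : 2 ≤ a) (hb : orderOf b = 2 ^ a) (hπ : π ∉ Subgroup.zpowers b)
    (hidx : (Subgroup.zpowers b).index = 2) (hrel : π * b * π⁻¹ = b ^ r) (hr : r % 4 = 3)
    (hr2 : 2 ^ a ∣ r ^ 2 - 1) :
    (∃ W : Fin 2 → Submodule (ZMod q) V, iSupIndep W ∧ (⨆ i, W i) = ⊤ ∧ (∀ i, W i ≠ ⊥) ∧ (∀ i, W i ≠ ⊤) ∧
      (∀ x ∈ P, ∀ i, ∃ j, ∀ w ∈ W i, ρ x w ∈ W j) ∧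
      (∀ i j, ∃ x ∈ P, ∀ w ∈ W i, ρ x w ∈ W j)) ∨
    Module.finrank (ZMod q) V ≤ 2 := by
  classical
  have hbinv : ∀ (W : Submodule (ZMod q) V), (∀ w ∈ W, ρ (b : A) w ∈ W) →
      ∀ x ∈ Subgroup.zpowers b, ∀ w ∈ W, ρ ((x : P) : A) w ∈ W := by
    intro W hW x hx
    obtain ⟨n, rfl⟩ := (mem_powers_iff_mem_zpowers (x := b)).2 hx
    induction n with
    | zero => intro w hw; simpa using hw
    | succ n ih =>
      intro w hw
      have h1 := ih (Subgroup.pow_mem _ (Subgroup.mem_zpowers b) n) (ρ (b : A) w) (hW w hw)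
      simpa only [pow_succ, Subgroup.coe_mul, map_mul, Module.End.mul_apply] using h1
  have hcases : ∀ x : P, x ∈ Subgroup.zpowers b ∨ π⁻¹ * x ∈ Subgroup.zpowers b := by
    intro x
    by_cases hx : x ∈ Subgroup.zpowers b
    · exact Or.inl hx
    · refine Or.inr ?_
      rw [Subgroup.mul_mem_iff_of_index_two hidx]
      simp [inv_mem_iff, hπ, hx]
  by_cases hred : ∃ W : Submodule (ZMod q) V, W ≠ ⊥ ∧ W ≠ ⊤ ∧ ∀ w ∈ W, ρ (b : A) w ∈ W
  · left
    obtain ⟨W0, hW0, hmin⟩ := IsWellFounded.wf.has_min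
      {W : Submodule (ZMod q) V | W ≠ ⊥ ∧ W ≠ ⊤ ∧ ∀ w ∈ W, ρ (b : A) w ∈ W} hred
      (r := ((· < ·) : Submodule (ZMod q) V → Submodule (ZMod q) V → Prop))
    obtain ⟨hne, htop, hbW⟩ := hW0
    set W1 := W0.map (ρ (π : A)) with hW1
    have hbW1 : ∀ w ∈ W1, ρ (b : A) w ∈ W1 := by
      rintro _ ⟨w, hw, rfl⟩
      have hconj : π⁻¹ * b * π ∈ Subgroup.zpowers b := by
        have := Subgroup.normal_of_index_eq_two hidx
        simpa using this.conj_mem b (Subgroup.mem_zpowers b) π⁻¹
      refine ⟨ρ ((π⁻¹ * b * π : P) : A) w, hbinv W0 hbW _ hconj w hw, ?_⟩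
      rw [← Module.End.mul_apply, ← Module.End.mul_apply, ← map_mul, ← map_mul]
      congr 2
      push_cast
      group
    have hπ2 : ∀ w ∈ W1, ρ (π : A) w ∈ W0 := by
      rintro _ ⟨w, hw, rfl⟩
      rw [← Module.End.mul_apply, ← map_mul, ← Subgroup.coe_mul]
      exact hbinv W0 hbW _ (Subgroup.mul_self_mem_of_index_two hidx π) w hw
    have hπ1 : ∀ w ∈ W0, ρ (π : A) w ∈ W1 := fun w hw => Submodule.mem_map_of_mem hw
    have hdec : ∀ x ∈ P, (∀ w ∈ W0, ρ x w ∈ W0) ∧ (∀ w ∈ W1, ρ x w ∈ W1) ∨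
        (∀ w ∈ W0, ρ x w ∈ W1) ∧ (∀ w ∈ W1, ρ x w ∈ W0) := by
      intro x hx
      rcases hcases ⟨x, hx⟩ with h | h
      · exact Or.inl ⟨hbinv W0 hbW _ h, hbinv W1 hbW1 _ h⟩
      · have hxe : x = (π : A) * ((π⁻¹ * ⟨x, hx⟩ : P) : A) := by simp
        refine Or.inr ⟨fun w hw => ?_, fun w hw => ?_⟩
        · rw [hxe, map_mul, Module.End.mul_apply]
          exact hπ1 _ (hbinv W0 hbW _ h w hw)
        · rw [hxe, map_mul, Module.End.mul_apply]
          exact hπ2 _ (hbinv W1 hbW1 _ h w hw)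
    have hne1 : W1 ≠ ⊥ := fun h => hne
      (Submodule.map_injective_of_injective (ρ.apply_bijective (π : A)).1 (h.trans (Submodule.map_bot _).symm))
    have htop1 : W1 ≠ ⊤ := fun h => htop
      (Submodule.map_injective_of_injective (ρ.apply_bijective (π : A)).1
        (h.trans (by rw [Submodule.map_top, LinearMap.range_eq_top.2 (ρ.apply_bijective (π : A)).2])))
    have hbI : ∀ w ∈ W0 ⊓ W1, ρ (b : A) w ∈ W0 ⊓ W1 := fun w hw => ⟨hbW w hw.1, hbW1 w hw.2⟩
    have hinf : Disjoint W0 W1 := by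
      rw [disjoint_iff]
      by_contra hne'
      have h2 : W0 ⊓ W1 = W0 := by
        by_contra h3
        exact hmin _ ⟨hne', fun h => htop (top_le_iff.1 (h ▸ inf_le_left)), hbI⟩ (lt_of_le_of_ne inf_le_left h3)
      have h3 : W0 ≤ W1 := inf_eq_left.1 h2
      rcases hirr W1 (fun x hx => by
        rcases hdec x hx with h | h
        · exact h.2
        · exact fun w hw => h3 (h.2 w hw)) with h | h
      · exact hne1 h
      · exact htop1 h
    refine ⟨![W0, W1], ?_, ?_, ?_, ?_, ?_, ?_⟩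
    · exact (iSupIndep_pair (i := (0 : Fin 2)) (j := 1) (by decide) (fun k => by fin_cases k <;> simp)).2 hinf
    · rcases hirr (W0 ⊔ W1) (fun x hx => by
        intro w hw
        obtain ⟨u, hu, v, hv, rfl⟩ := Submodule.mem_sup.1 hw
        rw [map_add]
        rcases hdec x hx with h | h
        · exact Submodule.add_mem_sup (h.1 u hu) (h.2 v hv)
        · rw [add_comm]; exact Submodule.add_mem_sup (h.2 v hv) (h.1 u hu)) with h | h
      · exact absurd (eq_bot_iff.2 (h ▸ le_sup_left)) hne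
      · rw [eq_top_iff, ← h]
        exact sup_le (le_iSup ![W0, W1] 0) (le_iSup ![W0, W1] 1)
    · intro i; fin_cases i <;> assumption
    · intro i; fin_cases i <;> assumption
    · intro x hx i
      rcases hdec x hx with h | h <;> fin_cases i
      · exact ⟨0, h.1⟩
      · exact ⟨1, h.2⟩
      · exact ⟨1, h.1⟩
      · exact ⟨0, h.2⟩
    · intro i j
      fin_cases i <;> fin_cases j
      · exact ⟨1, P.one_mem, fun w hw => by simpa using hw⟩
      · exact ⟨π, π.2, hπ1⟩
      · exact ⟨π, π.2, hπ2⟩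
      · exact ⟨1, P.one_mem, fun w hw => by simpa using hw⟩
  · right
    push Not at hred
    have hbirr : ∀ W : Submodule (ZMod q) V, (∀ w ∈ W, ρ (b : A) w ∈ W) → W = ⊥ ∨ W = ⊤ := by
      intro W hW
      by_contra h
      push Not at h
      obtain ⟨w, hw, hw'⟩ := hred W h.1 h.2
      exact hw' (hW w hw)
    set B : Module.End (ZMod q) V := ρ (b : A) with hB
    set g := minpoly (ZMod q) B with hg
    have hgne : g ≠ 0 := minpoly.ne_zero (Algebra.IsIntegral.isIntegral B)
    have hgB : Polynomial.aeval B g = 0 := minpoly.aeval (ZMod q) B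
    have hirrg : Irreducible g := by
      constructor
      · intro hu
        exact minpoly.not_isUnit (ZMod q) B hu
      intro g1 g2 h12
      by_contra hcon
      push Not at hcon
      have hker : ∀ h : Polynomial (ZMod q), Polynomial.aeval B h = 0 ∨ LinearMap.ker (Polynomial.aeval B h) = ⊥ := by
        intro h
        rcases hbirr (LinearMap.ker (Polynomial.aeval B h)) (by
          intro w hw
          rw [LinearMap.mem_ker] at hw ⊢
          have : Polynomial.aeval B h * B = B * Polynomial.aeval B h := by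
            nth_rw 2 3 [← Polynomial.aeval_X (R := ZMod q) B]
            rw [← map_mul, ← map_mul, mul_comm]
          rw [← Module.End.mul_apply, this, Module.End.mul_apply, hw, map_zero]) with h' | h'
        · exact Or.inr h'
        · exact Or.inl (LinearMap.ker_eq_top.1 h')
      have hdvd : ∀ h : Polynomial (ZMod q), Polynomial.aeval B h = 0 → g ∣ h := fun h hh => minpoly.dvd _ _ hh
      rcases hker g2 with h2 | h2
      · obtain ⟨c, hc⟩ := hdvd g2 h2
        refine hcon.1 (IsUnit.of_mul_eq_one c (mul_left_cancel₀ hgne ?_))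
        rw [mul_one]
        calc g * (g1 * c) = g1 * (g * c) := by ring
          _ = g := by rw [← hc, ← h12]
      · have h1 : Polynomial.aeval B g1 = 0 := by
          have h3 : Polynomial.aeval B g2 * Polynomial.aeval B g1 = 0 := by rw [← map_mul, mul_comm, ← h12, hgB]
          refine LinearMap.ext fun w => ?_
          have h4 := LinearMap.congr_fun h3 w
          rw [Module.End.mul_apply, LinearMap.zero_apply, ← LinearMap.mem_ker, h2, Submodule.mem_bot] at h4
          exact h4
        obtain ⟨c, hc⟩ := hdvd g1 h1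
        refine hcon.2 (IsUnit.of_mul_eq_one c (mul_left_cancel₀ hgne ?_))
        rw [mul_one]
        calc g * (g2 * c) = g2 * (g * c) := by ring
          _ = g := by rw [← hc, mul_comm, ← h12]
    haveI := Fact.mk hirrg
    let K := AdjoinRoot g
    letI : Field K := AdjoinRoot.instField
    haveI : Module.Finite (ZMod q) K := (AdjoinRoot.powerBasis hgne).finite
    haveI : Finite K := Module.finite_of_finite (ZMod q)
    letI : Fintype K := Fintype.ofFinite K
    -- `V` is a quotient of `K`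
    obtain ⟨v0, hv0⟩ := exists_ne (0 : V)
    let Φ : K →ₐ[ZMod q] Module.End (ZMod q) V := Ideal.Quotient.liftₐ _ (Polynomial.aeval B) (fun h hh => by
      obtain ⟨c, rfl⟩ := Ideal.mem_span_singleton.1 hh
      rw [map_mul, hgB, zero_mul])
    have hΦ : Φ (AdjoinRoot.root g) = B := by
      change Polynomial.aeval B Polynomial.X = B
      exact Polynomial.aeval_X B
    let L : K →ₗ[ZMod q] V := (LinearMap.applyₗ v0).comp Φ.toLinearMap
    have hLapply : ∀ x, L x = Φ x v0 := fun _ => rfl
    have hL : Function.Surjective L := by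
      rw [← LinearMap.range_eq_top]
      refine (hbirr _ ?_).resolve_left fun h => hv0 ?_
      · rintro _ ⟨x, rfl⟩
        exact ⟨AdjoinRoot.root g * x, by rw [hLapply, hLapply, map_mul, hΦ, Module.End.mul_apply]⟩
      · have h1 : v0 ∈ LinearMap.range L := ⟨1, by rw [hLapply, map_one, Module.End.one_apply]⟩
        rwa [h, Submodule.mem_bot] at h1
    refine (L.finrank_le_finrank_of_surjective hL).trans ?_ |> id
    -- arithmetic
    set ζ := AdjoinRoot.root g with hζ
    have hΦi : Function.Injective Φ := RingHom.injective Φ.toRingHom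
    have hζo : orderOf ζ = 2 ^ a := by
      rw [← orderOf_injective (Φ.toRingHom.toMonoidHom) hΦi ζ, ← hb, ← Subgroup.orderOf_coe, ← orderOf_injective ρ hf]
      exact congrArg orderOf hΦ
    have hζr : Polynomial.aeval (ζ ^ r) g = 0 := by
      apply hΦi
      rw [map_zero, ← Polynomial.aeval_algHom_apply, map_pow, hΦ]
      have hP : (B ^ r) = ρ ((π * b * π⁻¹ : P) : A) := by rw [hrel, SubgroupClass.coe_pow, map_pow]
      rw [hP, Subgroup.coe_mul, Subgroup.coe_mul, map_mul, map_mul]
      let c : (Module.End (ZMod q) V)ˣ := ⟨ρ (π : A), ρ ((π⁻¹ : P) : A),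
        by rw [← map_mul, Subgroup.coe_inv, mul_inv_cancel, map_one],
        by rw [← map_mul, Subgroup.coe_inv, inv_mul_cancel, map_one]⟩
      let cj : Module.End (ZMod q) V →ₐ[ZMod q] Module.End (ZMod q) V :=
        (MulSemiringAction.toAlgEquiv (ZMod q) (Module.End (ZMod q) V) (ConjAct.toConjAct c)).toAlgHom
      have hcj : ∀ x, cj x = ρ (π : A) * x * ρ ((π⁻¹ : P) : A) := fun _ => rfl
      rw [← hcj, Polynomial.aeval_algHom_apply, hgB, map_zero]
    let φ : K →ₐ[ZMod q] K := AdjoinRoot.liftAlgHom g (Algebra.ofId (ZMod q) K) (ζ ^ r) hζr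
    have hcq : Fintype.card (ZMod q) = q := ZMod.card q
    obtain ⟨⟨j, hj⟩, hjφ⟩ := (FiniteField.bijective_frobeniusAlgHom_pow (ZMod q) K).2 φ
    have hfrob : ∀ (n : ℕ) (x : K), (FiniteField.frobeniusAlgHom (ZMod q) K ^ n) x = x ^ q ^ n := by
      intro n x
      rw [AlgHom.coe_pow, FiniteField.coe_frobeniusAlgHom, pow_iterate, hcq]
    have hjr : ζ ^ r = ζ ^ q ^ j := by
      rw [← hfrob j ζ]
      have h1 : φ ζ = ζ ^ r := AdjoinRoot.liftAlgHom_root _ _ _ _
      rw [← h1, ← hjφ]
    have hζfin : IsOfFinOrder ζ := orderOf_pos_iff.1 (hζo ▸ pow_pos two_pos a)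
    have hjr' : r ≡ q ^ j [MOD 2 ^ a] := hζo ▸ hζfin.pow_eq_pow_iff_modEq.1 hjr
    set m := 2 ^ a with hm
    have hqodd : Odd q := (Fact.out : q.Prime).odd_of_ne_two hq2
    have hfix : ∀ t : ℕ, q ^ t ≡ 1 [MOD m] → Module.finrank (ZMod q) K ∣ t := by
      intro t ht
      rw [← FiniteField.orderOf_frobeniusAlgHom (ZMod q) K]
      refine orderOf_dvd_of_pow_eq_one (AdjoinRoot.algHom_ext ?_)
      rw [hfrob, AlgHom.one_apply]
      change ζ ^ q ^ t = ζ
      conv_rhs => rw [← pow_one ζ]
      exact hζfin.pow_eq_pow_iff_modEq.2 (hζo.symm ▸ ht)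
    have h2j : q ^ (2 * j) ≡ 1 [MOD m] := by
      rw [mul_comm, pow_mul]
      refine (hjr'.symm.pow 2).trans ((Nat.modEq_iff_dvd' ?_).2 hr2).symm
      exact Nat.one_le_pow _ _ (by omega)
    have hjodd : Odd j := by
      rw [← Nat.not_even_iff_odd]
      rintro ⟨i, rfl⟩
      have h4 : q ^ (i + i) % 4 = r % 4 :=
        (Nat.ModEq.of_dvd (show 4 ∣ m from pow_dvd_pow 2 ha) hjr').symm
      obtain ⟨c, hc⟩ := hqodd.pow (n := i)
      rw [pow_add, hc, hr] at h4
      have h5 : (2 * c + 1) * (2 * c + 1) = 4 * (c * c + c) + 1 := by ring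
      omega
    have hu : q.Coprime m := Nat.Coprime.pow_right a (Nat.coprime_two_right.2 hqodd)
    obtain ⟨e, -, he⟩ : ∃ e ≤ a - 1, orderOf (ZMod.unitOfCoprime q hu) = 2 ^ e := by
      refine (Nat.dvd_prime_pow Nat.prime_two).1 ?_
      haveI : NeZero m := ⟨(pow_pos two_pos a).ne'⟩
      have h := orderOf_dvd_natCard (ZMod.unitOfCoprime q hu)
      rwa [Nat.card_eq_fintype_card, ZMod.card_units_eq_totient, Nat.totient_prime_pow Nat.prime_two (by omega),
        show 2 - 1 = 1 from rfl, mul_one] at h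
    have hqo : ∀ t : ℕ, q ^ t ≡ 1 [MOD m] ↔ orderOf (ZMod.unitOfCoprime q hu) ∣ t := by
      intro t
      rw [orderOf_dvd_iff_pow_eq_one, Units.ext_iff, Units.val_pow_eq_pow_val, ZMod.coe_unitOfCoprime,
        Units.val_one, ← Nat.cast_pow, ← ZMod.natCast_eq_natCast_iff, Nat.cast_one]
    have he2 : 2 ^ e ∣ 2 * j := he ▸ (hqo _).1 h2j
    have he1 : 2 ^ e ∣ 2 := ((Nat.coprime_two_left.2 hjodd).pow_left e).dvd_of_dvd_mul_right he2
    exact (Nat.le_of_dvd (pow_pos two_pos e) (hfix _ ((hqo _).2 (he ▸ dvd_rfl)))).trans (Nat.le_of_dvd two_pos he1)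

end CyclicIndexTwo

section Main

universe u v

set_option maxHeartbeats 1600000 in
/-- The theorem in quotient form. -/
theorem isSolvable_quotient_ker (p : ℕ) [hp : Fact p.Prime] (hpq : p ≠ q) : ∀ (n : ℕ) {A : Type u} [Group A] [Finite A]
    {V : Type v} [AddCommGroup V] [Module (ZMod q) V] [Finite V] (ρ : Representation (ZMod q) A V),
    Nat.card V = n → OrbPow p ρ → ¬ q ∣ Nat.card A → Group.IsSolvable (A ⧸ MonoidHom.ker ρ) := by
  intro n
  induction n using Nat.strong_induction_on with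
  | _ n ih =>
  intro A0 _ _ V _ _ _ ρ0 hn horb0 hq0
  subst hn
  -- pass to the faithful representation
  set A := A0 ⧸ MonoidHom.ker ρ0
  let ρ : Representation (ZMod q) A V := QuotientGroup.lift (MonoidHom.ker ρ0) ρ0 le_rfl
  have hρ : ∀ a : A0, ρ (a : A) = ρ0 a := fun a => rfl
  have hf : Function.Injective ρ := by
    intro x y
    induction x using QuotientGroup.induction_on with
    | _ x =>
    induction y using QuotientGroup.induction_on with
    | _ y =>
    intro h
    rw [hρ, hρ] at h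
    rw [QuotientGroup.eq, MonoidHom.mem_ker, map_mul, ← h, ← map_mul, inv_mul_cancel, map_one]
  have horb : OrbPow p ρ := fun v => by
    obtain ⟨k, hk⟩ := horb0 v
    refine ⟨k, ?_⟩
    have : stab ρ0 v = (stab ρ v).comap (QuotientGroup.mk' (MonoidHom.ker ρ0)) := by ext a; rfl
    rw [this, Subgroup.index_comap_of_surjective _ (QuotientGroup.mk'_surjective _)] at hk
    exact hk
  have hq : ¬ q ∣ Nat.card A := fun h => hq0 (h.trans (Subgroup.card_quotient_dvd_card _))
  rcases subsingleton_or_nontrivial A with hA | hA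
  · infer_instance
  haveI : Nontrivial V := by
    by_contra hV
    rw [not_nontrivial_iff_subsingleton] at hV
    obtain ⟨x, y, hxy⟩ := exists_pair_ne A
    exact hxy (hf (Subsingleton.elim _ _))
  have hcardlt : ∀ W : Submodule (ZMod q) V, W ≠ ⊤ → Nat.card W < Nat.card V := fun W hW => by
    refine lt_of_le_of_ne (Nat.card_le_card_of_injective _ W.injective_subtype) fun h => hW ?_
    rw [eq_top_iff]
    intro x _
    obtain ⟨⟨y, hy⟩, rfl⟩ := (W.injective_subtype.bijective_of_nat_card_le h.ge).2 x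
    exact hy
  -- reducible
  by_cases hred : ∃ W : Submodule (ZMod q) V, W ≠ ⊥ ∧ W ≠ ⊤ ∧ ∀ a, ∀ w ∈ W, ρ a w ∈ W
  · obtain ⟨W, hW1, hW2, hWi⟩ := hred
    let rW : Representation (ZMod q) A W :=
      { toFun := fun a => (ρ a).restrict (hWi a)
        map_one' := LinearMap.ext fun w => Subtype.ext (by simp)
        map_mul' := fun a b => LinearMap.ext fun w => Subtype.ext (by simp) }
    have horbW : OrbPow p rW := fun w => by
      obtain ⟨k, hk⟩ := horb (w : V)
      refine ⟨k, ?_⟩
      have : stab rW w = stab ρ (w : V) := by ext a; exact Subtype.ext_iff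
      rw [this, hk]
    haveI h1 := ih _ (hcardlt W hW2) rW rfl horbW hq
    haveI : Finite (V ⧸ W) := Finite.of_surjective _ W.mkQ_surjective
    have hcardQ : Nat.card (V ⧸ W) < Nat.card V := by
      have h := Submodule.card_eq_card_quotient_mul_card W
      have h2 : 1 < Nat.card W := Finite.one_lt_card_iff_nontrivial.2 (Submodule.nontrivial_iff_ne_bot.2 hW1)
      have h3 : 0 < Nat.card (V ⧸ W) := Nat.card_pos
      rw [h]; nlinarith
    haveI h2 := ih _ hcardQ (quot ρ W hWi) rfl (orbPow_quot horb W hWi) hq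
    let K : Bool → Subgroup A := fun i => if i then MonoidHom.ker rW else MonoidHom.ker (quot ρ W hWi)
    haveI hKn : ∀ i, (K i).Normal := by
      rintro (_ | _)
      · exact MonoidHom.normal_ker (quot ρ W hWi)
      · exact MonoidHom.normal_ker rW
    refine CyclicRegularOdd.isSolvable_of_joint (fun i => QuotientGroup.mk' (K i)) (fun i => ?_) fun a ha => ?_
    · have : Group.IsSolvable (A ⧸ K i) := by
        cases i
        · exact Group.isSolvable_of_surjective (f := (QuotientGroup.quotientMulEquivOfEq (M := MonoidHom.ker (quot ρ W hWi)) (N := K false) rfl).toMonoidHom) (MulEquiv.surjective _)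
        · exact Group.isSolvable_of_surjective (f := (QuotientGroup.quotientMulEquivOfEq (M := MonoidHom.ker rW) (N := K true) rfl).toMonoidHom) (MulEquiv.surjective _)
      infer_instance
    · refine faithful_two ρ hf (fun h => hq (h.trans (orderOf_dvd_natCard a))) W (fun w hw => ?_) fun v => ?_
      · have h := MonoidHom.mem_ker.1 (show a ∈ MonoidHom.ker rW from (QuotientGroup.eq_one_iff a).1 (ha true))
        exact congrArg Subtype.val (LinearMap.congr_fun h ⟨w, hw⟩)
      · have h := MonoidHom.mem_ker.1 (show a ∈ MonoidHom.ker (quot ρ W hWi) from (QuotientGroup.eq_one_iff a).1 (ha false))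
        have h' := LinearMap.congr_fun h (W.mkQ v)
        exact (Submodule.Quotient.eq W).1 h'
  push Not at hred
  obtain ⟨P⟩ := (inferInstance : Nonempty (Sylow p A))
  have hirr : ∀ W : Submodule (ZMod q) V, (∀ π ∈ (P : Subgroup A), ∀ w ∈ W, ρ π w ∈ W) → W = ⊥ ∨ W = ⊤ := by
    intro W hW
    by_contra h
    push Not at h
    obtain ⟨a, w, hw, hw'⟩ := hred W h.1 h.2
    obtain ⟨π, hπ, hπw⟩ := exists_sylow_apply horb P a w
    exact hw' (hπw ▸ hW π hπ w hw)
  have hodd : p ≠ 2 → Odd (Nat.card A) := fun h => odd_card h horb hf hq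
  have hblocks : ∀ {ι : Type} [Finite ι], Nat.card ι = p → ∀ W : ι → Submodule (ZMod q) V,
      iSupIndep W → (⨆ i, W i) = ⊤ → (∀ i, W i ≠ ⊥) → (∀ i, W i ≠ ⊤) →
      (∀ π ∈ (P : Subgroup A), ∀ i, ∃ j, ∀ w ∈ W i, ρ π w ∈ W j) →
      (∀ i j, ∃ π ∈ (P : Subgroup A), ∀ w ∈ W i, ρ π w ∈ W j) → Group.IsSolvable A := by
    intro ι _ hι W h1 h2 h3 h4 h5 h6
    refine isSolvable_of_blocks horb hf hodd P hι W h1 h2 h3 h5 h6 fun A' i hW hA' => ?_
    exact ih _ (hcardlt _ (h4 i)) (restrict ρ A' (W i) hW) rfl (orbPow_restrict horb A' (W i) hW)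
      (fun h => hq (h.trans (Subgroup.card_subgroup_dvd_card A')))
  by_cases hcyc : IsCyclic (P : Subgroup A)
  · rcases eq_or_ne p 2 with rfl | hp2
    · by_cases h2 : 2 ∣ Nat.card A
      · have hmin : (Nat.card A).minFac = 2 := (Nat.minFac_eq_two_iff _).2 h2
        have hN := IsCyclic.isComplement' hmin hcyc
        set O := (MonoidHom.transferSylow P (IsCyclic.normalizer_le_centralizer hmin hcyc)).ker with hO
        have hO1 : O = ⊥ := by
          rw [eq_bot_iff]
          intro o ho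
          rw [Subgroup.mem_bot]
          apply hf
          rw [map_one]
          refine LinearMap.ext fun v => ?_
          obtain ⟨k, hk⟩ := horb v
          have h1 : (stab ρ v).relIndex O ∣ 2 ^ k := hk ▸ relIndex_dvd_index (stab ρ v) O
          have h2' : (stab ρ v).relIndex O ∣ Nat.card O := Subgroup.index_dvd_card _
          have hOodd : (Nat.card O).Coprime 2 := by
            rw [← hN.index_eq_card]
            exact Nat.Coprime.symm ((Nat.prime_two.coprime_iff_not_dvd).2 P.not_dvd_index)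
          have h3 : (stab ρ v).relIndex O = 1 := Nat.eq_one_of_dvd_coprimes (hOodd.pow_right k) h2' h1
          exact Subgroup.relIndex_eq_one.1 h3 ho
        have : IsPGroup 2 A := by
          have h := hN.card_mul_card
          rw [hO1, Subgroup.card_bot, one_mul] at h
          exact IsPGroup.of_card (n := (Nat.card A).factorization 2) (by rw [← P.card_eq_multiplicity, h])
        haveI := this.isNilpotent
        exact @IsNilpotent.to_isSolvable A _ this
      · exfalso
        obtain ⟨x, hx⟩ := exists_ne (1 : A)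
        apply hx
        apply hf
        rw [map_one]
        refine LinearMap.ext fun v => ?_
        obtain ⟨k, hk⟩ := horb v
        have h3 : (stab ρ v).index = 1 := Nat.eq_one_of_dvd_coprimes
          ((((Nat.prime_two.coprime_iff_not_dvd).2 h2)).pow_left k) hk.dvd (Subgroup.index_dvd_card _)
        exact (Subgroup.index_eq_one.1 h3 ▸ Subgroup.mem_top x : x ∈ stab ρ v)
    · -- orbits are regular for the cyclic Sylow subgroup
      let act : MulAction A V :=
        { smul := fun a v => ρ a v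
          one_smul := fun v => by change ρ 1 v = v; simp
          mul_smul := fun a b v => by change ρ (a * b) v = ρ a (ρ b v); simp }
      letI := act
      refine CyclicRegularOdd.isSolvable_of_joint
        (fun v : V => MulAction.toPermHom A (MulAction.orbit A v)) (fun v => ?_) fun a ha => ?_
      · haveI htr : MulAction.IsPretransitive (P : Subgroup A) (MulAction.orbit A v) := ⟨by
          rintro ⟨_, a, rfl⟩ ⟨_, b, rfl⟩
          obtain ⟨π, hπ, hπw⟩ := exists_sylow_apply horb P (b * a⁻¹) (ρ a v)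
          refine ⟨⟨π, hπ⟩, Subtype.ext ?_⟩
          change ρ π (ρ a v) = ρ b v
          rw [hπw, ← Module.End.mul_apply, ← map_mul, inv_mul_cancel_right]⟩
        obtain ⟨k, hk⟩ := horb v
        refine CyclicRegularOdd.isSolvable_range p k (hodd hp2) ?_ (P : Subgroup A) hcyc htr
        rw [Nat.card_coe_set_eq, ← MulAction.index_stabilizer, ← hk]
        congr 1
      · apply hf
        rw [map_one]
        refine LinearMap.ext fun v => ?_
        have h := congrArg (fun σ : Equiv.Perm (MulAction.orbit A v) => ((σ ⟨v, MulAction.mem_orbit_self v⟩ : MulAction.orbit A v) : V)) (ha v)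
        exact h
  rcases pGroup_cases P.isPGroup' hcyc with ⟨U, hUn, hU, hUc⟩ | ⟨rfl, b, π, a, r, ha, hb, hπ, hidx, hrel, hr, hr2⟩
  · haveI := hUn
    obtain ⟨W, h1, h2, h3, h4, h5, h6⟩ := exists_blocks_of_square
      (fun h => hpq ((Nat.prime_dvd_prime_iff_eq Fact.out hp.out).1 h).symm) hf P.isPGroup' hirr U hU hUc
    haveI : NeZero p := ⟨hp.out.ne_zero⟩
    exact hblocks (Nat.card_zmod p) W h1 h2 h3 h4 h5 h6
  · have hq2 : q ≠ 2 := fun h => hpq h.symm
    rcases blocks_or_finrank_le_two hf hq2 hirr b π a r ha hb hπ hidx hrel hr hr2 with ⟨W, h1, h2, h3, h4, h5, h6⟩ | h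
    · exact hblocks (Nat.card_fin 2) W h1 h2 h3 h4 h5 h6
    · exact isSolvable_of_finrank_le_two horb hf hq inferInstance h

/-- A coprime faithful linear group all whose orbits have `p`-power size is solvable. -/
theorem isSolvable_of_orbPow {A : Type u} [Group A] [Finite A] {V : Type v} [AddCommGroup V]
    [Module (ZMod q) V] [Finite V] {p : ℕ} [Fact p.Prime] (hpq : p ≠ q) (ρ : Representation (ZMod q) A V)
    (hf : Function.Injective ρ) (horb : OrbPow p ρ) (hq : ¬ q ∣ Nat.card A) : Group.IsSolvable A := by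
  haveI := isSolvable_quotient_ker (q := q) p hpq _ ρ rfl horb hq
  refine Group.isSolvable_of_isSolvable_injective (f := QuotientGroup.mk' (MonoidHom.ker ρ)) ?_
  rw [← MonoidHom.ker_eq_bot_iff, QuotientGroup.ker_mk', MonoidHom.ker_eq_bot_iff]
  exact hf

end Main

end CfsgLib.Structure80.OrbitPrimePower
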