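import Cfsg.Agent.Lib.Structure81.RelDegreeGraph
import Cfsg.Agent.Lib.Structure80.ThreePrimes

/-!
# The two components of the common-divisor graph on `cd(G | N)` for a soluble `N ≤ G'`

One component consists of the degrees divisible by all primes of `m = |N : N'|`, so it is complete.
A degree `b` outside is prime to `m`.  If it has a linear constituent then it is a multiple of some
orbit length; otherwise its constituent degree `d` is prime to `m` and twisting joins `d` to every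
orbit length.  Two constituent degrees are joined by the three primes theorem, as some prime of `m`
divides an irreducible degree of `N` unless `N` is abelian.
-/

set_option autoImplicit false
set_option linter.unusedSectionVars false
set_option linter.unusedFintypeInType false
set_option linter.style.haveILetI false

namespace CfsgLib.RelDegree80

open Cfsg CfsgLib.Characters CfsgLib.Clifford
open CfsgLib.Structure81.RelDegree

universe u

variable {G : Type u} [Group G] [Finite G] {N : Subgroup G}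

variable [Fintype G] [Fintype N]

/-- The common-divisor graph on `cd(G | N)`. -/
abbrev cdGraph (N : Subgroup G) : SimpleGraph (relCharDegrees N) :=
  commonDivisorGraph.induce (relCharDegrees N)

theorem adj_of_common {a b : relCharDegrees N} (hab : a ≠ b) {d : ℕ} (hd : 1 < d)
    (hda : d ∣ (a : ℕ)) (hdb : d ∣ (b : ℕ)) : (cdGraph N).Adj a b :=
  ⟨fun e => hab (Subtype.ext e), lt_of_lt_of_le hd (Nat.le_of_dvd
    (Nat.gcd_pos_of_pos_left _ (pos_of_mem_rel a.2)) (Nat.dvd_gcd hda hdb))⟩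

theorem two_step {b c y : relCharDegrees N} (hbc : b ≠ c) {d e : ℕ} (hd : 1 < d) (he : 1 < e)
    (hdb : d ∣ (b : ℕ)) (hdy : d ∣ (y : ℕ)) (hey : e ∣ (y : ℕ)) (hec : e ∣ (c : ℕ)) :
    (cdGraph N).Adj b c ∨ ∃ z, (cdGraph N).Adj b z ∧ (cdGraph N).Adj z c := by
  by_cases hby : y = b
  · exact Or.inl (adj_of_common hbc he (hby ▸ hey) hec)
  by_cases hcy : y = c
  · exact Or.inl (adj_of_common hbc hd hdb (hcy ▸ hdy))
  exact Or.inr ⟨y, adj_of_common (Ne.symm hby) hd hdb hdy, adj_of_common hcy he hey hec⟩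

/-- Twisting a constituent of degree prime to `s` meets every character of order `s`. -/
theorem exists_twist (hN : N.Normal) (hNG : N ≤ commutator G) (θ : IrrCharacter N) {s : ℕ}
    (hs : s.Prime) (hd : charDegree (θ : N → ℂ) ≠ 1) (hsd : ¬ s ∣ charDegree (θ : N → ℂ))
    {f : N →* ℂˣ} (hf : orderOf f = s) :
    ∃ y : relCharDegrees N, wgt hN f ∣ (y : ℕ) ∧ charDegree (θ : N → ℂ) ∣ (y : ℕ) := by
  classical
  obtain ⟨D, hD⟩ := CfsgLib.PRational.exists_detHom θ.2
  haveI : Finite (N →* ℂˣ) := inferInstance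
  set u := orderOf D / s ^ (orderOf D).factorization s with hu
  set sk := s ^ (orderOf D).factorization s with hsk
  have hsu : ¬ s ∣ u := Nat.not_dvd_ordCompl hs (orderOf_pos D).ne'
  obtain ⟨j, hj⟩ : ∃ j : ℕ, sk ∣ 1 + charDegree (θ : N → ℂ) * j := by
    haveI : NeZero sk := ⟨(pow_pos hs.pos _).ne'⟩
    refine ⟨(-((charDegree (θ : N → ℂ) : ZMod sk))⁻¹).val, ?_⟩
    rw [← ZMod.natCast_eq_zero_iff, Nat.cast_add, Nat.cast_mul, Nat.cast_one,
      ZMod.natCast_zmod_val, mul_neg, ZMod.coe_mul_inv_eq_one _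
        (Nat.Coprime.pow_right _ ((hs.coprime_iff_not_dvd.2 hsd).symm)), add_neg_cancel]
  set ν := D ^ j * f with hν
  have hirr : IsIrrCharacter N (fun n => (θ : N → ℂ) n * (ν n : ℂ)) :=
    CfsgLib.LinearTwist.isIrr_mul_hom θ.2 ν
  set θ' : IrrCharacter N := ⟨_, hirr⟩ with hθ'
  have hdeq : charDegree (θ' : N → ℂ) = charDegree (θ : N → ℂ) := by
    simp [charDegree, hθ']
  have hθ'1 : (θ' : N → ℂ) ≠ fun _ => 1 := fun e => hd (by
    rw [← hdeq, e]; simp [charDegree])
  obtain ⟨χ', hχ'⟩ := exists_over θ'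
  have hD' : detChar (θ' : N → ℂ) = fun n => ((D * ν ^ charDegree (θ : N → ℂ)) n : ℂ) := by
    rw [show (θ' : N → ℂ) = fun n => (θ : N → ℂ) n * (ν n : ℂ) from rfl,
      CfsgLib.PRational.detChar_mul_hom θ.2 (CfsgLib.CharCorr.irr_one_eq_charDegree θ) ν, hD]
    funext n
    simp [mul_comm]
  have hDo : D ^ ((1 + charDegree (θ : N → ℂ) * j) * u) = 1 := by
    refine (orderOf_dvd_iff_pow_eq_one (x := D)).1 ?_
    have he : orderOf D = sk * u := (Nat.ordProj_mul_ordCompl_eq_self (orderOf D) s).symm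
    rw [he]
    exact Nat.mul_dvd_mul hj dvd_rfl
  have hpow : (D * ν ^ charDegree (θ : N → ℂ)) ^ u = f ^ (charDegree (θ : N → ℂ) * u) := by
    refine MonoidHom.ext fun n => ?_
    have := DFunLike.congr_fun hDo n
    simp only [MonoidHom.pow_apply, MonoidHom.one_apply] at this
    simp only [hν, MonoidHom.pow_apply, MonoidHom.mul_apply]
    calc (D n * (D n ^ j * f n) ^ charDegree (θ : N → ℂ)) ^ u
        = D n ^ ((1 + charDegree (θ : N → ℂ) * j) * u) * f n ^ (charDegree (θ : N → ℂ) * u) := by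
          simp only [mul_pow, ← pow_mul, ← mul_assoc, add_mul, one_mul, pow_add]
          ring_nf
      _ = _ := by rw [this, one_mul]
  have hndu : ¬ s ∣ charDegree (θ : N → ℂ) * u := fun e =>
    (hs.dvd_mul.1 e).elim hsd hsu
  have hord : orderOf ((D * ν ^ charDegree (θ : N → ℂ)) ^ u) = s := by
    rw [hpow, Nat.Coprime.orderOf_pow (hf ▸ hs.coprime_iff_not_dvd.2 hndu), hf]
  have hw := wgt_dvd hN hNG hχ' hD' hs hord
  rw [hpow, wgt_pow hs hf hndu] at hw
  exact ⟨⟨_, mem_rel_of_over hθ'1 hχ'⟩, hw, hdeq ▸ degree_dvd hN hNG hχ'⟩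

/-- A vertex above a linear constituent. -/
theorem exists_linear_weight (hN : N.Normal) (hNG : N ≤ commutator G) {χ : IrrCharacter G}
    {θ : IrrCharacter N} (hθ1 : (θ : N → ℂ) ≠ fun _ => 1)
    (hθ : classInner (fun n : N => (χ : G → ℂ) n) (θ : N → ℂ) ≠ 0)
    (hd : charDegree (θ : N → ℂ) = 1) :
    ∃ (r : ℕ) (f : N →* ℂˣ), r.Prime ∧ orderOf f = r ∧ wgt hN f ∣ charDegree (χ : G → ℂ) := by
  classical
  obtain ⟨f, hf⟩ := CfsgLib.LinearTwist.exists_hom_of_charDegree_one (irr_isCharacter θ) hd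
  have hDf : detChar (θ : N → ℂ) = fun n => (f n : ℂ) := by rw [hf, detChar_hom]
  have hne : orderOf f ≠ 1 := fun e => hθ1 (by
    rw [hf, orderOf_eq_one_iff.1 e]; funext n; simp)
  obtain ⟨r, hr, hrd⟩ := Nat.exists_prime_and_dvd hne
  haveI : Finite (N →* ℂˣ) := inferInstance
  have hord : orderOf (f ^ (orderOf f / r)) = r := by
    rw [orderOf_pow_of_dvd (Nat.div_ne_zero_iff.2 ⟨hr.ne_zero, Nat.le_of_dvd (orderOf_pos f) hrd⟩)
      (Nat.div_dvd_of_dvd hrd), Nat.div_div_self hrd (orderOf_pos f).ne']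
  exact ⟨r, _, hr, hord, wgt_dvd hN hNG hθ hDf hr hord⟩

/-- Two weights are both met by one vertex. -/
theorem exists_between (hN : N.Normal) (hNG : N ≤ commutator G) {f f' : N →* ℂˣ} {r : ℕ}
    (hr : r.Prime) (hf : orderOf f = r) (hf' : orderOf f' = r) (hn1 : 1 < (stab hN f).index)
    (hn1' : 1 < (stab hN f').index) (hcop : (stab hN f).index.Coprime (stab hN f').index)
    (hnr : ¬ r ∣ (stab hN f).index) (hnr' : ¬ r ∣ (stab hN f').index) :
    ∃ (y : relCharDegrees N) (q q' : ℕ), q.Prime ∧ q'.Prime ∧ q ∣ (y : ℕ) ∧ q' ∣ (y : ℕ) ∧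
      q ∣ (stab hN f).index ∧ q' ∣ (stab hN f').index := by
  classical
  have hfr : f ^ r = 1 := hf ▸ pow_orderOf_eq_one f
  have hfr' : f' ^ r = 1 := hf' ▸ pow_orderOf_eq_one f'
  have g1 := exists_gcd_ne_one hN hr hfr' hfr hn1 hcop hnr'
  have g2 := exists_gcd_ne_one hN hr hfr hfr' hn1' hcop.symm hnr
  rw [show f' * f = f * f' from mul_comm f' f] at g2
  set n₃ := (stab hN (f * f')).index with hn₃
  have hne1 : n₃ ≠ 1 := fun e => g1 (by rw [e]; exact Nat.coprime_one_left _)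
  set θ : IrrCharacter N := ⟨_, isIrrCharacter_of_hom (f * f')⟩ with hθ
  have hne : f * f' ≠ 1 := fun e => hne1 (by
    rw [hn₃, e, Subgroup.index_eq_one, eq_top_iff]
    intro g _; rw [mem_stab]; exact MonoidHom.one_comp _)
  have hθ1 : (θ : N → ℂ) ≠ fun _ => 1 := fun e =>
    hne (MonoidHom.ext fun n => Units.ext (congrFun e n))
  obtain ⟨χ, hχ⟩ := exists_over θ
  have hord : orderOf ((f * f') ^ 1) = r := by
    rw [pow_one]
    haveI := Fact.mk hr
    refine orderOf_eq_prime ((mul_pow f f' r).trans ?_) hne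
    rw [hfr, hfr']
    exact one_mul (M := N →* ℂˣ) 1
  have hwd := wgt_dvd hN hNG hχ (detChar_hom (f * f')) hr hord
  rw [pow_one (f * f'), wgt, if_neg hne1] at hwd
  obtain ⟨q, hq, hq3, hq1⟩ := Nat.Prime.not_coprime_iff_dvd.1 g1
  obtain ⟨q', hq', hq3', hq2⟩ := Nat.Prime.not_coprime_iff_dvd.1 g2
  exact ⟨⟨_, mem_rel_of_over hθ1 hχ⟩, q, q', hq, hq', hq3.trans hwd, hq3'.trans hwd, hq1, hq2⟩

/-- If no prime of `|N : N'|` divides an irreducible degree, the soluble group is abelian. -/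
theorem not_degDvd_of_none {H : Type u} [Group H] [Finite H] [Group.IsSolvable H]
    (hnone : ∀ r : ℕ, r.Prime → r ∣ (commutator H).index → ¬ Palfy80.DegDvd r H) {p : ℕ}
    (hp : p.Prime) : ¬ Palfy80.DegDvd p H := by
  classical
  let π := {r : ℕ // r.Prime ∧ r ∣ (commutator H).index}
  let R : π → Subgroup H := fun r => ((default : Sylow r.1 H) : Subgroup H)
  have hR : ∀ r, (R r).Normal ∧ ∀ x ∈ R r, ∀ y ∈ R r, x * y = y * x := fun r => by
    haveI := Fact.mk r.2.1
    exact Palfy80.sylow_of_not_degDvd (hnone r.1 r.2.1 r.2.2) _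
  set A : Subgroup H := ⨆ r, R r with hA
  haveI hAn : A.Normal := by
    haveI := fun r => (hR r).1
    infer_instance
  have hcomm : ∀ r s, R r ≤ Subgroup.centralizer (R s : Set H) := by
    intro r s x hx
    rw [Subgroup.mem_centralizer_iff]
    intro y hy
    by_cases hrs : r = s
    · subst hrs; exact (hR r).2 y hy x hx
    haveI := Fact.mk r.2.1
    haveI := Fact.mk s.2.1
    haveI := (hR r).1
    haveI := (hR s).1
    have hdisj : Disjoint (R s) (R r) := by
      rw [disjoint_iff]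
      rw [← disjoint_iff]
      exact IsPGroup.disjoint_of_ne s.1 r.1 (fun e => hrs (Subtype.ext e.symm)) _ _
        (default : Sylow s.1 H).isPGroup' (default : Sylow r.1 H).isPGroup'
    exact Subgroup.commute_of_normal_of_disjoint (R s) (R r) inferInstance inferInstance hdisj
      y x hy hx
  have hab : ∀ x ∈ A, ∀ y ∈ A, x * y = y * x := by
    have h1 : ∀ s, A ≤ Subgroup.centralizer (R s : Set H) := fun s => iSup_le fun r => hcomm r s
    have h2 : A ≤ Subgroup.centralizer (A : Set H) := iSup_le fun s x hx => by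
      rw [Subgroup.mem_centralizer_iff]
      intro y hy
      exact (Subgroup.mem_centralizer_iff.1 (h1 s hy) x hx).symm
    intro x hx y hy
    exact (Subgroup.mem_centralizer_iff.1 (h2 hx) y hy).symm
  suffices htop : A = ⊤ by
    refine Palfy80.not_degDvd_of_abelian A hab ?_
    rw [htop, Subgroup.index_top]
    exact hp.not_dvd_one
  have hsup : commutator H ⊔ A = ⊤ := by
    rw [← Subgroup.index_eq_one]
    by_contra h
    obtain ⟨r, hr, hrd⟩ := Nat.exists_prime_and_dvd h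
    have hrc : r ∣ (commutator H).index := hrd.trans (Subgroup.index_dvd_of_le le_sup_left)
    haveI := Fact.mk hr
    refine (default : Sylow r H).not_dvd_index ?_
    exact hrd.trans (Subgroup.index_dvd_of_le
      ((le_iSup R ⟨r, hr, hrc⟩).trans le_sup_right))
  by_contra hA1
  haveI : Nontrivial (H ⧸ A) := QuotientGroup.nontrivial_iff.2 hA1
  refine (Group.IsSolvable.commutator_lt_top_of_nontrivial (H ⧸ A)).ne ?_
  have hsurj := QuotientGroup.mk'_surjective A
  have hmap : (commutator H).map (QuotientGroup.mk' A) = commutator (H ⧸ A) := by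
    rw [commutator_def, Subgroup.map_commutator, Subgroup.map_top_of_surjective _ hsurj,
      ← commutator_def]
  rw [← hmap, ← Subgroup.map_top_of_surjective _ hsurj, ← hsup, Subgroup.map_sup]
  simp [QuotientGroup.map_mk'_self]

/-- A weight dividing a vertex prime to `|N : N'|` is a nontrivial orbit length prime to the order. -/
theorem index_of_weight (hN : N.Normal) {k : N →* ℂˣ} {r c : ℕ} (hr : r.Prime)
    (hk : orderOf k = r) (hkc : wgt hN k ∣ c) (hc : ¬ r ∣ c) :
    (stab hN k).index = wgt hN k ∧ 1 < (stab hN k).index ∧ ¬ r ∣ (stab hN k).index := by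
  rw [wgt] at hkc ⊢
  split_ifs at hkc ⊢ with hk1
  · exact absurd (hk ▸ hkc) hc
  · have := Subgroup.index_ne_zero_of_finite (H := stab hN k)
    exact ⟨rfl, by omega, fun e => hc (e.trans hkc)⟩

/-- The two components. -/
theorem disconnected [Group.IsSolvable N] (hN : N.Normal) (hNG : N ≤ commutator G)
    (hdisc : ¬ (cdGraph N).Preconnected) :
    ∃ a₀ : ↥(relCharDegrees N),
      (∀ b c : ↥(relCharDegrees N), (cdGraph N).Reachable a₀ b → (cdGraph N).Reachable a₀ c →
        b ≠ c → (cdGraph N).Adj b c) ∧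
      (∀ b c : ↥(relCharDegrees N), ¬ (cdGraph N).Reachable a₀ b → ¬ (cdGraph N).Reachable a₀ c →
        b ≠ c → (cdGraph N).Adj b c ∨
          ∃ d : ↥(relCharDegrees N), (cdGraph N).Adj b d ∧ (cdGraph N).Adj d c) := by
  classical
  obtain ⟨a, b, hab⟩ : ∃ a b, ¬ (cdGraph N).Reachable a b := by
    simpa [SimpleGraph.Preconnected] using hdisc
  haveI : Nontrivial N := by
    obtain ⟨χ, ⟨x, hx, hne⟩, -⟩ := a.2
    exact ⟨⟨⟨x, hx⟩, 1, fun e => hne (by rw [show x = 1 from congrArg Subtype.val e])⟩⟩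
  set m := (⁅N, N⁆).relIndex N with hm
  have hmi : (commutator N).index = m := by
    rw [hm, Subgroup.relIndex, ← Subgroup.map_subtype_commutator, Subgroup.subgroupOf,
      Subgroup.comap_map_eq_self_of_injective N.subtype_injective]
  have hm1 : m ≠ 1 := by
    rw [← hmi]
    exact fun e => (Group.IsSolvable.commutator_lt_top_of_nontrivial N).ne
      (Subgroup.index_eq_one.1 e)
  have hN' : ⁅N, N⁆ < N :=
    lt_of_le_not_ge (Subgroup.commutator_le_self N) fun h => hm1 (Subgroup.relIndex_eq_one.2 h)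
  obtain ⟨r₀, hr₀, hr₀m⟩ := Nat.exists_prime_and_dvd hm1
  obtain ⟨-, hsep⟩ := Structure81.RelDegree.main hN hNG hN'
  set All := fun a : ℕ => ∀ r : ℕ, r.Prime → r ∣ m → r ∣ a with hAll
  obtain ⟨a₀, b₁, hA₀, hab₁, hb₁⟩ : ∃ a₀ b₁ : relCharDegrees N,
      All a₀ ∧ ¬ (cdGraph N).Reachable a₀ b₁ ∧ ¬ All b₁ := by
    have key : ∀ a b : relCharDegrees N, ¬ (cdGraph N).Reachable a b → All a → ¬ All b :=
      fun a b h ha hb => h (reach_of_common a.2 b.2 hr₀.one_lt (ha r₀ hr₀ hr₀m) (hb r₀ hr₀ hr₀m)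
        (pos_of_mem_rel a.2))
    rcases hsep a b a.2 b.2 hab with ⟨-, h⟩ | ⟨-, h⟩
    · exact ⟨b, a, h, fun e => hab e.symm, key b a (fun e => hab e.symm) h⟩
    · exact ⟨a, b, h, hab, key a b hab h⟩
  have hnone : ∀ x y : relCharDegrees N, ¬ All x → ¬ All y → (cdGraph N).Reachable x y := by
    intro x y hx hy
    simp only [hAll, not_forall] at hx hy
    obtain ⟨s, hs, hsm, hsx⟩ := hx
    obtain ⟨t, ht, htm, hty⟩ := hy
    exact reach_of_not_all hN hNG x y hs hsm hsx ht htm hty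
  have hin : ∀ x : relCharDegrees N, (cdGraph N).Reachable a₀ x → All x := by
    intro x hx
    by_contra h
    exact hab₁ (hx.trans (hnone x b₁ h hb₁))
  have hout : ∀ x : relCharDegrees N, ¬ (cdGraph N).Reachable a₀ x →
      ∀ r : ℕ, r.Prime → r ∣ m → ¬ r ∣ (x : ℕ) := fun x hx r hr hrm hrx =>
    hx (reach_of_common a₀.2 x.2 hr.one_lt (hA₀ r hr hrm) hrx (pos_of_mem_rel a₀.2))
  refine ⟨a₀, fun b c hb hc hbc => adj_of_common hbc hr₀.one_lt (hin b hb r₀ hr₀ hr₀m)
    (hin c hc r₀ hr₀ hr₀m), fun b c hb hc hbc => ?_⟩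
  -- outside the complete component
  obtain ⟨χ, hχ, hdeg⟩ := b.2
  obtain ⟨θ, hθ1, hθ⟩ := exists_nontrivial_constituent hχ
  obtain ⟨χ', hχ', hdeg'⟩ := c.2
  obtain ⟨θ', hθ'1, hθ'⟩ := exists_nontrivial_constituent hχ'
  have hdb : charDegree (θ : N → ℂ) ∣ (b : ℕ) := hdeg ▸ degree_dvd hN hNG hθ
  have hdc : charDegree (θ' : N → ℂ) ∣ (c : ℕ) := hdeg' ▸ degree_dvd hN hNG hθ'
  have hpos := CfsgLib.CharCorr.charDegree_irr_pos θ
  have hpos' := CfsgLib.CharCorr.charDegree_irr_pos θ'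
  by_cases hd : charDegree (θ : N → ℂ) = 1
  · obtain ⟨r, f, hr, hf, hw⟩ := exists_linear_weight hN hNG hθ1 hθ hd
    rw [hdeg] at hw
    have hrm := prime_dvd_relIndex hf
    by_cases hd' : charDegree (θ' : N → ℂ) = 1
    · obtain ⟨s, f', hs, hf', hw'⟩ := exists_linear_weight hN hNG hθ'1 hθ' hd'
      rw [hdeg'] at hw'
      by_cases hrs : r = s
      · subst hrs
        obtain ⟨he, hn1, hnr⟩ := index_of_weight hN hr hf hw (hout b hb r hr hrm)
        obtain ⟨he', hn1', hnr'⟩ := index_of_weight hN hr hf' hw' (hout c hc r hr hrm)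
        by_cases hcop : (stab hN f).index.Coprime (stab hN f').index
        · obtain ⟨y, q, q', hq, hq', hqy, hqy', hq1, hq2⟩ :=
            exists_between hN hNG hr hf hf' hn1 hn1' hcop hnr hnr'
          exact two_step hbc hq.one_lt hq'.one_lt ((hq1.trans he.dvd).trans hw) hqy hqy'
            ((hq2.trans he'.dvd).trans hw')
        · obtain ⟨q, hq, hq1, hq2⟩ := Nat.Prime.not_coprime_iff_dvd.1 hcop
          exact Or.inl (adj_of_common hbc hq.one_lt ((hq1.trans he.dvd).trans hw)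
            ((hq2.trans he'.dvd).trans hw'))
      · obtain ⟨y, hy, hy'⟩ := exists_vertex_two hN hNG hr hs hrs hf hf'
        exact two_step hbc (one_lt_wgt hr hf) (one_lt_wgt hs hf') hw hy hy' hw'
    · obtain ⟨y, hy, hy'⟩ := exists_twist hN hNG θ' hr hd'
        (fun e => hout c hc r hr hrm (e.trans hdc)) hf
      exact two_step hbc (one_lt_wgt hr hf) (by omega) hw hy hy' hdc
  by_cases hd' : charDegree (θ' : N → ℂ) = 1
  · obtain ⟨s, f', hs, hf', hw'⟩ := exists_linear_weight hN hNG hθ'1 hθ' hd'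
    rw [hdeg'] at hw'
    have hsm := prime_dvd_relIndex hf'
    obtain ⟨y, hy, hy'⟩ := exists_twist hN hNG θ hs hd
      (fun e => hout b hb s hs hsm (e.trans hdb)) hf'
    exact two_step hbc (by omega) (one_lt_wgt hs hf') hdb hy' hy hw'
  obtain ⟨p, hp, hpd⟩ := Nat.exists_prime_and_dvd hd
  obtain ⟨q, hq, hqd⟩ := Nat.exists_prime_and_dvd hd'
  by_cases hpq : p = q
  · subst hpq
    exact Or.inl (adj_of_common hbc hp.one_lt (hpd.trans hdb) (hqd.trans hdc))
  obtain ⟨r, hr, hrm, hrdeg⟩ : ∃ r : ℕ, r.Prime ∧ r ∣ m ∧ Palfy80.DegDvd r N := by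
    by_contra h
    refine not_degDvd_of_none (fun r hr hrd hD => h ⟨r, hr, hmi ▸ hrd, hD⟩) hp ⟨θ, hpd⟩
  have hrp : r ≠ p := fun e => hout b hb r hr hrm (e ▸ hpd.trans hdb)
  have hrq : r ≠ q := fun e => hout c hc r hr hrm (e ▸ hqd.trans hdc)
  have hlift : ∀ {k l : ℕ}, k.Prime → Palfy80.DegDvd (k * l) N →
      ∃ y : relCharDegrees N, k ∣ (y : ℕ) ∧ l ∣ (y : ℕ) := by
    rintro k l hk ⟨ψ, hψ⟩
    obtain ⟨ω, hω⟩ := exists_over ψ
    have hψ1 : (ψ : N → ℂ) ≠ fun _ => 1 := fun e => by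
      rw [e, charDegree] at hψ
      simp only [Complex.one_re, Nat.floor_one, Nat.dvd_one, mul_eq_one] at hψ
      exact hk.one_lt.ne' hψ.1
    have hdiv := hψ.trans (degree_dvd hN hNG hω)
    exact ⟨⟨_, mem_rel_of_over hψ1 hω⟩, (dvd_mul_right _ _).trans hdiv,
      (dvd_mul_left _ _).trans hdiv⟩
  by_cases h1 : Palfy80.DegDvd (p * q) N
  · obtain ⟨y, hy, hy'⟩ := hlift hp h1
    exact two_step hbc hp.one_lt hq.one_lt (hpd.trans hdb) hy hy' (hqd.trans hdc)
  have hfar : ∀ (x : relCharDegrees N) (k : ℕ), k.Prime → k ∣ (x : ℕ) →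
      Palfy80.DegDvd (r * k) N → (cdGraph N).Reachable a₀ x := by
    intro x k hk hkx h
    obtain ⟨y, hy, hy'⟩ := hlift hr h
    exact (reach_of_common a₀.2 y.2 hr.one_lt (hA₀ r hr hrm) hy (pos_of_mem_rel a₀.2)).trans
      (reach_of_common y.2 x.2 hk.one_lt hy' hkx (pos_of_mem_rel y.2))
  exfalso
  exact Palfy80.three_primes (Nat.card N) rfl
    (⟨hr, hp, hq, hrp, hrq, hpq, hrdeg, ⟨θ, hpd⟩, ⟨θ', hqd⟩,
      fun h => hb (hfar b p hp (hpd.trans hdb) h),
      fun h => hc (hfar c q hq (hqd.trans hdc) h), h1⟩ : Palfy80.Triple N r p q)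

end CfsgLib.RelDegree80
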