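import Mathlib
import Cfsg.Agent.Lib.Solvable.Fitting
import Cfsg.Agent.Lib.Structure.Subnormal
import Cfsg.Agent.Lib.Structure.NilpotentSubnormal
import Cfsg.Agent.Lib.Isolated.LocalCentral

/-!
# Subnormalizers of `p`-subgroups

`H` is subnormal in `⟨H, g⟩` iff `g` normalizes some `p`-subgroup over `H`; the number of these `g`
is `#{Sylow subgroups over H} * #N(P)`.  The count uses a Möbius function on invariant
`p`-subgroups, whose sum over a local subgroup is shown to vanish below the top.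
-/

namespace CfsgLib.Structure80

open Subgroup

variable {G : Type*} [Group G] {p : ℕ}

/-- `Q` is a `p`-subgroup of `M` normalized by `g`. -/
def IsInvP (p : ℕ) (M : Subgroup G) (g : G) (Q : Subgroup G) : Prop :=
  IsPGroup p Q ∧ Q ≤ M ∧ g ∈ normalizer (Q : Set G)

/-- `Q` is a maximal `p`-subgroup of `M`. -/
def IsMaxP (p : ℕ) (M : Subgroup G) (Q : Subgroup G) : Prop :=
  IsPGroup p Q ∧ Q ≤ M ∧ ∀ Q' : Subgroup G, IsPGroup p Q' → Q' ≤ M → Q ≤ Q' → Q' = Q

theorem mem_normalizer_sSup {S : Set (Subgroup G)} {g : G}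
    (h : ∀ Q ∈ S, g ∈ normalizer (Q : Set G)) : g ∈ normalizer ((sSup S : Subgroup G) : Set G) :=
  by
  rw [mem_normalizer_iff_map_conj_eq, sSup_eq_iSup]
  simp only [Subgroup.map_iSup]
  exact iSup_congr fun Q => iSup_congr fun hQ => mem_normalizer_iff_map_conj_eq.1 (h Q hQ)

theorem mem_normalizer_finset_sup {t : Finset (Subgroup G)} {g : G}
    (h : ∀ Q ∈ t, g ∈ normalizer (Q : Set G)) :
    g ∈ normalizer ((t.sup id : Subgroup G) : Set G) := by
  rw [Finset.sup_id_eq_sSup]
  exact mem_normalizer_sSup h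

theorem mem_normalizer_inf {A B : Subgroup G} {g : G} (hA : g ∈ normalizer (A : Set G))
    (hB : g ∈ normalizer (B : Set G)) : g ∈ normalizer ((A ⊓ B : Subgroup G) : Set G) := by
  rw [mem_normalizer_iff]
  intro x
  rw [mem_inf, mem_inf, mem_normalizer_iff.1 hA x, mem_normalizer_iff.1 hB x]

theorem mem_normalizer_sInf {S : Set (Subgroup G)} {g : G}
    (h : ∀ Q ∈ S, g ∈ normalizer (Q : Set G)) : g ∈ normalizer ((sInf S : Subgroup G) : Set G) := by
  rw [mem_normalizer_iff]
  intro x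
  simp only [Subgroup.mem_sInf]
  exact forall₂_congr fun Q hQ => mem_normalizer_iff.1 (h Q hQ) x

variable [Finite G]

open Classical in
/-- The invariant `p`-subgroups strictly over `R`. -/
noncomputable def invGT (p : ℕ) (M : Subgroup G) (g : G) (R : Subgroup G) : Finset (Subgroup G) :=
  (Set.toFinite {Q : Subgroup G | IsInvP p M g Q ∧ R < Q}).toFinset

open Classical in
/-- The invariant `p`-subgroups over `R`. -/
noncomputable def invGE (p : ℕ) (M : Subgroup G) (g : G) (R : Subgroup G) : Finset (Subgroup G) :=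
  (Set.toFinite {Q : Subgroup G | IsInvP p M g Q ∧ R ≤ Q}).toFinset

theorem mem_invGT {M R Q : Subgroup G} {g : G} :
    Q ∈ invGT p M g R ↔ IsInvP p M g Q ∧ R < Q := by
  simp [invGT]

theorem mem_invGE {M R Q : Subgroup G} {g : G} :
    Q ∈ invGE p M g R ↔ IsInvP p M g Q ∧ R ≤ Q := by
  simp [invGE]

/-- The Möbius function of the poset of invariant `p`-subgroups, to the top. -/
noncomputable def mob (p : ℕ) (M : Subgroup G) (g : G) (R : Subgroup G) : ℤ :=
  1 - ∑ Q ∈ (invGT p M g R).attach, mob p M g Q.1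
termination_by Nat.card G - Nat.card R
decreasing_by
  have hlt := (mem_invGT.1 Q.2).2
  have h1 : Nat.card R < Nat.card (Q.1 : Subgroup G) :=
    lt_of_not_ge fun h => hlt.ne (Subgroup.eq_of_le_of_card_ge hlt.le h)
  have h2 := Nat.le_of_dvd Nat.card_pos (card_subgroup_dvd_card (Q.1 : Subgroup G))
  omega

theorem mob_eq (M : Subgroup G) (g : G) (R : Subgroup G) :
    mob p M g R = 1 - ∑ Q ∈ invGT p M g R, mob p M g Q := by
  rw [mob, Finset.sum_attach (invGT p M g R) (fun Q => mob p M g Q)]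

theorem sum_mob_invGE {M R : Subgroup G} {g : G} (h : IsInvP p M g R) :
    ∑ Q ∈ invGE p M g R, mob p M g Q = 1 := by
  classical
  have he : invGE p M g R = insert R (invGT p M g R) := by
    ext Q
    simp only [mem_invGE, Finset.mem_insert, mem_invGT]
    constructor
    · rintro ⟨h1, h2⟩
      rcases h2.eq_or_lt with rfl | h3
      exacts [Or.inl rfl, Or.inr ⟨h1, h3⟩]
    · rintro (rfl | ⟨h1, h2⟩)
      exacts [⟨h, le_rfl⟩, ⟨h1, h2.le⟩]
  rw [he, Finset.sum_insert (by simp [mem_invGT]), mob_eq]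
  ring

/-- The Möbius value only depends on the local subgroup. -/
theorem mob_local [Fact p.Prime] {M R : Subgroup G} {g : G} (hR : IsInvP p M g R) :
    mob p M g R = mob p (M ⊓ normalizer (R : Set G)) g R := by
  classical
  have formula : ∀ L : Subgroup G, IsInvP p L g R → mob p L g R = 1 -
      ∑ t : (invGT p (L ⊓ normalizer (R : Set G)) g R).powerset.filter (·.Nonempty),
        (-1 : ℤ) ^ (Finset.card t.1 + 1) • (if IsPGroup p (t.1.sup id : Subgroup G) then (1 : ℤ) else 0) := by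
    intro L hL
    rw [mob_eq]
    congr 1
    set A := invGT p (L ⊓ normalizer (R : Set G)) g R with hA
    have hU : invGT p L g R = A.biUnion (fun a => invGE p L g a) := by
      ext Q
      simp only [Finset.mem_biUnion, mem_invGE, hA, mem_invGT]
      constructor
      · rintro ⟨hQ, hlt⟩
        refine ⟨Q ⊓ normalizer (R : Set G), ⟨⟨hQ.1.to_le inf_le_left,
          inf_le_inf_right _ hQ.2.1, mem_normalizer_inf hQ.2.2 ?_⟩,
          CfsgLib.Isolated.lt_inf_normalizer hQ.1 hlt⟩, hQ, inf_le_left⟩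
        exact le_normalizer hL.2.2
      · rintro ⟨a, ⟨-, hlt⟩, hQ, hle⟩
        exact ⟨hQ, hlt.trans_le hle⟩
    rw [hU, Finset.inclusion_exclusion_sum_biUnion]
    refine Finset.sum_congr rfl fun t _ => ?_
    congr 1
    have ht := Finset.mem_filter.1 t.2
    have hne := ht.2
    have hsub : ∀ a ∈ t.1, IsInvP p L g a := fun a ha => by
      obtain ⟨⟨h1, h2, h3⟩, -⟩ := mem_invGT.1 (Finset.mem_powerset.1 ht.1 ha)
      exact ⟨h1, h2.trans inf_le_left, h3⟩
    have hinf : ∀ Q, Q ∈ t.1.inf' hne (fun a => invGE p L g a) ↔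
        IsInvP p L g Q ∧ t.1.sup id ≤ Q := by
      intro Q
      constructor
      · intro hQ
        have h' : ∀ a ∈ t.1, IsInvP p L g Q ∧ a ≤ Q := fun a ha =>
          mem_invGE.1 (Finset.inf'_le (fun a => invGE p L g a) ha hQ)
        exact ⟨(h' _ hne.choose_spec).1, Finset.sup_le fun a ha => (h' a ha).2⟩
      · rintro ⟨hQ, hle⟩
        have h' := Finset.le_inf' hne (fun a => invGE p L g a) (a := ({Q} : Finset (Subgroup G))) fun a ha =>
          Finset.singleton_subset_iff.2 (mem_invGE.2 ⟨hQ, (Finset.le_sup (f := id) ha).trans hle⟩)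
        exact Finset.singleton_subset_iff.1 h'
    split_ifs with hp
    · have hJ : IsInvP p L g (t.1.sup id) :=
        ⟨hp, Finset.sup_le fun a ha => (hsub a ha).2.1,
          mem_normalizer_finset_sup fun a ha => (hsub a ha).2.2⟩
      rw [← sum_mob_invGE hJ]
      refine Finset.sum_congr (Finset.ext fun Q => ?_) fun _ _ => rfl
      rw [hinf, mem_invGE]
    · refine Finset.sum_eq_zero fun Q hQ => absurd (((hinf Q).1 hQ).1.1.to_le ((hinf Q).1 hQ).2) hp
  rw [formula M hR, formula _ ⟨hR.1, le_inf hR.2.1 le_normalizer, hR.2.2⟩, inf_assoc, inf_idem]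

open Classical in
/-- Sum of the Möbius values over the local subgroup. -/
noncomputable def mobSum (p : ℕ) (M R : Subgroup G) : ℤ :=
  ∑ g ∈ (Set.toFinite ((M ⊓ normalizer (R : Set G) : Subgroup G) : Set G)).toFinset, mob p M g R

theorem sum_card_normalizer_maxP [hp : Fact p.Prime] (M : Subgroup G) (S : Finset (Subgroup G))
    (hS : ∀ Q, Q ∈ S ↔ IsMaxP p M Q) :
    ∑ Q ∈ S, (Nat.card ↥(M ⊓ normalizer (Q : Set G)) : ℤ) = Nat.card M := by
  classical
  letI := Fintype.ofFinite (Sylow p M)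
  have hSe : S = Finset.univ.image (fun T : Sylow p M => (T : Subgroup M).map M.subtype) := by
    ext Q
    rw [hS, Finset.mem_image]
    constructor
    · rintro ⟨h1, h2, h3⟩
      obtain ⟨T, hT⟩ := (h1.comap_of_injective M.subtype M.subtype_injective).exists_le_sylow
      refine ⟨T, Finset.mem_univ _, h3 _ (T.isPGroup'.map _) (map_subtype_le _) ?_⟩
      intro x hx
      exact ⟨⟨x, h2 hx⟩, hT hx, rfl⟩
    · rintro ⟨T, -, rfl⟩
      refine ⟨T.isPGroup'.map _, map_subtype_le _, fun Q' h1 h2 h3 => ?_⟩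
      have := T.3 (h1.comap_of_injective M.subtype M.subtype_injective)
        (map_le_iff_le_comap.1 h3)
      refine le_antisymm (fun x hx => ?_) h3
      exact ⟨⟨x, h2 hx⟩, this ▸ hx, rfl⟩
  rw [hSe, Finset.sum_image (fun a _ b _ h => Sylow.ext (map_injective M.subtype_injective h))]
  have hc : ∀ T : Sylow p M, Nat.card ↥(M ⊓ normalizer (((T : Subgroup M).map M.subtype : Subgroup G) : Set G))
      * Nat.card (Sylow p M) = Nat.card M := by
    intro T
    rw [T.card_eq_index_normalizer]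
    have h1 : Nat.card ↥(M ⊓ normalizer (((T : Subgroup M).map M.subtype : Subgroup G) : Set G)) =
        Nat.card (normalizer ((T : Subgroup M) : Set M)) := by
      rw [← card_map_of_injective (K := normalizer ((T : Subgroup M) : Set M)) M.subtype_injective]
      congr 2
      ext x
      have key : ∀ v : M, ((v : G) ∈ ((T : Subgroup M).map M.subtype : Subgroup G)) ↔ v ∈ (T : Subgroup M) :=
        fun v => Subgroup.mem_map_iff_mem M.subtype_injective
      rw [mem_inf, Subgroup.mem_map]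
      constructor
      · rintro ⟨hx, h⟩
        refine ⟨⟨x, hx⟩, mem_normalizer_iff.2 fun u => ?_, rfl⟩
        exact (key u).symm.trans ((mem_normalizer_iff.1 h (u : G)).trans (key (⟨x, hx⟩ * u * ⟨x, hx⟩⁻¹)))
      · rintro ⟨⟨x, hx⟩, h, rfl⟩
        refine ⟨hx, mem_normalizer_iff.2 fun u => ⟨?_, ?_⟩⟩
        · intro hu
          exact (key (⟨x, hx⟩ * ⟨u, map_subtype_le _ hu⟩ * ⟨x, hx⟩⁻¹)).2
            ((mem_normalizer_iff.1 h _).1 ((key ⟨u, map_subtype_le _ hu⟩).1 hu))
        · intro hu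
          have huM : u ∈ M := by
            have := M.mul_mem (M.mul_mem (M.inv_mem hx) (map_subtype_le _ hu)) hx
            simpa [mul_assoc] using this
          exact (key ⟨u, huM⟩).2 ((mem_normalizer_iff.1 h ⟨u, huM⟩).2 ((key (⟨x, hx⟩ * ⟨u, huM⟩ * ⟨x, hx⟩⁻¹)).1 hu))
    rw [h1]
    exact card_mul_index _
  have hpos : 0 < Nat.card (Sylow p M) := Nat.card_pos
  apply mul_right_cancel₀ (b := (Nat.card (Sylow p M) : ℤ)) (by exact_mod_cast hpos.ne')
  rw [Finset.sum_mul, Finset.sum_congr rfl (fun T _ => show _ = (Nat.card M : ℤ) by exact_mod_cast hc T),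
    Finset.sum_const, Finset.card_univ, ← Nat.card_eq_fintype_card, nsmul_eq_mul, mul_comm]

open Classical in
theorem mobSum_eq [hp : Fact p.Prime] (M R : Subgroup G) (hR : IsPGroup p R) (hRM : R ≤ M) :
    mobSum p M R = if IsMaxP p M R then (Nat.card ↥(M ⊓ normalizer (R : Set G)) : ℤ) else 0 := by
  suffices H : ∀ n (M R : Subgroup G), Nat.card G - Nat.card R = n → IsPGroup p R → R ≤ M →
      mobSum p M R = if IsMaxP p M R then (Nat.card ↥(M ⊓ normalizer (R : Set G)) : ℤ) else 0 from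
    H _ M R rfl hR hRM
  intro n
  induction n using Nat.strong_induction_on with
  | _ n ih =>
  intro M R hn hR hRM
  set M' := M ⊓ normalizer (R : Set G) with hM'
  set F := (Set.toFinite (M' : Set G)).toFinset with hF
  have hmemF : ∀ g, g ∈ F ↔ g ∈ M' := fun g => by simp [hF]
  have hFcard : (F.card : ℤ) = Nat.card M' := by
    rw [hF, ← Set.ncard_eq_toFinset_card _, ← Nat.card_coe_set_eq]
    rfl
  split_ifs with hmax
  · rw [← hFcard, mobSum, ← hF]
    rw [Finset.card_eq_sum_ones, Nat.cast_sum]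
    refine Finset.sum_congr rfl fun g _ => ?_
    rw [mob_eq, Finset.sum_eq_zero, sub_zero, Nat.cast_one]
    intro Q hQ
    obtain ⟨⟨h1, h2, -⟩, hlt⟩ := mem_invGT.1 hQ
    exact absurd (hmax.2.2 Q h1 h2 hlt.le) hlt.ne'
  have hRM' : R ≤ M' := le_inf hRM le_normalizer
  have hM'idem : M' ⊓ normalizer (R : Set G) = M' := inf_eq_left.2 inf_le_right
  have hloc : mobSum p M R = mobSum p M' R := by
    rw [mobSum, mobSum]
    refine Finset.sum_congr (Finset.ext fun g => ?_) fun g hg => ?_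
    · simp only [Set.Finite.mem_toFinset, SetLike.mem_coe, hM'idem]
      rfl
    · simp only [Set.Finite.mem_toFinset, SetLike.mem_coe, hM'idem] at hg
      exact mob_local ⟨hR, hRM, (hg : g ∈ M ⊓ normalizer (R : Set G)).2⟩
  have hnmax : ¬ IsMaxP p M' R := by
    intro hm
    apply hmax
    refine ⟨hR, hRM, fun Q h1 h2 h3 => ?_⟩
    by_contra hne
    have hlt := CfsgLib.Isolated.lt_inf_normalizer h1 (lt_of_le_of_ne h3 (Ne.symm hne))
    exact hlt.ne' (hm.2.2 _ (h1.to_le inf_le_left) (inf_le_inf_right _ h2) hlt.le)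
  -- count `M'` by the invariant subgroups over `R`
  set U := (Set.toFinite {Q : Subgroup G | IsPGroup p Q ∧ Q ≤ M' ∧ R ≤ Q}).toFinset with hU
  have hmemU : ∀ Q, Q ∈ U ↔ IsPGroup p Q ∧ Q ≤ M' ∧ R ≤ Q := fun Q => by simp [hU]
  have h1 : (Nat.card M' : ℤ) = ∑ Q ∈ U, mobSum p M' Q := by
    rw [← hFcard, Finset.card_eq_sum_ones, Nat.cast_sum]
    have : ∀ g ∈ F, ((1 : ℕ) : ℤ) = ∑ Q ∈ U, if g ∈ normalizer (Q : Set G) then mob p M' g Q else 0 := by
      intro g hg
      rw [← Finset.sum_filter, Nat.cast_one, ← sum_mob_invGE (M := M') (R := R) (g := g)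
        ⟨hR, hRM', ((hmemF g).1 hg).2⟩]
      refine Finset.sum_congr (Finset.ext fun Q => ?_) fun _ _ => rfl
      simp only [mem_invGE, IsInvP, Finset.mem_filter, hmemU]
      tauto
    rw [Finset.sum_congr rfl this, Finset.sum_comm]
    refine Finset.sum_congr rfl fun Q hQ => ?_
    rw [mobSum, ← Finset.sum_filter]
    refine Finset.sum_congr (Finset.ext fun g => ?_) fun _ _ => rfl
    simp [hmemF]
  have hRU : R ∈ U := (hmemU R).2 ⟨hR, hRM', le_rfl⟩
  have h2 : ∑ Q ∈ U.erase R, mobSum p M' Q = (Nat.card M' : ℤ) := by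
    have : ∀ Q ∈ U.erase R, mobSum p M' Q =
        if IsMaxP p M' Q then (Nat.card ↥(M' ⊓ normalizer (Q : Set G)) : ℤ) else 0 := by
      intro Q hQ
      obtain ⟨hne, hQU⟩ := Finset.mem_erase.1 hQ
      obtain ⟨hQ1, hQ2, hQ3⟩ := (hmemU Q).1 hQU
      refine ih (Nat.card G - Nat.card Q) ?_ M' Q rfl hQ1 hQ2
      have h3 : Nat.card R < Nat.card Q :=
        lt_of_not_ge fun h => hne (Subgroup.eq_of_le_of_card_ge hQ3 h).symm
      have h4 := Nat.le_of_dvd Nat.card_pos (card_subgroup_dvd_card Q)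
      omega
    rw [Finset.sum_congr rfl this, ← Finset.sum_filter]
    refine sum_card_normalizer_maxP (p := p) M' _ fun Q => ?_
    simp only [Finset.mem_filter, Finset.mem_erase, hmemU]
    refine ⟨fun h => h.2, fun h => ⟨⟨?_, h.1, h.2.1, ?_⟩, h⟩⟩
    · rintro rfl
      exact hnmax h
    · -- a normal `p`-subgroup lies in every maximal one
      have hn : Q ≤ normalizer (R : Set G) := h.2.1.trans inf_le_right
      have := h.2.2 (R ⊔ Q) (hR.to_sup_of_normal_left' h.1 hn) (sup_le hRM' h.2.1) le_sup_right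
      exact le_sup_left.trans this.le
  rw [← Finset.add_sum_erase U _ hRU, h2] at h1
  rw [hloc]
  linarith

/-- `H` is subnormal in `⟨H, g⟩` iff `g` normalizes a `p`-subgroup containing `H`. -/
theorem isSubnormal_sup_zpowers_iff [hp : Fact p.Prime] {H : Subgroup G} (hH : IsPGroup p H) (g : G) :
    (H.subgroupOf (H ⊔ zpowers g)).IsSubnormal ↔ ∃ R, IsInvP p ⊤ g R ∧ H ≤ R := by
  set K := H ⊔ zpowers g with hK
  constructor
  · intro h
    have hle := CfsgLib.Fitting.subnormal_pGroup_le_pCore h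
      (hH.comap_of_injective K.subtype K.subtype_injective)
    refine ⟨(Cfsg.pCore p K).map K.subtype, ⟨(CfsgLib.Fitting.pCore_isPGroup p).map _, le_top, ?_⟩,
      fun x hx => ⟨⟨x, mem_sup_left hx⟩, hle hx, rfl⟩⟩
    haveI := CfsgLib.Fitting.pCore_normal (G := K) p
    have h1 := le_normalizer_map (H := Cfsg.pCore p K) K.subtype
    rw [normalizer_eq_top] at h1
    exact h1 ⟨⟨g, mem_sup_right (mem_zpowers g)⟩, mem_top _, rfl⟩
  · rintro ⟨R, ⟨hR, -, hg⟩, hHR⟩
    have hKN : K ≤ normalizer (R : Set G) := sup_le (hHR.trans le_normalizer) (zpowers_le.2 hg)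
    haveI : (R.subgroupOf K).Normal := normal_subgroupOf_of_le_normalizer hKN
    haveI : Group.IsNilpotent (R.subgroupOf K) :=
      (hR.comap_of_injective K.subtype K.subtype_injective).isNilpotent
    exact CfsgLib.Structure.isSubnormal_of_le_nilpotent_subnormal (F := R.subgroupOf K)
      (Normal.isSubnormal inferInstance) inferInstance (fun x hx => hHR hx)

/-- The subnormalizer count of a `p`-subgroup. -/
theorem card_subnormalizer [hp : Fact p.Prime] {H : Subgroup G} (hH : IsPGroup p H) (P : Sylow p G) :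
    Nat.card {g : G // (H.subgroupOf (H ⊔ zpowers g)).IsSubnormal} =
      Nat.card {Q : Sylow p G // H ≤ (Q : Subgroup G)} *
        Nat.card (normalizer ((P : Subgroup G) : Set G)) := by
  classical
  letI := Fintype.ofFinite G
  letI := Fintype.ofFinite (Sylow p G)
  set U := (Set.toFinite {Q : Subgroup G | IsPGroup p Q ∧ H ≤ Q}).toFinset with hU
  have hmemU : ∀ Q, Q ∈ U ↔ IsPGroup p Q ∧ H ≤ Q := fun Q => by simp [hU]
  have hpt : ∀ g : G, (if (H.subgroupOf (H ⊔ zpowers g)).IsSubnormal then (1 : ℤ) else 0) =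
      ∑ Q ∈ U, if g ∈ normalizer (Q : Set G) then mob p ⊤ g Q else 0 := by
    intro g
    rw [← Finset.sum_filter]
    split_ifs with h
    · obtain ⟨R, hR, hHR⟩ := (isSubnormal_sup_zpowers_iff hH g).1 h
      set S := {Q : Subgroup G | IsInvP p ⊤ g Q ∧ H ≤ Q}
      have hm : IsInvP p ⊤ g (sInf S) :=
        ⟨hR.1.to_le (sInf_le ⟨hR, hHR⟩), le_top, mem_normalizer_sInf fun Q hQ => hQ.1.2.2⟩
      rw [← sum_mob_invGE hm]
      refine Finset.sum_congr (Finset.ext fun Q => ?_) fun _ _ => rfl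
      simp only [mem_invGE, Finset.mem_filter, hmemU]
      constructor
      · rintro ⟨⟨h1, -, h3⟩, h4⟩
        exact ⟨⟨h1, (le_sInf fun Q' hQ' => hQ'.2).trans h4⟩, h3⟩
      · rintro ⟨⟨h1, h2⟩, h3⟩
        exact ⟨⟨h1, le_top, h3⟩, sInf_le ⟨⟨h1, le_top, h3⟩, h2⟩⟩
    · refine (Finset.sum_eq_zero fun Q hQ => absurd ?_ h).symm
      simp only [Finset.mem_filter, hmemU] at hQ
      exact (isSubnormal_sup_zpowers_iff hH g).2 ⟨Q, ⟨hQ.1.1, le_top, hQ.2⟩, hQ.1.2⟩
  have htot : (Nat.card {g : G // (H.subgroupOf (H ⊔ zpowers g)).IsSubnormal} : ℤ) =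
      ∑ Q ∈ U, mobSum p ⊤ Q := by
    rw [Nat.card_eq_fintype_card, Fintype.card_subtype, ← Finset.sum_boole,
      Finset.sum_congr rfl (fun g _ => hpt g), Finset.sum_comm]
    refine Finset.sum_congr rfl fun Q _ => ?_
    rw [mobSum, ← Finset.sum_filter]
    refine Finset.sum_congr (Finset.ext fun g => ?_) fun _ _ => rfl
    simp
  have hmax : U.filter (IsMaxP p ⊤) =
      (Finset.univ.filter (fun Q : Sylow p G => H ≤ Q.toSubgroup)).image (fun Q : Sylow p G => Q.toSubgroup) := by
    ext Q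
    simp only [Finset.mem_filter, hmemU, Finset.mem_image, Finset.mem_univ, true_and]
    constructor
    · rintro ⟨⟨h1, h2⟩, -, -, h3⟩
      exact ⟨{ toSubgroup := Q, isPGroup' := h1, is_maximal' := fun {Q'} hQ' hle => h3 Q' hQ' le_top hle }, h2, rfl⟩
    · rintro ⟨T, hT, rfl⟩
      exact ⟨⟨T.isPGroup', hT⟩, T.isPGroup', le_top, fun Q' h1 _ h2 => T.3 h1 h2⟩
  rw [Finset.sum_congr rfl (fun Q hQ => mobSum_eq ⊤ Q ((hmemU Q).1 hQ).1 le_top), ← Finset.sum_filter,
    hmax, Finset.sum_image (fun a _ b _ h => Sylow.ext h)] at htot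
  have hN : ∀ Q : Sylow p G, Nat.card ↥((⊤ : Subgroup G) ⊓ normalizer ((Q : Subgroup G) : Set G)) =
      Nat.card (normalizer ((P : Subgroup G) : Set G)) := by
    intro Q
    rw [top_inf_eq]
    have h1 := card_mul_index (normalizer ((Q : Subgroup G) : Set G))
    have h2 := card_mul_index (normalizer ((P : Subgroup G) : Set G))
    have e1 := Q.card_eq_index_normalizer
    have e2 := P.card_eq_index_normalizer
    rw [Sylow.coe_coe] at h1 h2
    rw [← e1] at h1
    rw [← e2] at h2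
    exact Nat.eq_of_mul_eq_mul_right Nat.card_pos (h1.trans h2.symm)
  rw [Finset.sum_congr rfl (fun Q _ => congrArg (Nat.cast : ℕ → ℤ) (hN Q)), Finset.sum_const,
    nsmul_eq_mul] at htot
  rw [Nat.card_eq_fintype_card (α := {Q : Sylow p G // _}), Fintype.card_subtype]
  exact_mod_cast htot

/-- A maximal invariant `p`-subgroup over `H` is radical. -/
theorem exists_radical [hp : Fact p.Prime] {H : Subgroup G} {g : G} {R : Subgroup G}
    (hR : IsInvP p ⊤ g R) (hHR : H ≤ R) :
    ∃ R', H ≤ R' ∧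
      (Cfsg.pCore p (normalizer (R' : Set G))).map (normalizer (R' : Set G)).subtype = R' ∧
      g ∈ normalizer (R' : Set G) := by
  obtain ⟨R', -, ⟨hR', hH'⟩, hmax⟩ :=
    (Set.toFinite {Q : Subgroup G | IsInvP p ⊤ g Q ∧ H ≤ Q}).exists_le_maximal (a := R) ⟨hR, hHR⟩
  refine ⟨R', hH', ?_, hR'.2.2⟩
  set N := normalizer (R' : Set G)
  haveI := CfsgLib.Fitting.pCore_normal (G := N) p
  have hle : R' ≤ (Cfsg.pCore p N).map N.subtype := by
    intro x hx
    haveI : (comap N.subtype R').Normal := normal_subgroupOf_of_le_normalizer le_rfl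
    exact ⟨⟨x, le_normalizer hx⟩, CfsgLib.Fitting.le_pCore inferInstance
      (hR'.1.comap_of_injective N.subtype N.subtype_injective) hx, rfl⟩
  refine le_antisymm (hmax ⟨⟨(CfsgLib.Fitting.pCore_isPGroup p).map _, le_top, ?_⟩, hH'.trans hle⟩ hle) hle
  have h1 := le_normalizer_map (H := Cfsg.pCore p N) N.subtype
  rw [normalizer_eq_top] at h1
  exact h1 ⟨⟨g, hR'.2.2⟩, mem_top _, rfl⟩

end CfsgLib.Structure80
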