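import Mathlib
import Cfsg.Agent.Lib.Structure80.Subnormalizer
import Cfsg.Agent.Lib.Structure80.Basic

/-!
# Sylow subgroups over a `p`-subgroup, along a normal series with `p` and `p'` factors
-/

namespace CfsgLib.Structure80

open Subgroup

variable {G : Type*} [Group G]

/-- Conjugate of a subgroup. -/
def conjSub (g : G) (X : Subgroup G) : Subgroup G := X.map (MulAut.conj g).toMonoidHom

theorem mem_conjSub {g x : G} {X : Subgroup G} : x ∈ conjSub g X ↔ g⁻¹ * x * g ∈ X := by
  rw [conjSub, Subgroup.mem_map_equiv, MulAut.conj_symm_apply]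

theorem conjSub_conjSub (a b : G) (X : Subgroup G) : conjSub a (conjSub b X) = conjSub (a * b) X := by
  ext x
  simp [mem_conjSub, mul_assoc]

theorem conjSub_one (X : Subgroup G) : conjSub 1 X = X := by
  ext x
  simp [mem_conjSub]

theorem conjSub_normal {M : Subgroup G} [hM : M.Normal] (g : G) : conjSub g M = M := by
  ext x
  rw [mem_conjSub]
  exact ⟨fun h => by simpa [mul_assoc] using hM.conj_mem _ h g, fun h => hM.conj_mem' x h g⟩

theorem conjSub_sup (g : G) (X Y : Subgroup G) : conjSub g (X ⊔ Y) = conjSub g X ⊔ conjSub g Y :=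
  Subgroup.map_sup _ _ _

theorem conjSub_eq_self_iff {g : G} {X : Subgroup G} : conjSub g X = X ↔ g ∈ normalizer (X : Set G) :=
  mem_normalizer_iff_map_conj_eq.symm

theorem conjSub_eq_self_of_mem {g : G} {X : Subgroup G} (h : g ∈ X) : conjSub g X = X :=
  conjSub_eq_self_iff.2 (le_normalizer h)

theorem conjSub_injective (g : G) : Function.Injective (conjSub g) :=
  Subgroup.map_injective (MulAut.conj g).injective

theorem card_conjSub (g : G) (X : Subgroup G) : Nat.card (conjSub g X) = Nat.card X :=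
  Subgroup.card_map_of_injective (MulAut.conj g).injective

theorem coe_smul_sylow {p : ℕ} (g : G) (P : Sylow p G) :
    ((g • P : Sylow p G) : Subgroup G) = conjSub g (P : Subgroup G) := by
  ext x
  rw [mem_smul_sylow, mem_conjSub]

variable [Finite G]

/-- Orbit-stabilizer for subgroups acting on subgroups by conjugation. -/
theorem card_orbit_conjSub (W X : Subgroup G) :
    Nat.card {Y : Subgroup G // ∃ u ∈ W, Y = conjSub u X} * Nat.card ↥(W ⊓ normalizer (X : Set G)) =
      Nat.card W := by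
  set S := (normalizer (X : Set G)).subgroupOf W with hS
  have h1 : Nat.card S = Nat.card ↥(W ⊓ normalizer (X : Set G)) := by
    rw [← card_map_of_injective (K := S) W.subtype_injective, hS, subgroupOf_map_subtype, inf_comm]
  have key : ∀ a b : W, conjSub (a : G) X = conjSub (b : G) X ↔ a⁻¹ * b ∈ S := by
    intro a b
    rw [hS, mem_subgroupOf, ← conjSub_eq_self_iff, Subgroup.coe_mul, Subgroup.coe_inv, ← conjSub_conjSub]
    constructor
    · intro h
      rw [← h, conjSub_conjSub, inv_mul_cancel, conjSub_one]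
    · intro h
      conv_lhs => rw [← h]
      rw [conjSub_conjSub, mul_inv_cancel, conjSub_one]
  have h2 : Nat.card {Y : Subgroup G // ∃ u ∈ W, Y = conjSub u X} = Nat.card (W ⧸ S) := by
    refine (Nat.card_congr (Equiv.ofBijective
      (fun c : W ⧸ S => (⟨conjSub (c.out : G) X, c.out, c.out.2, rfl⟩ :
        {Y : Subgroup G // ∃ u ∈ W, Y = conjSub u X})) ⟨?_, ?_⟩)).symm
    · intro c c' h
      rw [← c.out_eq', ← c'.out_eq', QuotientGroup.eq]
      exact (key _ _).1 (congrArg Subtype.val h)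
    · rintro ⟨Y, u, hu, rfl⟩
      refine ⟨((⟨u, hu⟩ : W) : W ⧸ S), Subtype.ext ((key _ ⟨u, hu⟩).2 ?_)⟩
      rw [← QuotientGroup.eq]
      exact QuotientGroup.out_eq' _
  rw [h2, ← h1, ← card_eq_card_quotient_mul_card_subgroup]

/-- Order of a product with a normal subgroup. -/
theorem card_sup_mul_card_inf (M X : Subgroup G) [M.Normal] :
    Nat.card ↥(M ⊔ X) * Nat.card ↥(M ⊓ X) = Nat.card M * Nat.card X := by
  have h1 : Nat.card (M.subgroupOf (M ⊔ X)) * M.relIndex (M ⊔ X) = Nat.card ↥(M ⊔ X) :=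
    card_mul_index _
  have h2 : Nat.card (M.subgroupOf X) * M.relIndex X = Nat.card X := card_mul_index _
  have e1 : Nat.card (M.subgroupOf (M ⊔ X)) = Nat.card M :=
    Nat.card_congr (subgroupOfEquivOfLe le_sup_left).toEquiv
  have e2 : Nat.card (M.subgroupOf X) = Nat.card ↥(M ⊓ X) := by
    rw [← card_map_of_injective (K := M.subgroupOf X) X.subtype_injective, subgroupOf_map_subtype]
  have e3 : M.relIndex (M ⊔ X) = M.relIndex X := by
    rw [sup_comm, relIndex_sup_right]
  rw [← h1, ← h2, e1, e2, e3]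
  ring

variable {p : ℕ} [hp : Fact p.Prime]

/-- The number of conjugates of `L ⊔ P` over `H`, times the normalizer order. -/
noncomputable def overCount (H : Subgroup G) (P : Sylow p G) (L : Subgroup G) : ℕ :=
  Nat.card {X : Subgroup G // (∃ g : G, X = conjSub g (L ⊔ (P : Subgroup G))) ∧ H ≤ X} *
    Nat.card (normalizer ((L ⊔ (P : Subgroup G) : Subgroup G) : Set G))

/-- A `p'`-index kills `p`-subgroups. -/
theorem pGroup_le_of_coprime {L M Q : Subgroup G} [L.Normal] (hcop : (L.relIndex M).Coprime p)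
    (hQ : IsPGroup p Q) (hQM : Q ≤ M) : Q ≤ L := by
  intro x hx
  obtain ⟨k, hk⟩ := IsPGroup.iff_orderOf.1 hQ ⟨x, hx⟩
  rw [Subgroup.orderOf_mk] at hk
  have h : orderOf (QuotientGroup.mk' (L.subgroupOf M) ⟨x, hQM hx⟩) = 1 := by
    apply Nat.eq_one_of_dvd_coprimes (hcop.pow_right k)
    · exact orderOf_dvd_natCard _
    · rw [← hk, ← Subgroup.orderOf_mk x (hQM hx)]
      exact orderOf_map_dvd _ _
  exact (QuotientGroup.eq_one_iff (N := L.subgroupOf M) _).1 (orderOf_eq_one_iff.1 h)

/-- A `p`-index factor is absorbed by a Sylow subgroup. -/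
theorem sup_sylow_eq_of_pow (P : Sylow p G) {L M : Subgroup G} [M.Normal] (hLM : L ≤ M)
    {m : ℕ} (hm : L.relIndex M = p ^ m) : L ⊔ (P : Subgroup G) = M ⊔ (P : Subgroup G) := by
  set X := L ⊔ (P : Subgroup G) with hX
  have hMX : M ⊔ X = M ⊔ (P : Subgroup G) := by
    rw [hX, ← sup_assoc, sup_eq_left.2 hLM]
  suffices M ≤ X by rw [← hMX, sup_eq_right.2 this]
  have h1 := card_sup_mul_card_inf M X
  have h2 : Nat.card ↥(M ⊓ X) * X.relIndex M = Nat.card M := by
    have e : Nat.card (X.subgroupOf M) = Nat.card ↥(M ⊓ X) := by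
      rw [← card_map_of_injective (K := X.subgroupOf M) M.subtype_injective, subgroupOf_map_subtype, inf_comm]
    rw [← e]
    exact card_mul_index _
  have h3 : X.relIndex M ∣ p ^ m := hm ▸ relIndex_dvd_of_le_left M le_sup_left
  obtain ⟨j, -, hj⟩ := (Nat.dvd_prime_pow hp.out).1 h3
  have h4 : Nat.card ↥(M ⊔ X) = Nat.card X * X.relIndex M := by
    apply Nat.eq_of_mul_eq_mul_right (Nat.card_pos (α := ↥(M ⊓ X)))
    rw [h1, ← h2]; ring
  have h5 : j = 0 := by
    by_contra hj0
    apply P.not_dvd_index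
    have hd : Nat.card ↥(M ⊔ X) ∣ Nat.card G := card_subgroup_dvd_card _
    have hP : Nat.card (P : Subgroup G) ∣ Nat.card X := card_dvd_of_le le_sup_right
    have : Nat.card (P : Subgroup G) * p ∣ Nat.card (P : Subgroup G) * (P : Subgroup G).index := by
      rw [card_mul_index]
      refine dvd_trans ?_ hd
      rw [h4, hj]
      exact mul_dvd_mul hP (dvd_pow_self p hj0)
    exact Nat.dvd_of_mul_dvd_mul_left Nat.card_pos this
  rw [h5, pow_zero, relIndex_eq_one] at hj
  exact hj

theorem overCount_of_pow (H : Subgroup G) (P : Sylow p G) {L M : Subgroup G} [M.Normal] (hLM : L ≤ M)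
    {m : ℕ} (hm : L.relIndex M = p ^ m) : overCount H P L = overCount H P M := by
  rw [overCount, overCount, sup_sylow_eq_of_pow P hLM hm]

/-- The elements of `M` centralized by `H` modulo `L`. -/
noncomputable def centMod (H L M : Subgroup G) [L.Normal] : Subgroup G :=
  M ⊓ (Subgroup.centralizer ((H.map (QuotientGroup.mk' L) : Subgroup (G ⧸ L)) : Set (G ⧸ L))).comap
    (QuotientGroup.mk' L)

omit [Finite G] in
theorem mem_centMod {H L M : Subgroup G} [L.Normal] {u : G} :
    u ∈ centMod H L M ↔ u ∈ M ∧ ∀ h ∈ H, h * u * h⁻¹ * u⁻¹ ∈ L := by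
  simp only [centMod, mem_inf, mem_comap, mem_centralizer_iff, SetLike.mem_coe, mem_map]
  refine and_congr_right fun _ => ⟨fun h a ha => ?_, fun h _ ⟨a, ha, e⟩ => ?_⟩
  · have := h _ ⟨a, ha, rfl⟩
    rw [← QuotientGroup.eq_one_iff]
    change QuotientGroup.mk' L (a * u * a⁻¹ * u⁻¹) = 1
    rw [map_mul, map_mul, map_mul, map_inv, map_inv, this, mul_inv_cancel_right, mul_inv_cancel]
  · subst e
    have := (QuotientGroup.eq_one_iff _).2 (h a ha)
    change QuotientGroup.mk' L (a * u * a⁻¹ * u⁻¹) = 1 at this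
    rw [map_mul, map_mul, map_inv, map_inv, mul_inv_eq_one, mul_inv_eq_iff_eq_mul, map_mul] at this
    exact this

omit [Finite G] in
theorem card_centMod (H L M : Subgroup G) [L.Normal] :
    Nat.card (centMod H L M) = Nat.card {u : G // u ∈ M ∧ ∀ h ∈ H, h * u * h⁻¹ * u⁻¹ ∈ L} :=
  Nat.card_congr (Equiv.subtypeEquivRight fun _ => mem_centMod)

theorem overCount_of_coprime (H : Subgroup G) (P : Sylow p G) (hH : IsPGroup p H) {L M : Subgroup G}
    [L.Normal] [M.Normal] (hLM : L ≤ M) (hcop : (L.relIndex M).Coprime p) :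
    overCount H P L * Nat.card M = overCount H P M * Nat.card (centMod H L M) := by
  classical
  set X0 := L ⊔ (P : Subgroup G) with hX0
  set Z0 := M ⊔ (P : Subgroup G) with hZ0
  set U := centMod H L M
  have hform : ∀ g : G, conjSub g X0 = L ⊔ ((g • P : Sylow p G) : Subgroup G) := fun g => by
    rw [hX0, conjSub_sup, conjSub_normal, coe_smul_sylow]
  have hformM : ∀ g : G, conjSub g Z0 = M ⊔ conjSub g X0 := fun g => by
    rw [hform, ← sup_assoc, sup_eq_left.2 hLM, hZ0, conjSub_sup, conjSub_normal, coe_smul_sylow]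
  have hint : ∀ g : G, ∀ x, x ∈ conjSub g X0 → x ∈ M → x ∈ L := by
    intro g x hx hxM
    rw [hform, mem_sup_of_normal_left] at hx
    obtain ⟨l, hl, u, hu, rfl⟩ := hx
    refine L.mul_mem hl (pGroup_le_of_coprime hcop ((g • P).isPGroup'.to_le inf_le_left) inf_le_right
      (show u ∈ ((g • P : Sylow p G) : Subgroup G) ⊓ M from ⟨hu, ?_⟩))
    simpa using M.mul_mem (M.inv_mem (hLM hl)) hxM
  have hNU : ∀ g : G, H ≤ conjSub g X0 → M ⊓ normalizer ((conjSub g X0 : Subgroup G) : Set G) ≤ U := by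
    intro g hg m hm
    rw [mem_centMod]
    refine ⟨hm.1, fun h hh => hint g _ ?_ ?_⟩
    · have := (mem_normalizer_iff.1 (inv_mem hm.2) h⁻¹).1 (inv_mem (hg hh))
      have h2 := (mem_normalizer_iff.1 hm.2 _).1 ((conjSub g X0).mul_mem this (hg hh))
      have h3 : m * (m⁻¹ * h⁻¹ * m⁻¹⁻¹ * h) * m⁻¹ = (h * m * h⁻¹ * m⁻¹)⁻¹⁻¹ * 1 → True := fun _ => trivial
      have h4 : h * m * h⁻¹ * m⁻¹ = h * (m * h⁻¹ * m⁻¹) := by group
      rw [h4]
      exact mul_mem (hg hh) ((mem_normalizer_iff.1 hm.2 _).1 (inv_mem (hg hh)))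
    · have := M.mul_mem (‹M.Normal›.conj_mem m hm.1 h) (M.inv_mem hm.1)
      exact this
  let YL := {X : Subgroup G // (∃ g : G, X = conjSub g X0) ∧ H ≤ X}
  let YM := {X : Subgroup G // (∃ g : G, X = conjSub g Z0) ∧ H ≤ X}
  let F : YL → YM := fun X => ⟨M ⊔ X.1, ⟨X.2.1.choose, by
    conv_lhs => rw [X.2.1.choose_spec]
    exact (hformM _).symm⟩, X.2.2.trans le_sup_right⟩
  have hc0 : ∀ g : G, Nat.card ↥(M ⊓ normalizer ((conjSub g X0 : Subgroup G) : Set G)) =
      Nat.card ↥(M ⊓ normalizer (X0 : Set G)) := by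
    intro g
    rw [← card_conjSub g (M ⊓ normalizer (X0 : Set G)), conjSub, conjSub,
      map_inf _ _ _ (MulAut.conj g).injective]
    rw [map_equiv_normalizer_eq X0 (MulAut.conj g)]
    rw [show M.map (MulAut.conj g).toMonoidHom = M from conjSub_normal g]
  set c0 := Nat.card ↥(M ⊓ normalizer (X0 : Set G))
  -- the fibres
  have hfib : ∀ Z : YM, Nat.card {X : YL // F X = Z} * c0 = Nat.card U := by
    rintro ⟨Z, ⟨a, ha⟩, hHZ⟩
    obtain ⟨T, hT⟩ := (hH.comap_of_injective Z.subtype Z.subtype_injective).exists_le_sylow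
    obtain ⟨P', hP'⟩ := (T.isPGroup'.map Z.subtype).exists_le_sylow
    have haZ : ((a • P : Sylow p G) : Subgroup G) ≤ Z := by
      rw [ha, hformM, hform]
      exact le_sup_right.trans le_sup_right
    have hTP : (T : Subgroup Z).map Z.subtype = P' := by
      refine eq_of_le_of_card_ge hP' ?_
      have h1 : IsPGroup p (((a • P : Sylow p G) : Subgroup G).subgroupOf Z) :=
        (a • P).isPGroup'.comap_of_injective Z.subtype Z.subtype_injective
      obtain ⟨T', hT'⟩ := h1.exists_le_sylow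
      rw [card_map_of_injective Z.subtype_injective, T.card_eq_multiplicity, ← T'.card_eq_multiplicity,
        P'.card_eq_multiplicity, ← (a • P).card_eq_multiplicity,
        ← Nat.card_congr (subgroupOfEquivOfLe haZ).toEquiv]
      exact Nat.le_of_dvd Nat.card_pos (card_dvd_of_le hT')
    obtain ⟨b, rfl⟩ := MulAction.exists_smul_eq G P P'
    have hHX : H ≤ conjSub b X0 := by
      rw [hform]
      exact le_sup_of_le_right fun h hh => hTP ▸ ⟨⟨h, hHZ hh⟩, hT hh, rfl⟩
    have hXZ : M ⊔ conjSub b X0 = Z := by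
      refine eq_of_le_of_card_ge ?_ (by rw [ha, ← hformM, card_conjSub, card_conjSub])
      rw [hform, ← sup_assoc, sup_eq_left.2 hLM, ← hTP]
      refine sup_le ?_ (map_subtype_le _)
      rw [ha, hformM]
      exact le_sup_left
    set X := conjSub b X0 with hX
    have horb := card_orbit_conjSub U X
    have hUN : Nat.card ↥(U ⊓ normalizer (X : Set G)) = c0 := by
      rw [← hc0 b]
      congr 2
      exact le_antisymm (le_inf (inf_le_left.trans inf_le_left) inf_le_right)
        (le_inf (hNU b hHX) inf_le_right)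
    rw [hUN] at horb
    rw [← horb]
    congr 1
    refine Nat.card_congr (Equiv.ofBijective
      (fun Y : {Y : YL // F Y = ⟨Z, ⟨a, ha⟩, hHZ⟩} => (⟨Y.1.1, ?_⟩ :
        {Y : Subgroup G // ∃ u ∈ U, Y = conjSub u X})) ⟨?_, ?_⟩)
    · obtain ⟨⟨Y, ⟨c, hc⟩, hHY⟩, hY⟩ := Y
      have hYZ : M ⊔ Y = Z := congrArg Subtype.val hY
      -- conjugate the Sylow subgroups inside `Z`
      have hbZ : ((b • P : Sylow p G) : Subgroup G) ≤ Z := hXZ ▸ (by rw [hX, hform]; exact le_sup_right.trans le_sup_right)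
      have hcZ : ((c • P : Sylow p G) : Subgroup G) ≤ Z := hYZ ▸ (by rw [hc, hform]; exact le_sup_right.trans le_sup_right)
      obtain ⟨z, hz⟩ := MulAction.exists_smul_eq Z ((b • P).subtype hbZ) ((c • P).subtype hcZ)
      rw [Sylow.smul_subtype] at hz
      have hz' : (z : G) • (b • P) = c • P := Sylow.subtype_injective hz
      have hzm : (z : G) ∈ M ⊔ X := hXZ.symm ▸ z.2
      obtain ⟨m, hm, x, hx, hmx⟩ := mem_sup_of_normal_left.1 hzm
      have hYm : Y = conjSub m X := by
        have hsub : conjSub (z : G) X = Y := by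
          rw [hc, hform, ← hz', hX, hform, conjSub_sup, conjSub_normal, ← coe_smul_sylow]
        rw [← hsub, ← hmx, ← conjSub_conjSub, conjSub_eq_self_of_mem hx]
      refine ⟨m, mem_centMod.2 ⟨hm, fun h hh => ?_⟩, hYm⟩
      have key : ∀ k ∈ H, k * (m⁻¹ * k⁻¹ * m) ∈ L := by
        intro k hk
        refine hint b _ ((conjSub b X0).mul_mem (hHX hk) ?_) ?_
        · have := (inv_mem hk)
          exact mem_conjSub.1 (hYm ▸ hHY this)
        · have := M.mul_mem (‹M.Normal›.conj_mem _ (M.inv_mem hm) k) hm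
          simpa [mul_assoc] using this
      have h5 := ‹L.Normal›.conj_mem _ (inv_mem (key h hh)) m
      simpa [mul_assoc] using h5
    · rintro ⟨⟨Y, hY1⟩, hY⟩ ⟨⟨Y', hY1'⟩, hY'⟩ h
      simp only [Subtype.mk.injEq] at h ⊢
      exact Subtype.ext h
    · rintro ⟨Y, u, hu, rfl⟩
      obtain ⟨huM, hu'⟩ := mem_centMod.1 hu
      refine ⟨⟨⟨conjSub u X, ⟨u * b, by rw [hX, conjSub_conjSub]⟩, fun h hh => ?_⟩, Subtype.ext ?_⟩, rfl⟩
      · rw [mem_conjSub]
        have h1 : u⁻¹ * (h * u * h⁻¹ * u⁻¹) * u ∈ X := by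
          have := ‹L.Normal›.conj_mem' _ (hu' h hh) u
          have hLX : L ≤ X := by rw [hX, hform]; exact le_sup_left
          exact hLX this
        have := X.mul_mem h1 (hHX hh)
        simpa [mul_assoc] using this
      · change M ⊔ conjSub u X = Z
        have := congrArg (conjSub u) hXZ
        rw [conjSub_sup, conjSub_normal] at this
        rw [this]
        exact conjSub_eq_self_of_mem (hXZ ▸ mem_sup_left huM)
  have hY : Nat.card YL * c0 = Nat.card YM * Nat.card U := by
    letI := Fintype.ofFinite YM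
    rw [← Nat.card_congr (Equiv.sigmaFiberEquiv F), Nat.card_sigma, Finset.sum_mul,
      Finset.sum_congr rfl (fun Z _ => hfib Z), Finset.sum_const, Finset.card_univ,
      ← Nat.card_eq_fintype_card, smul_eq_mul]
  -- normalizers
  have hN : Nat.card (normalizer (Z0 : Set G)) * c0 = Nat.card (normalizer (X0 : Set G)) * Nat.card M := by
    have hle : normalizer (X0 : Set G) ≤ normalizer (Z0 : Set G) := by
      intro g hg
      rw [← conjSub_eq_self_iff] at hg ⊢
      rw [hformM, hg]
      rw [hX0, ← sup_assoc, sup_eq_left.2 hLM]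
    have h1 := card_orbit_conjSub (normalizer (Z0 : Set G)) X0
    have h2 := card_orbit_conjSub M X0
    rw [inf_eq_right.2 hle] at h1
    have heq : ∀ Y : Subgroup G, (∃ u ∈ normalizer (Z0 : Set G), Y = conjSub u X0) ↔
        ∃ u ∈ M, Y = conjSub u X0 := by
      intro Y
      constructor
      · rintro ⟨g, hg, rfl⟩
        rw [← conjSub_eq_self_iff] at hg
        have hgZ : ((g • P : Sylow p G) : Subgroup G) ≤ Z0 := by
          rw [← hg, hformM, hform]
          exact le_sup_right.trans le_sup_right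
        obtain ⟨z, hz⟩ := MulAction.exists_smul_eq Z0 (P.subtype le_sup_right) ((g • P).subtype hgZ)
        rw [Sylow.smul_subtype] at hz
        have hz' : (z : G) • P = g • P := Sylow.subtype_injective hz
        have hzm : (z : G) ∈ M ⊔ X0 := by
          have : M ⊔ X0 = Z0 := by rw [hX0, ← sup_assoc, sup_eq_left.2 hLM]
          rw [this]; exact z.2
        obtain ⟨m, hm, x, hx, hmx⟩ := mem_sup_of_normal_left.1 hzm
        refine ⟨m, hm, ?_⟩
        have : conjSub (z : G) X0 = conjSub g X0 := by rw [hform, hform, hz']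
        rw [← this, ← hmx, ← conjSub_conjSub, conjSub_eq_self_of_mem hx]
      · rintro ⟨u, hu, rfl⟩
        exact ⟨u, le_normalizer (mem_sup_left hu), rfl⟩
    rw [Nat.card_congr (Equiv.subtypeEquivRight heq)] at h1
    rw [← h1, ← h2]
    ring
  apply Nat.eq_of_mul_eq_mul_right (Nat.card_pos (α := ↥(M ⊓ normalizer (X0 : Set G))))
  change Nat.card YL * _ * _ * c0 = Nat.card YM * _ * _ * c0
  calc Nat.card YL * Nat.card (normalizer (X0 : Set G)) * Nat.card M * c0
      = (Nat.card YL * c0) * (Nat.card (normalizer (X0 : Set G)) * Nat.card M) := by ring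
    _ = (Nat.card YM * Nat.card U) * (Nat.card (normalizer (Z0 : Set G)) * c0) := by rw [hY, hN]
    _ = Nat.card YM * Nat.card (normalizer (Z0 : Set G)) * Nat.card U * c0 := by ring

end CfsgLib.Structure80
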