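import Mathlib
import Cfsg.Agent.Lib.Solvable.Fitting
import Cfsg.Agent.Lib.OddOrder.PiCore
import Cfsg.Agent.Lib.Coprime.Action
import Cfsg.Agent.Lib.OddChar.FixedIrr
import Cfsg.Agent.Lib.Characters.Clifford
import Cfsg.Agent.Lib.Characters.NormalRes
import Cfsg.Agent.Lib.CharCorr.Basic
import Cfsg.Agent.Lib.NumberTheory.Zsigmondy

/-!
Linear actions in which every non-trivial vector is fixed by Sylow subgroups for two primes that
are normal and abelian in the stabilizer.
-/

set_option autoImplicit false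
set_option linter.style.haveILetI false
set_option linter.unusedSectionVars false

namespace CfsgLib.Palfy80

open MulAction

universe u v

variable {K : Type u} [Group K] {W : Type v} [CommGroup W] [MulDistribMulAction K W]

/-- Every non-trivial vector is fixed by a Sylow subgroup which is normal and abelian in its
stabilizer. -/
def SylowFix (K : Type u) [Group K] (W : Type v) [CommGroup W] [MulDistribMulAction K W] (a : ℕ) :
    Prop :=
  ∀ w : W, w ≠ 1 → ∃ P : Sylow a K, (P : Subgroup K) ≤ stabilizer K w ∧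
    stabilizer K w ≤ Subgroup.normalizer ((P : Subgroup K) : Set K) ∧
    ∀ x ∈ (P : Subgroup K), ∀ y ∈ (P : Subgroup K), x * y = y * x

/-- The vectors fixed by a set of operators. -/
def fixSub (S : Set K) : Subgroup W where
  carrier := {w | ∀ k ∈ S, k • w = w}
  one_mem' := fun k _ => smul_one k
  mul_mem' := fun {u w} hu hw k hk => by rw [smul_mul', hu k hk, hw k hk]
  inv_mem' := fun {w} hw k hk => by rw [smul_inv', hw k hk]

theorem mem_fixSub {S : Set K} {w : W} : w ∈ fixSub S ↔ ∀ k ∈ S, k • w = w := Iff.rfl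

/-- The kernel of the action. -/
def actKer (K : Type u) [Group K] (W : Type v) [CommGroup W] [MulDistribMulAction K W] :
    Subgroup K where
  carrier := {k | ∀ w : W, k • w = w}
  one_mem' := fun w => one_smul K w
  mul_mem' := fun {u v} hu hv w => by rw [mul_smul, hv w, hu w]
  inv_mem' := fun {v} hv w => by rw [inv_smul_eq_iff, hv w]

instance actKer_normal : (actKer K W).Normal :=
  ⟨fun k hk g w => by rw [mul_smul, mul_smul, hk, smul_inv_smul]⟩

variable [Finite K] {a b : ℕ}

/-- A `p`-element normalizing a Sylow subgroup lies in it. -/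
theorem mem_of_mem_normalizer [Fact a.Prime] (P : Sylow a K) {y : K}
    (hy : IsPGroup a (Subgroup.zpowers y)) (h : y ∈ Subgroup.normalizer ((P : Subgroup K) : Set K)) :
    y ∈ (P : Subgroup K) := by
  have h1 : IsPGroup a (Subgroup.zpowers y ⊔ (P : Subgroup K) : Subgroup K) :=
    hy.to_sup_of_normal_right' P.isPGroup' (Subgroup.zpowers_le.mpr h)
  exact (P.is_maximal' h1 le_sup_right) ▸ Subgroup.mem_sup_left (Subgroup.mem_zpowers y)

theorem isPGroup_zpowers [Fact a.Prime] {P : Sylow a K} {y : K} (hy : y ∈ (P : Subgroup K)) :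
    IsPGroup a (Subgroup.zpowers y) :=
  P.isPGroup'.to_le (Subgroup.zpowers_le.mpr hy)

/-- The Sylow subgroup fixing a vector is unique. -/
theorem eq_of_fix [Fact a.Prime] (h : SylowFix K W a) {w : W} (hw : w ≠ 1) (P Q : Sylow a K)
    (hP : (P : Subgroup K) ≤ stabilizer K w) (hQ : (Q : Subgroup K) ≤ stabilizer K w) : P = Q := by
  obtain ⟨R, -, hn, -⟩ := h w hw
  have key : ∀ S : Sylow a K, (S : Subgroup K) ≤ stabilizer K w → R = S := fun S hS => by
    have hle : (S : Subgroup K) ≤ (R : Subgroup K) := fun y hy =>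
      mem_of_mem_normalizer R (isPGroup_zpowers hy) (hn (hS hy))
    exact Sylow.ext (S.is_maximal' R.isPGroup' hle)
  rw [← key P hP, key Q hQ]

theorem smul_subgroup_le {w : W} {P : Subgroup K} (k : K) (hP : P ≤ stabilizer K w) :
    P.map (MulAut.conj k).toMonoidHom ≤ stabilizer K (k • w) := by
  rintro _ ⟨x, hx, rfl⟩
  show (k * x * k⁻¹) • k • w = k • w
  rw [smul_smul, inv_mul_cancel_right, mul_smul, show x • w = w from hP hx]

/-- An element of `p`-power order mapping a vector to a vector with the same stabilizer fixes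
it. -/
theorem smul_eq_self_of_stabilizer_eq [Fact a.Prime] (h : SylowFix K W a) {y : K}
    (hy : IsPGroup a (Subgroup.zpowers y)) {w : W} (hw : w ≠ 1)
    (hs : stabilizer K (y • w) = stabilizer K w) : y • w = w := by
  obtain ⟨R, hR, hn, -⟩ := h w hw
  have h1 : ((y • R : Sylow a K) : Subgroup K) ≤ stabilizer K w := by
    rw [← hs]
    rintro _ ⟨x, hx, rfl⟩
    show (y * x * y⁻¹) • y • w = y • w
    rw [smul_smul, inv_mul_cancel_right, mul_smul, show x • w = w from hR hx]
  have h2 : y • R = R := eq_of_fix h hw _ _ h1 hR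
  exact hR (mem_of_mem_normalizer R hy (Sylow.smul_eq_iff_mem_normalizer.mp h2))

/-- If no non-trivial vector separates the Sylow subgroups, the Sylow subgroup is normal. -/
theorem normal_of_le_actKer [Fact a.Prime] (h : SylowFix K W a) [Nontrivial W] (P : Sylow a K)
    (hP : (P : Subgroup K) ≤ actKer K W) : (P : Subgroup K).Normal := by
  obtain ⟨w, hw⟩ := exists_ne (1 : W)
  refine Subgroup.normalizer_eq_top_iff.mp (eq_top_iff.mpr fun k _ => ?_)
  refine Sylow.smul_eq_iff_mem_normalizer.mp (eq_of_fix h hw _ _ ?_ (fun x hx => hP hx w))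
  rintro _ ⟨x, hx, rfl⟩
  exact (actKer_normal (K := K) (W := W)).conj_mem x (hP hx) k w

theorem card_fixSub_smul [Fact a.Prime] (P : Sylow a K) (k : K) :
    Nat.card (fixSub (W := W) (((k • P : Sylow a K) : Subgroup K) : Set K) : Subgroup W) =
      Nat.card (fixSub (W := W) ((P : Subgroup K) : Set K) : Subgroup W) := by
  refine (Nat.card_congr ((MulAction.toPerm k).subtypeEquiv fun w => ?_)).symm
  show (∀ x ∈ ((P : Subgroup K) : Set K), x • w = w) ↔
    ∀ x ∈ (((k • P : Sylow a K) : Subgroup K) : Set K), x • k • w = k • w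
  constructor
  · rintro hw _ ⟨x, hx, rfl⟩
    show (k * x * k⁻¹) • k • w = k • w
    rw [smul_smul, inv_mul_cancel_right, mul_smul, hw x hx]
  · intro hw x hx
    have := hw (k * x * k⁻¹) ⟨x, hx, rfl⟩
    rw [smul_smul, inv_mul_cancel_right, mul_smul] at this
    exact smul_left_cancel k this

/-- The non-trivial vectors are partitioned by the Sylow subgroups fixing them. -/
theorem card_sub_one [Finite W] [Fact a.Prime] (h : SylowFix K W a) (P₀ : Sylow a K) :
    Nat.card W - 1 = Nat.card (Sylow a K) *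
      (Nat.card (fixSub (W := W) ((P₀ : Subgroup K) : Set K) : Subgroup W) - 1) := by
  classical
  haveI := Fintype.ofFinite W
  haveI := Fintype.ofFinite (Sylow a K)
  let f : (Σ P : Sylow a K, {x : (fixSub (W := W) ((P : Subgroup K) : Set K) : Subgroup W) // x ≠ 1}) →
      {w : W // w ≠ 1} := fun q => ⟨q.2.1.1, fun e => q.2.2 (Subtype.ext e)⟩
  have hf : Function.Bijective f := by
    refine ⟨?_, fun w => ?_⟩
    · rintro ⟨P, ⟨⟨x, hx⟩, hx1⟩⟩ ⟨Q, ⟨⟨y, hy⟩, hy1⟩⟩ e
      obtain rfl : x = y := congrArg Subtype.val e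
      obtain rfl : P = Q := eq_of_fix h (fun e => hx1 (Subtype.ext e)) P Q
        (fun k hk => hx k hk) (fun k hk => hy k hk)
      rfl
    · obtain ⟨P, hP, -⟩ := h w.1 w.2
      exact ⟨⟨P, ⟨⟨w.1, fun k hk => hP hk⟩, fun e => w.2 (congrArg Subtype.val e)⟩⟩, rfl⟩
  have hne : ∀ (α : Type v) [Finite α] (o : α), Nat.card {x : α // x ≠ o} = Nat.card α - 1 := by
    intro α _ o
    haveI := Fintype.ofFinite α
    rw [Nat.card_eq_fintype_card, Nat.card_eq_fintype_card, Fintype.card_subtype_compl,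
      Fintype.card_subtype_eq]
  rw [← hne W 1, ← Nat.card_congr (Equiv.ofBijective f hf), Nat.card_sigma,
    Finset.sum_eq_card_nsmul (fun P _ => by
      obtain ⟨k, rfl⟩ := MulAction.exists_smul_eq K P₀ P
      rw [hne, card_fixSub_smul]), Finset.card_univ, smul_eq_mul, Nat.card_eq_fintype_card (α := Sylow a K)]

theorem nat_split {s v m c e n : ℕ} (hs : 1 < s) (hc : c < v) (he : e < m) (hn : Nat.Coprime s n)
    (h1 : n * (s ^ c - 1) = s ^ v - 1) (h2 : n * (s ^ e - 1) = s ^ m - 1) : v = m := by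
  have key : ∀ {v m c e : ℕ}, c < v → e < m → n * (s ^ c - 1) = s ^ v - 1 →
      n * (s ^ e - 1) = s ^ m - 1 → ¬ c < e := by
    intro v m c e hc he h1 h2 hce
    have i1 : ∀ {x y : ℕ}, n * (s ^ x - 1) = s ^ y - 1 → n * s ^ x + 1 = s ^ y + n := by
      intro x y h
      have a1 : 1 ≤ s ^ x := Nat.one_le_pow _ _ (by omega)
      have a2 : 1 ≤ s ^ y := Nat.one_le_pow _ _ (by omega)
      rw [Nat.mul_sub, mul_one] at h
      have a3 : n ≤ n * s ^ x := Nat.le_mul_of_pos_right _ a1
      omega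
    have j1 := i1 h1
    have j2 := i1 h2
    have d0 : ∀ {x : ℕ}, c < x → s ^ (c + 1) ∣ s ^ x := fun hx => pow_dvd_pow s hx
    have h3 : n * s ^ c + s ^ m = n * s ^ e + s ^ v := by omega
    have h4 : s ^ (c + 1) ∣ n * s ^ c := by
      have := (Nat.dvd_add_left (d0 (hce.trans he))).mp
        (h3 ▸ dvd_add ((d0 hce).mul_left n) (d0 hc))
      exact this
    rw [pow_succ', mul_comm n (s ^ c)] at h4
    rw [mul_comm s (s ^ c)] at h4
    have h5 : s ∣ n := Nat.dvd_of_mul_dvd_mul_left (Nat.pow_pos (by omega)) h4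
    have := Nat.Coprime.eq_one_of_dvd hn h5
    omega
  have hce : c = e := le_antisymm (not_lt.mp (key he hc h2 h1)) (not_lt.mp (key hc he h1 h2))
  subst hce
  have h3 : s ^ v - 1 = s ^ m - 1 := h1.symm.trans h2
  have a1 : 1 ≤ s ^ v := Nat.one_le_pow _ _ (by omega)
  have a2 : 1 ≤ s ^ m := Nat.one_le_pow _ _ (by omega)
  exact Nat.pow_right_injective hs (show s ^ v = s ^ m by omega)

theorem exists_pow_card [Finite W] {s : ℕ} [Fact s.Prime] (hexp : ∀ w : W, w ^ s = 1)
    (U : Subgroup W) : ∃ i, Nat.card U = s ^ i :=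
  IsPGroup.iff_card.mp fun u => ⟨1, Subtype.ext (by rw [pow_one]; exact hexp u.1)⟩

/-- A `z`-element, `z` a primitive prime divisor, has no fixed vector. -/
theorem fixSub_eq_bot_of_ppd [Finite W] {s m z : ℕ} [Fact s.Prime] [Fact z.Prime]
    (hexp : ∀ w : W, w ^ s = 1) (hm : Nat.card W = s ^ m) (hzs : z ≠ s)
    (hz : ∀ k, 0 < k → k < m → ¬ z ∣ s ^ k - 1) {d : K} (hd : IsPGroup z (Subgroup.zpowers d))
    (hd1 : d ∉ actKer K W) : fixSub (W := W) ((Subgroup.zpowers d : Subgroup K) : Set K) = ⊥ := by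
  by_contra hne
  set F : Subgroup W := fixSub (W := W) ((Subgroup.zpowers d : Subgroup K) : Set K) with hF
  obtain ⟨i, hi⟩ := exists_pow_card hexp F
  have hfix : Nat.card W ≡ Nat.card F [MOD z] := by
    refine (hd.card_modEq_card_fixedPoints W).trans ?_
    rw [Nat.card_congr (Equiv.subtypeEquivRight fun w => ?_)]
    exact ⟨fun h k hk => h ⟨k, hk⟩, fun h k => h k.1 k.2⟩
  rw [hm, hi] at hfix
  have hi0 : 0 < i := by
    rcases Nat.eq_zero_or_pos i with rfl | h
    · exact absurd (Subgroup.card_eq_one.mp (by simpa using hi)) hne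
    · exact h
  have him : i < m := by
    have h1 : Nat.card F ≤ Nat.card W := Nat.le_of_dvd Nat.card_pos F.card_subgroup_dvd_card
    rw [hm, hi] at h1
    have h2 : i ≤ m := (Nat.pow_le_pow_iff_right (Fact.out : s.Prime).one_lt).mp h1
    rcases h2.eq_or_lt with rfl | h
    · exfalso
      refine hd1 fun w => ?_
      have htop : F = ⊤ := Subgroup.eq_top_of_card_eq _ (by rw [hi, hm])
      exact (show w ∈ F by rw [htop]; trivial) d (Subgroup.mem_zpowers d)
    · exact h
  have h3 : z ∣ s ^ m - s ^ i :=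
    (Nat.modEq_iff_dvd' (Nat.pow_le_pow_right (Fact.out : s.Prime).pos him.le)).mp hfix.symm
  rw [show s ^ m - s ^ i = s ^ i * (s ^ (m - i) - 1) by
    rw [Nat.mul_sub, mul_one, ← pow_add, Nat.add_sub_cancel' him.le]] at h3
  rcases (Fact.out : z.Prime).dvd_mul.mp h3 with h4 | h4
  · exact hzs ((Nat.prime_dvd_prime_iff_eq Fact.out Fact.out).mp
      ((Fact.out : z.Prime).dvd_of_dvd_pow h4))
  · exact hz (m - i) (by omega) (by omega) h4

/-- A commuting element with a fixed vector acts trivially. -/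
theorem mem_actKer_of_commute [Finite W] {s m z : ℕ} [Fact s.Prime] [Fact z.Prime]
    (hexp : ∀ w : W, w ^ s = 1) (hm : Nat.card W = s ^ m) (hzs : z ≠ s)
    (hz : ∀ k, 0 < k → k < m → ¬ z ∣ s ^ k - 1) {d x : K} (hd : IsPGroup z (Subgroup.zpowers d))
    (hd1 : d ∉ actKer K W) (hxd : Commute x d) {w : W} (hw : w ≠ 1) (hxw : x • w = w) :
    x ∈ actKer K W := by
  set C : Subgroup W := fixSub (W := W) ({x} : Set K) with hC
  have hinv : ∀ k ∈ Subgroup.zpowers d, ∀ v ∈ C, k • v ∈ C := by
    intro k hk v hv y hy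
    obtain rfl := Set.mem_singleton_iff.mp hy
    obtain ⟨j, rfl⟩ := hk
    show y • d ^ j • v = d ^ j • v
    rw [smul_smul, (hxd.zpow_right j).eq, mul_smul, show y • v = v from hv y rfl]
  letI : MulAction (Subgroup.zpowers d) C :=
    { smul := fun k v => ⟨(k : K) • (v : W), hinv k k.2 v v.2⟩
      one_smul := fun v => Subtype.ext (one_smul K (v : W))
      mul_smul := fun k l v => Subtype.ext (mul_smul (k : K) (l : K) (v : W)) }
  have hbot := fixSub_eq_bot_of_ppd hexp hm hzs hz hd hd1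
  have hfix : Nat.card C ≡ 1 [MOD z] := by
    refine (hd.card_modEq_card_fixedPoints C).trans ?_
    rw [show Nat.card (fixedPoints (Subgroup.zpowers d) C) = 1 from Nat.card_eq_one_iff_unique.mpr
      ⟨⟨fun u v => Subtype.ext (Subtype.ext ?_)⟩,
        ⟨⟨1, fun k => Subtype.ext (smul_one (k : K))⟩⟩⟩]
    have h1 : ∀ u : fixedPoints (Subgroup.zpowers d) C, ((u.1 : C) : W) = 1 := fun u => by
      have : ((u.1 : C) : W) ∈ fixSub (W := W) ((Subgroup.zpowers d : Subgroup K) : Set K) :=
        fun k hk => congrArg Subtype.val (u.2 ⟨k, hk⟩)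
      rw [hbot] at this
      exact Subgroup.mem_bot.mp this
    rw [h1 u, h1 v]
  obtain ⟨i, hi⟩ := exists_pow_card hexp C
  rw [hi] at hfix
  have h1 : z ∣ s ^ i - 1 := (Nat.modEq_iff_dvd' (Nat.one_le_pow _ _ (Fact.out : s.Prime).pos)).mp hfix.symm
  have hi0 : 0 < i := by
    rcases Nat.eq_zero_or_pos i with rfl | h
    · have hb : C = ⊥ := Subgroup.card_eq_one.mp (by simpa using hi)
      have hwC : w ∈ C := fun y hy => by rw [Set.mem_singleton_iff.mp hy]; exact hxw
      rw [hb] at hwC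
      exact absurd (Subgroup.mem_bot.mp hwC) hw
    · exact h
  have hd2 : Nat.card C ∣ Nat.card W := C.card_subgroup_dvd_card
  rw [hi, hm, Nat.pow_dvd_pow_iff_le_right (Fact.out : s.Prime).one_lt] at hd2
  rcases hd2.eq_or_lt with rfl | hlt
  · have htop : C = ⊤ := Subgroup.eq_top_of_card_eq _ (by rw [hi, hm])
    exact fun v => (show v ∈ C by rw [htop]; trivial) x rfl
  · exact absurd h1 (hz i hi0 hlt)

/-- The moved part of a coprime automorphism. -/
theorem exists_moved [Finite W] {s : ℕ} [Fact s.Prime] (hexp : ∀ w : W, w ^ s = 1) (y : K)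
    (hys : ¬ s ∣ orderOf y) :
    ∃ U : Subgroup W, (∀ u ∈ U, y • u ∈ U) ∧ (∀ x : K, Commute x y → ∀ u ∈ U, x • u ∈ U) ∧
      U ⊓ fixSub (W := W) ({y} : Set K) = ⊥ ∧
      Nat.card U * Nat.card (fixSub (W := W) ({y} : Set K) : Subgroup W) = Nat.card W := by
  let f : W →* W :=
    { toFun := fun w => y • w / w
      map_one' := by rw [smul_one, div_one]
      map_mul' := fun u v => by rw [smul_mul', mul_div_mul_comm] }
  have hker : f.ker = fixSub (W := W) ({y} : Set K) := by
    ext w
    rw [MonoidHom.mem_ker]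
    show y • w / w = 1 ↔ _
    rw [div_eq_one, mem_fixSub]
    exact ⟨fun h k hk => by rw [Set.mem_singleton_iff.mp hk]; exact h, fun h => h y rfl⟩
  refine ⟨f.range, ?_, ?_, ?_, ?_⟩
  · rintro _ ⟨w, rfl⟩
    refine ⟨y • w, ?_⟩
    show y • (y • w) / (y • w) = y • (y • w / w)
    rw [smul_div']
  · rintro x hxy _ ⟨w, rfl⟩
    refine ⟨x • w, ?_⟩
    show y • (x • w) / (x • w) = x • (y • w / w)
    rw [smul_div', smul_smul, smul_smul, hxy.eq]
  · rw [eq_bot_iff]
    rintro _ ⟨⟨w, rfl⟩, hfix⟩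
    set u := y • w / w with hu
    have hyu : y • u = u := hfix y rfl
    have hpow : ∀ j : ℕ, y ^ j • w = w * u ^ j := by
      intro j
      induction j with
      | zero => simp
      | succ j ih =>
        rw [pow_succ', mul_smul, ih, smul_mul', smul_pow', hyu, pow_succ', ← mul_assoc, hu,
          mul_div_cancel]
    have h1 := hpow (orderOf y)
    rw [pow_orderOf_eq_one, one_smul, eq_comm, mul_eq_left] at h1
    have h2 : orderOf u ∣ Nat.gcd (orderOf y) s :=
      Nat.dvd_gcd (orderOf_dvd_of_pow_eq_one h1) (orderOf_dvd_of_pow_eq_one (hexp u))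
    rw [((Fact.out : s.Prime).coprime_iff_not_dvd.mpr hys).symm.gcd_eq_one, Nat.dvd_one,
      orderOf_eq_one_iff] at h2
    exact Subgroup.mem_bot.mpr h2
  · rw [← hker, ← Subgroup.index_ker, Subgroup.index_mul_card]

/-- A Sylow `q`-subgroup of an invariant set of size `s²` moves no vector in its moved part. -/
theorem false_of_card_sq [Finite W] {s : ℕ} [hs : Fact s.Prime] [hb : Fact b.Prime] (hbs : b ≠ s)
    (hexp : ∀ w : W, w ^ s = 1) (hm : Nat.card W = s ^ 2) (h : SylowFix K W b)
    {y : K} (hy : IsPGroup b (Subgroup.zpowers y)) (hy1 : y ∉ actKer K W) {w : W} (hw : w ≠ 1)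
    (hyw : y • w = w) : False := by
  have hys : ¬ s ∣ orderOf y := by
    obtain ⟨j, hj⟩ := IsPGroup.iff_card.mp hy
    rw [← Nat.card_zpowers, hj]
    exact fun e => hbs ((Nat.prime_dvd_prime_iff_eq hs.out hb.out).mp (hs.out.dvd_of_dvd_pow e)).symm
  obtain ⟨U, hinv, -, hdis, hcard⟩ := exists_moved (W := W) hexp y hys
  set C : Subgroup W := fixSub (W := W) ({y} : Set K)
  obtain ⟨i, hi⟩ := exists_pow_card hexp U
  obtain ⟨j, hj⟩ := exists_pow_card hexp C
  rw [hi, hj, hm, ← pow_add] at hcard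
  have hij : i + j = 2 := Nat.pow_right_injective hs.out.two_le hcard
  have hwC : w ∈ C := fun k hk => by rw [Set.mem_singleton_iff.mp hk]; exact hyw
  have hj0 : j ≠ 0 := by
    rintro rfl
    have hb : C = ⊥ := Subgroup.card_eq_one.mp (by simpa using hj)
    rw [hb] at hwC
    exact hw (Subgroup.mem_bot.mp hwC)
  have hi0 : i ≠ 0 := by
    rintro rfl
    apply hy1
    have htop : C = ⊤ := Subgroup.eq_top_of_card_eq _ (by rw [hj, hm, show j = 2 by omega])
    exact fun v => (show v ∈ C by rw [htop]; trivial) y rfl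
  have hU : Nat.card U = s := by rw [hi, show i = 1 by omega, pow_one]
  obtain ⟨u, hu, hu1⟩ := U.bot_or_exists_ne_one.resolve_left (fun e => by
    rw [e, Subgroup.card_bot] at hU; exact hs.out.ne_one hU.symm)
  have hzu : Subgroup.zpowers u = U := Subgroup.eq_of_le_of_card_ge (Subgroup.zpowers_le.mpr hu) (by
    rw [hU, Nat.card_zpowers, orderOf_eq_prime (hexp u) hu1])
  have hyu1 : y • u ≠ 1 := fun e => hu1 (by rw [← inv_smul_smul y u, e, smul_one])
  have hzyu : Subgroup.zpowers (y • u) = U :=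
    Subgroup.eq_of_le_of_card_ge (Subgroup.zpowers_le.mpr (hinv u hu)) (by
      rw [hU, Nat.card_zpowers, orderOf_eq_prime (hexp _) hyu1])
  have hstab : ∀ v : W, stabilizer K v =
      ⟨⟨⟨{k | ∀ t ∈ Subgroup.zpowers v, k • t = t}, fun {k l} hk hl t ht => by
        rw [mul_smul, hl t ht, hk t ht]⟩, fun t _ => one_smul K t⟩, fun {k} hk t ht => by
        rw [inv_smul_eq_iff, hk t ht]⟩ := by
    intro v
    ext k
    refine ⟨fun hk t ht => ?_, fun hk => hk v (Subgroup.mem_zpowers v)⟩
    obtain ⟨l, rfl⟩ := ht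
    show k • v ^ l = v ^ l
    rw [smul_zpow', show k • v = v from hk]
  have heq : stabilizer K (y • u) = stabilizer K u := by
    rw [hstab, hstab u]; simp only [hzu, hzyu]
  have := smul_eq_self_of_stabilizer_eq h hy hu1 heq
  have hmem : u ∈ U ⊓ C := ⟨hu, fun k hk => by rw [Set.mem_singleton_iff.mp hk]; exact this⟩
  rw [hdis] at hmem
  exact hu1 (Subgroup.mem_bot.mp hmem)

/-- An element centralizes the members of a product of coprime commuting elements. -/
theorem mem_zpowers_mul {x y : K} (h : Commute x y) (hc : (orderOf x).Coprime (orderOf y)) :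
    x ∈ Subgroup.zpowers (x * y) := by
  have h1 : (x * y) ^ orderOf y = x ^ orderOf y := by
    rw [h.mul_pow, pow_orderOf_eq_one, mul_one]
  have h2 : x ∈ Subgroup.zpowers (x ^ orderOf y) := by
    have h3 : (Subgroup.zpowers (x ^ orderOf y)) = Subgroup.zpowers x := by
      refine Subgroup.eq_of_le_of_card_ge (Subgroup.zpowers_le.mpr
        (Subgroup.pow_mem _ (Subgroup.mem_zpowers x) _)) ?_
      rw [Nat.card_zpowers, Nat.card_zpowers, orderOf_pow, hc.gcd_eq_one, Nat.div_one]
    rw [h3]; exact Subgroup.mem_zpowers x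
  rw [← h1] at h2
  exact Subgroup.zpowers_le.mpr (Subgroup.pow_mem _ (Subgroup.mem_zpowers _) _) h2

theorem commute_of_le_normalizer [ha : Fact a.Prime] [hb : Fact b.Prime] (hab : a ≠ b)
    (P : Sylow a K) (Q : Sylow b K)
    (h1 : (P : Subgroup K) ≤ Subgroup.normalizer ((Q : Subgroup K) : Set K))
    (h2 : (Q : Subgroup K) ≤ Subgroup.normalizer ((P : Subgroup K) : Set K)) {x y : K}
    (hx : x ∈ (P : Subgroup K)) (hy : y ∈ (Q : Subgroup K)) : Commute x y := by
  have hd : Disjoint (P : Subgroup K) (Q : Subgroup K) :=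
    IsPGroup.disjoint_of_ne a b hab _ _ P.isPGroup' Q.isPGroup'
  have m1 : x * y * x⁻¹ * y⁻¹ ∈ (P : Subgroup K) := by
    rw [show x * y * x⁻¹ * y⁻¹ = x * (y * x⁻¹ * y⁻¹) by group]
    exact (P : Subgroup K).mul_mem hx
      ((Subgroup.mem_normalizer_iff.mp (h2 hy) x⁻¹).mp ((P : Subgroup K).inv_mem hx))
  have m2 : x * y * x⁻¹ * y⁻¹ ∈ (Q : Subgroup K) :=
    (Q : Subgroup K).mul_mem ((Subgroup.mem_normalizer_iff.mp (h1 hx) y).mp hy)
      ((Q : Subgroup K).inv_mem hy)
  have := Subgroup.disjoint_def.mp hd m1 m2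
  exact mul_inv_eq_iff_eq_mul.mp (mul_inv_eq_one.mp this)

section

open CfsgLib.OddOrder Cfsg

/-- In a soluble group with commuting abelian Sylow subgroups for two primes, the Sylow subgroups
of each are conjugate under the core for the remaining primes. -/
theorem exists_core_conj [hK : Group.IsSolvable K] [ha : Fact a.Prime] [hb : Fact b.Prime]
    (A : Sylow a K) (B : Sylow b K) (hA : ∀ x ∈ (A : Subgroup K), ∀ y ∈ (A : Subgroup K), x * y = y * x)
    (hB : ∀ x ∈ (B : Subgroup K), ∀ y ∈ (B : Subgroup K), x * y = y * x)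
    (hAB : ∀ x ∈ (A : Subgroup K), ∀ y ∈ (B : Subgroup K), x * y = y * x) (g : K) :
    ∃ d ∈ piCore {q | q ≠ a ∧ q ≠ b} K, g • A = d • A := by
  classical
  set π : Set ℕ := {q | q ≠ a ∧ q ≠ b} with hπ
  set D := piCore π K with hD
  set f := QuotientGroup.mk' D with hf
  have hsurj := QuotientGroup.mk'_surjective D
  set H : Subgroup K := (A : Subgroup K) ⊔ (B : Subgroup K) with hH
  have hfit : Cfsg.fittingSubgroup (K ⧸ D) ≤ H.map f := by
    rw [CfsgLib.Fitting.fitting_eq_iSup_pCore]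
    refine iSup_le fun ⟨q, hqmem⟩ => ?_
    by_cases hqa : q = a
    · subst hqa
      have := CfsgLib.Fitting.pCore_le_sylow (A.mapSurjective hsurj)
      rw [Sylow.coe_mapSurjective] at this
      exact this.trans (Subgroup.map_mono le_sup_left)
    by_cases hqb : q = b
    · subst hqb
      have := CfsgLib.Fitting.pCore_le_sylow (B.mapSurjective hsurj)
      rw [Sylow.coe_mapSurjective] at this
      exact this.trans (Subgroup.map_mono le_sup_right)
    have hq : q.Prime := Nat.prime_of_mem_primeFactors hqmem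
    have := Fact.mk hq
    set L := (Cfsg.pCore q (K ⧸ D)).comap f with hL
    have hLn : L.Normal := (CfsgLib.Fitting.pCore_normal q).comap f
    have hLπ : PiNat π (Nat.card L) := by
      obtain ⟨j, hj⟩ := IsPGroup.iff_card.mp (CfsgLib.Fitting.pCore_isPGroup (G := K ⧸ D) q)
      rw [← (f.ker.subgroupOf L).card_mul_index, Nat.card_congr (Subgroup.subgroupOfEquivOfLe
          (MonoidHom.ker_le_comap f _)).toEquiv, ← Subgroup.relIndex, Subgroup.relIndex_ker,
        Subgroup.map_comap_eq_self_of_surjective hsurj, hj, QuotientGroup.ker_mk']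
      refine PiNat.mul (piNat_card_piCore π) (fun r hr hrd => ?_)
      rw [(Nat.prime_dvd_prime_iff_eq hr hq).mp (hr.dvd_of_dvd_pow hrd)]
      exact ⟨hqa, hqb⟩
    calc Cfsg.pCore q (K ⧸ D) = L.map f :=
          (Subgroup.map_comap_eq_self_of_surjective hsurj _).symm
      _ ≤ D.map f := Subgroup.map_mono (le_piCore hLn hLπ)
      _ = ⊥ := QuotientGroup.map_mk'_self D
      _ ≤ _ := bot_le
  have hcomm : ∀ x ∈ H, ∀ y ∈ H, x * y = y * x := by
    have h1 : H ≤ Subgroup.centralizer (H : Set K) := by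
      refine sup_le (fun x hx => ?_) (fun x hx => ?_) <;>
        refine Subgroup.mem_centralizer_iff.mpr fun y hy => ?_ <;>
        (have hle : H ≤ Subgroup.centralizer ({x} : Set K) := by
          refine sup_le (fun t ht => ?_) (fun t ht => ?_) <;>
            rw [Subgroup.mem_centralizer_singleton_iff]
          all_goals first
            | exact hA t ht x hx | exact hB t ht x hx | exact hAB t ht x hx | exact (hAB x hx t ht).symm)
      · exact Subgroup.mem_centralizer_singleton_iff.mp (hle hy)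
      · exact Subgroup.mem_centralizer_singleton_iff.mp (hle hy)
    exact fun x hx y hy => (Subgroup.mem_centralizer_iff.mp (h1 hy) x hx)
  have heq : H.map f = Cfsg.fittingSubgroup (K ⧸ D) := by
    refine le_antisymm (le_trans ?_ CfsgLib.Fitting.centralizer_fitting_le) hfit
    rintro _ ⟨x, hx, rfl⟩
    refine Subgroup.mem_centralizer_iff.mpr fun y hy => ?_
    obtain ⟨t, ht, rfl⟩ := hfit hy
    rw [← map_mul, ← map_mul, hcomm t ht x hx]
  have hM : (H ⊔ D).Normal := by
    have h2 : (H ⊔ D) = (H.map f).comap f := by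
      rw [Subgroup.comap_map_eq, hf, QuotientGroup.ker_mk']
    rw [h2, heq]
    exact (CfsgLib.Fitting.fitting_normal).comap f
  have hAM : (A : Subgroup K) ≤ H ⊔ D := le_sup_of_le_left le_sup_left
  have hgA : ((g • A : Sylow a K) : Subgroup K) ≤ H ⊔ D := by
    rintro _ ⟨x, hx, rfl⟩
    exact hM.conj_mem x (hAM hx) g
  obtain ⟨m, hm⟩ := MulAction.exists_smul_eq (H ⊔ D : Subgroup K) (A.subtype hAM) ((g • A).subtype hgA)
  rw [Sylow.smul_subtype] at hm
  have hm' : (m : K) • A = g • A := Sylow.subtype_injective hm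
  obtain ⟨h, hh, d, hd, hhd⟩ := Subgroup.mem_sup_of_normal_right.mp m.2
  refine ⟨h * d * h⁻¹, (inferInstance : D.Normal).conj_mem d hd h, ?_⟩
  have hhA : h • A = A := by
    refine Sylow.smul_eq_iff_mem_normalizer.mpr (Subgroup.mem_normalizer_iff.mpr fun n => ?_)
    have e : ∀ n ∈ (A : Subgroup K), ∀ h ∈ H, h * n * h⁻¹ = n := fun n hn h hh => by
      rw [hcomm h hh n (Subgroup.mem_sup_left hn), mul_inv_cancel_right]
    constructor
    · intro hn; rw [e n hn h hh]; exact hn
    · intro hn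
      have := e _ hn h⁻¹ (H.inv_mem hh)
      rw [show h⁻¹ * (h * n * h⁻¹) * h⁻¹⁻¹ = n by group] at this
      rwa [← this] at hn
  rw [← hm', ← hhd, mul_smul (h * d) h⁻¹, inv_smul_eq_iff.mpr hhA.symm]

end

open CfsgLib.Clifford in
/-- Irreducible degrees see orbit lengths on the characters of a normal subgroup. -/
theorem exists_degree_of_index (N : Subgroup K) [hN : N.Normal] (θ : Cfsg.IrrCharacter N) :
    ∃ χ : Cfsg.IrrCharacter K,
      (inertia hN (θ : N → ℂ)).index ∣ Cfsg.charDegree (χ : K → ℂ) := by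
  classical
  haveI := Fintype.ofFinite K
  haveI := Fintype.ofFinite N
  obtain ⟨χ, hχ⟩ := CfsgLib.NormalRes.exists_mult_ne_zero_of_irr N θ
  refine ⟨χ, ?_⟩
  obtain ⟨e, he⟩ := CfsgLib.NormalRes.mult_nat N (CfsgLib.Characters.irr_isCharacter χ) θ
  have h := clifford_degree hN χ.2 θ.2 hχ
  rw [show Cfsg.classInner (fun n : N => (χ : K → ℂ) n) (θ : N → ℂ) = (e : ℂ) from he,
    CfsgLib.CharCorr.irr_one_eq_charDegree, CfsgLib.CharCorr.irr_one_eq_charDegree] at h
  have h2 : Cfsg.charDegree (χ : K → ℂ) =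
      e * (inertia hN (θ : N → ℂ)).index * Cfsg.charDegree (θ : N → ℂ) := by exact_mod_cast h
  rw [h2]
  exact (dvd_mul_left _ _).mul_right _

/-- A prime not dividing the index of a subgroup containing the core gives a fixing Sylow
subgroup. -/
theorem le_of_not_dvd_index [ha : Fact a.Prime] (A : Sylow a K) (D T : Subgroup K) (hDT : D ≤ T)
    (hconj : ∀ g : K, ∃ d ∈ D, g • A = d • A) (hT : ¬ a ∣ T.index) : (A : Subgroup K) ≤ T := by
  obtain ⟨R⟩ : Nonempty (Sylow a T) := inferInstance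
  have hcard : Nat.card ((R : Subgroup T).map T.subtype) = a ^ (Nat.card K).factorization a := by
    rw [Subgroup.card_map_of_injective T.subtype_injective, R.card_eq_multiplicity]
    congr 1
    rw [← T.card_mul_index, Nat.factorization_mul Nat.card_pos.ne' Subgroup.index_ne_zero_of_finite,
      Finsupp.add_apply, Nat.factorization_eq_zero_of_not_dvd hT, add_zero]
  obtain ⟨g, hg⟩ := MulAction.exists_smul_eq K A
    (Sylow.ofCard ((R : Subgroup T).map T.subtype) hcard)
  obtain ⟨d, hd, hdA⟩ := hconj g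
  intro x hx
  have h1 : d * x * d⁻¹ ∈ T := by
    have h2 : d * x * d⁻¹ ∈ ((d • A : Sylow a K) : Subgroup K) := ⟨x, hx, rfl⟩
    rw [← hdA, hg, Sylow.coe_ofCard] at h2
    exact Subgroup.map_subtype_le _ h2
  have := T.mul_mem (T.mul_mem (T.inv_mem (hDT hd)) h1) (hDT hd)
  simpa [mul_assoc] using this

open CfsgLib.Clifford CfsgLib.OddChar in
/-- Two operators moving one class of a normal subgroup move a common character. -/
theorem exists_moved_irr (D : Subgroup K) [hD : D.Normal] {x y : K} (hxy : Commute x y)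
    (hc : (orderOf x).Coprime (orderOf y)) (d : D)
    (hx : ¬ IsConj (⟨x * d * x⁻¹, hD.conj_mem d d.2 x⟩ : D) d)
    (hy : ¬ IsConj (⟨y * d * y⁻¹, hD.conj_mem d d.2 y⟩ : D) d) :
    ∃ θ : Cfsg.IrrCharacter D, x ∉ inertia hD (θ : D → ℂ) ∧ y ∉ inertia hD (θ : D → ℂ) := by
  classical
  haveI : Fintype (Cfsg.IrrCharacter D) := Fintype.ofFinite _
  haveI : Fintype (ConjClasses D) := Fintype.ofFinite _
  let S : ConjClasses D → Subgroup K := fun c =>
    { carrier := {k | ConjClasses.map (MulAut.conjNormal (H := D) k).toMonoidHom c = c}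
      one_mem' := by
        obtain ⟨t, rfl⟩ := ConjClasses.exists_rep c
        show ConjClasses.mk _ = _
        simp
      mul_mem' := fun {k l} hk hl => by
        obtain ⟨t, rfl⟩ := ConjClasses.exists_rep c
        show ConjClasses.mk (MulAut.conjNormal (H := D) (k * l) t) = ConjClasses.mk t
        rw [map_mul, MulAut.mul_apply]
        refine Eq.trans ?_ (show ConjClasses.map _ _ = _ from hk)
        show _ = ConjClasses.mk (MulAut.conjNormal (H := D) k t)
        exact congrArg (ConjClasses.map (MulAut.conjNormal (H := D) k).toMonoidHom)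
          (show ConjClasses.mk (MulAut.conjNormal (H := D) l t) = ConjClasses.mk t from hl)
      inv_mem' := fun {k} hk => by
        obtain ⟨t, rfl⟩ := ConjClasses.exists_rep c
        have h1 := congrArg (ConjClasses.map (MulAut.conjNormal (H := D) k⁻¹).toMonoidHom)
          (show ConjClasses.mk (MulAut.conjNormal (H := D) k t) = ConjClasses.mk t from hk)
        show ConjClasses.mk (MulAut.conjNormal (H := D) k⁻¹ t) = ConjClasses.mk t
        refine Eq.trans h1.symm ?_
        show ConjClasses.mk _ = _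
        simp }
  have hS : ∀ (k : K) (c : ConjClasses D), k ∈ S c ↔ ∀ t : D, ConjClasses.mk t = c →
      ConjClasses.mk (⟨k * t * k⁻¹, hD.conj_mem t t.2 k⟩ : D) = c := by
    intro k c
    refine ⟨fun hk t ht => ?_, fun h => ?_⟩
    · subst ht
      exact Eq.trans (congrArg ConjClasses.mk (Subtype.ext rfl)) hk
    · obtain ⟨t, rfl⟩ := ConjClasses.exists_rep c
      exact Eq.trans (congrArg ConjClasses.mk (Subtype.ext rfl)) (h t rfl)
  have hcount : ∀ k : K, (Finset.univ.filter fun θ : Cfsg.IrrCharacter D =>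
      k ∈ inertia hD (θ : D → ℂ)).card = (Finset.univ.filter fun c => k ∈ S c).card := by
    intro k
    have h := card_fixed_irr_conj D k
    rw [Nat.card_eq_fintype_card, Fintype.card_subtype, Nat.card_eq_fintype_card,
      Fintype.card_subtype] at h
    calc _ = _ := congrArg Finset.card (Finset.filter_congr fun θ _ => mem_inertia)
      _ = _ := h
      _ = _ := congrArg Finset.card (Finset.filter_congr fun c _ => (hS k c).symm)
  have hboth : ∀ (T : Subgroup K), (x ∈ T ∧ y ∈ T) ↔ x * y ∈ T := fun T =>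
    ⟨fun h => T.mul_mem h.1 h.2, fun h => ⟨Subgroup.zpowers_le.mpr h (mem_zpowers_mul hxy hc),
      Subgroup.zpowers_le.mpr h (by rw [hxy.eq]; exact mem_zpowers_mul hxy.symm hc.symm)⟩⟩
  by_contra hno
  push Not at hno
  have hall : (Finset.univ.filter fun θ : Cfsg.IrrCharacter D => x ∈ inertia hD (θ : D → ℂ) ∨
      y ∈ inertia hD (θ : D → ℂ)) = Finset.univ := by
    refine Finset.eq_univ_of_forall fun θ => Finset.mem_filter.mpr ⟨Finset.mem_univ _, ?_⟩
    by_cases h : x ∈ inertia hD (θ : D → ℂ)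
    · exact Or.inl h
    · exact Or.inr (hno θ h)
  have e1 := Finset.card_union_add_card_inter
    (Finset.univ.filter fun θ : Cfsg.IrrCharacter D => x ∈ inertia hD (θ : D → ℂ))
    (Finset.univ.filter fun θ : Cfsg.IrrCharacter D => y ∈ inertia hD (θ : D → ℂ))
  have e2 := Finset.card_union_add_card_inter
    (Finset.univ.filter fun c => x ∈ S c) (Finset.univ.filter fun c => y ∈ S c)
  have f1 : (Finset.univ.filter fun θ : Cfsg.IrrCharacter D => x ∈ inertia hD (θ : D → ℂ) ∧
      y ∈ inertia hD (θ : D → ℂ)) = Finset.univ.filter fun θ : Cfsg.IrrCharacter D =>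
        x * y ∈ inertia hD (θ : D → ℂ) :=
    Finset.filter_congr fun θ _ => hboth _
  rw [← Finset.filter_or, ← Finset.filter_and, f1, hcount x, hcount y, hcount (x * y), hall] at e1
  rw [← Finset.filter_or, ← Finset.filter_and, Finset.filter_congr (fun c _ => hboth (S c))] at e2
  have e3 := hcount 1
  rw [Finset.filter_true_of_mem (fun θ _ => (inertia hD _).one_mem),
    Finset.filter_true_of_mem (fun c _ => (S c).one_mem)] at e3
  have hlt : (Finset.univ.filter fun c => x ∈ S c ∨ y ∈ S c).card <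
      (Finset.univ : Finset (ConjClasses D)).card := by
    refine Finset.card_lt_card (Finset.filter_ssubset.mpr ⟨ConjClasses.mk d, Finset.mem_univ _, ?_⟩)
    rintro (h | h)
    · exact hx (ConjClasses.mk_eq_mk_iff_isConj.mp ((hS x _).mp h d rfl))
    · exact hy (ConjClasses.mk_eq_mk_iff_isConj.mp ((hS y _).mp h d rfl))
  omega

/-- The case of sixty-four vectors. -/
theorem false_of_card_64 [Finite W] [ha : Fact a.Prime] [hb : Fact b.Prime] (hab : a ≠ b)
    (hb2 : b ≠ 2) (ha3 : a ≠ 3) (hb3 : b ≠ 3) (hexp : ∀ w : W, w ^ 2 = 1) (hm : Nat.card W = 64)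
    (P : Sylow a K) (hP : Nat.card (fixSub (W := W) ((P : Subgroup K) : Set K) : Subgroup W) ≤ 8)
    {y : K} (hy : IsPGroup b (Subgroup.zpowers y)) (hy1 : y ∉ actKer K W)
    (hcomm : ∀ x ∈ (P : Subgroup K), Commute x y) {w : W} (hw : w ≠ 1) (hyw : y • w = w)
    (hPw : (P : Subgroup K) ≤ stabilizer K w) : False := by
  classical
  haveI : Fact (2 : ℕ).Prime := ⟨Nat.prime_two⟩
  have hys : ¬ 2 ∣ orderOf y := by
    obtain ⟨j, hj⟩ := IsPGroup.iff_card.mp hy
    rw [← Nat.card_zpowers, hj]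
    exact fun e => hb2 ((Nat.prime_dvd_prime_iff_eq Nat.prime_two hb.out).mp
      (Nat.prime_two.dvd_of_dvd_pow e)).symm
  obtain ⟨U, hinv, hinvc, hdis, hcard⟩ := exists_moved (W := W) hexp y hys
  set C : Subgroup W := fixSub (W := W) ({y} : Set K) with hC
  have hwC : w ∈ C := fun k hk => by rw [Set.mem_singleton_iff.mp hk]; exact hyw
  have hC1 : 1 < Nat.card C := C.one_lt_card_iff_ne_bot.mpr
    (fun e => hw (Subgroup.mem_bot.mp (e ▸ hwC)))
  have hU1 : Nat.card U ≠ 1 := by
    intro e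
    rw [e, one_mul] at hcard
    exact hy1 fun v => (show v ∈ C by rw [Subgroup.eq_top_of_card_eq C hcard]; trivial) y rfl
  have hyfix : ∀ u ∈ U, y • u = u → u = 1 := fun u hu e => by
    have : u ∈ U ⊓ C := ⟨hu, fun k hk => by rw [Set.mem_singleton_iff.mp hk]; exact e⟩
    rw [hdis] at this
    exact Subgroup.mem_bot.mp this
  have hinvz : ∀ {z : K} (V : Subgroup W), (∀ u ∈ V, z • u ∈ V) →
      ∀ k ∈ Subgroup.zpowers z, ∀ u ∈ V, k • u ∈ V := by
    intro z V hz k hk u hu
    obtain ⟨j, hj⟩ := mem_powers_iff_mem_zpowers.mpr hk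
    subst hj
    induction j with
    | zero => simpa using hu
    | succ j ih =>
      show z ^ (j + 1) • u ∈ V
      rw [pow_succ', mul_smul]
      exact hz _ (ih (Subgroup.pow_mem _ (Subgroup.mem_zpowers z) j))
  have hmod : ∀ {p : ℕ} [Fact p.Prime] {z : K} (V : Subgroup W), IsPGroup p (Subgroup.zpowers z) →
      (∀ u ∈ V, z • u ∈ V) → (∀ u ∈ V, z • u = u → u = 1) → Nat.card V ≡ 1 [MOD p] := by
    intro p _ z V hz hzinv hzfix
    letI : MulAction (Subgroup.zpowers z) V :=
      { smul := fun k v => ⟨(k : K) • (v : W), hinvz V hzinv k k.2 v v.2⟩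
        one_smul := fun v => Subtype.ext (one_smul K (v : W))
        mul_smul := fun k l v => Subtype.ext (mul_smul (k : K) (l : K) (v : W)) }
    refine (hz.card_modEq_card_fixedPoints V).trans ?_
    rw [show Nat.card (fixedPoints (Subgroup.zpowers z) V) = 1 from Nat.card_eq_one_iff_unique.mpr
      ⟨⟨fun u v => Subtype.ext (Subtype.ext ?_)⟩,
        ⟨⟨1, fun k => Subtype.ext (smul_one (k : K))⟩⟩⟩]
    rw [hzfix _ u.1.2 (congrArg Subtype.val (u.2 ⟨z, Subgroup.mem_zpowers z⟩)),
      hzfix _ v.1.2 (congrArg Subtype.val (v.2 ⟨z, Subgroup.mem_zpowers z⟩))]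
  obtain ⟨i, hi⟩ := exists_pow_card hexp U
  have hmodU := hmod U hy hinv hyfix
  rw [hi] at hmodU
  have hi5 : i ≤ 5 := by
    have h1 : Nat.card U * 2 ≤ 64 := by
      rw [← hm, ← hcard]; exact Nat.mul_le_mul_left _ hC1
    rw [hi] at h1
    by_contra h2
    have := Nat.pow_le_pow_right (show 0 < 2 by norm_num) (show 6 ≤ i by omega)
    omega
  have hdvd : b ∣ 2 ^ i - 1 := (Nat.modEq_iff_dvd' Nat.one_le_two_pow).mp hmodU.symm
  have hcases : (i = 3 ∧ b = 7) ∨ (i = 4 ∧ b = 5) ∨ (i = 5 ∧ b = 31) := by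
    have hi0 : i ≠ 0 := by rintro rfl; exact hU1 (by simpa using hi)
    have hle := Nat.le_of_dvd (by have := Nat.one_lt_two_pow hi0; omega) hdvd
    have hb31 : b ≤ 31 := hle.trans
      (by have := Nat.pow_le_pow_right (show 0 < 2 by norm_num) hi5; omega)
    have hbp := hb.out
    interval_cases i <;> norm_num at hle <;> interval_cases b <;>
      first | omega | (exfalso; revert hbp; norm_num)
  have hyV : ∀ V : Subgroup W, V ≤ U → (∀ u ∈ V, y • u ∈ V) → V = ⊥ ∨ V = U := by
    intro V hVU hV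
    obtain ⟨j, hj⟩ := exists_pow_card hexp V
    have hji : j ≤ i := by
      have := Subgroup.card_le_of_le hVU
      rw [hi, hj] at this
      exact (Nat.pow_le_pow_iff_right (by norm_num)).mp this
    rcases hji.eq_or_lt with rfl | hlt
    · exact Or.inr (Subgroup.eq_of_le_of_card_ge hVU (by rw [hi, hj]))
    left
    have h1 := hmod V hy hV (fun u hu => hyfix u (hVU hu))
    rw [hj] at h1
    have h2 := (Nat.modEq_iff_dvd' Nat.one_le_two_pow).mp h1.symm
    refine Subgroup.card_eq_one.mp (hj.trans ?_)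
    rcases hcases with ⟨rfl, rfl⟩ | ⟨rfl, rfl⟩ | ⟨rfl, rfl⟩ <;>
      interval_cases j <;> first | rfl | (exfalso; revert h2; decide)
  have hall : ∀ x ∈ (P : Subgroup K), ∀ u ∈ U, x • u = u := by
    intro x hx
    set V : Subgroup W := U ⊓ fixSub (W := W) ({x} : Set K) with hV
    have hVy : ∀ u ∈ V, y • u ∈ V := fun u hu => ⟨hinv u hu.1, fun k hk => by
      rw [Set.mem_singleton_iff.mp hk, smul_smul, (hcomm x hx).eq, mul_smul, hu.2 x rfl]⟩
    rcases hyV V inf_le_left hVy with h | h
    · exfalso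
      have hxU : ∀ u ∈ U, x • u ∈ U := hinvc x (hcomm x hx)
      have h1 := hmod U (isPGroup_zpowers hx) hxU (fun u hu e => by
        have : u ∈ V := ⟨hu, fun k hk => by rw [Set.mem_singleton_iff.mp hk]; exact e⟩
        rw [h] at this
        exact Subgroup.mem_bot.mp this)
      rw [hi] at h1
      have h2 := (Nat.modEq_iff_dvd' Nat.one_le_two_pow).mp h1.symm
      rcases hcases with ⟨rfl, rfl⟩ | ⟨rfl, rfl⟩ | ⟨rfl, rfl⟩ <;> norm_num at h2
      · exact hab ((Nat.prime_dvd_prime_iff_eq ha.out (by norm_num)).mp h2)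
      · rcases (Nat.Prime.dvd_mul ha.out).mp (show a ∣ 3 * 5 by norm_num; exact h2) with h3 | h3
        · exact ha3 ((Nat.prime_dvd_prime_iff_eq ha.out (by norm_num)).mp h3)
        · exact hab ((Nat.prime_dvd_prime_iff_eq ha.out (by norm_num)).mp h3)
      · exact hab ((Nat.prime_dvd_prime_iff_eq ha.out (by norm_num)).mp h2)
    · intro u hu
      rw [← h] at hu
      exact hu.2 x rfl
  have h8 : 8 ≤ Nat.card U := by
    rw [hi]; rcases hcases with ⟨rfl, -⟩ | ⟨rfl, -⟩ | ⟨rfl, -⟩ <;> norm_num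
  set F : Subgroup W := fixSub (W := W) ((P : Subgroup K) : Set K) with hF
  have hwU : w ∉ U := fun h => hw (hyfix w h hyw)
  have hlt : U < F := lt_of_le_of_ne (fun u hu x hx => hall x hx u hu) (fun e => hwU (by
    rw [e]; exact fun x hx => hPw hx))
  have := Subgroup.card_le_of_le hlt.le
  have hne : Nat.card U ≠ Nat.card F := fun e =>
    hlt.ne (Subgroup.eq_of_le_of_card_ge hlt.le e.ge)
  omega

set_option maxHeartbeats 1000000 in
/-- **Sylow fixing actions.** If every non-trivial vector is fixed by Sylow subgroups for two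
primes, normal and abelian in the stabilizer, and no degree is divisible by both primes, then the
Sylow subgroups for one of the two primes are normal. -/
theorem normal_or_normal [hK : Group.IsSolvable K] [Finite W] [Nontrivial W] {s : ℕ}
    [hs : Fact s.Prime] [ha : Fact a.Prime] [hb : Fact b.Prime] (hab : a ≠ b)
    (hexp : ∀ w : W, w ^ s = 1) (hA : SylowFix K W a) (hB : SylowFix K W b)
    (hdeg : ∀ χ : Cfsg.IrrCharacter K, ¬ a * b ∣ Cfsg.charDegree (χ : K → ℂ)) :
    (∀ P : Sylow a K, (P : Subgroup K).Normal) ∨ (∀ P : Sylow b K, (P : Subgroup K).Normal) := by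
  classical
  by_contra hne
  rw [not_or] at hne
  obtain ⟨hnA, hnB⟩ := hne
  have hnormal : ∀ {p : ℕ} [Fact p.Prime] (P : Sylow p K), (P : Subgroup K).Normal →
      ∀ Q : Sylow p K, (Q : Subgroup K).Normal := fun P hP Q => by
    haveI := P.unique_of_normal hP
    rw [Subsingleton.elim Q P]; exact hP
  obtain ⟨w₀, hw₀⟩ := exists_ne (1 : W)
  obtain ⟨A, hAw, hAn, hAab⟩ := hA w₀ hw₀
  obtain ⟨B, hBw, hBn, hBab⟩ := hB w₀ hw₀
  have hcomm : ∀ x ∈ (A : Subgroup K), ∀ y ∈ (B : Subgroup K), x * y = y * x := fun x hx y hy =>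
    commute_of_le_normalizer hab A B (hAw.trans hBn) (hBw.trans hAn) hx hy
  have hconjA := exists_core_conj A B hAab hBab hcomm
  have hconjB := exists_core_conj B A hBab hAab fun y hy x hx => (hcomm x hx y hy).symm
  set π : Set ℕ := {q | q ≠ a ∧ q ≠ b} with hπ
  rw [show ({q | q ≠ b ∧ q ≠ a} : Set ℕ) = π from Set.ext fun q => and_comm] at hconjB
  set D := Cfsg.piCore π K with hD
  haveI hDn : D.Normal := Cfsg.piCore_normal π K
  have hDπ := CfsgLib.OddOrder.piNat_card_piCore (G := K) π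
  obtain ⟨x, hxA, hxker⟩ : ∃ x ∈ (A : Subgroup K), x ∉ actKer K W := by
    by_contra h
    push Not at h
    exact hnA (hnormal A (normal_of_le_actKer hA A h))
  obtain ⟨y, hyB, hyker⟩ : ∃ y ∈ (B : Subgroup K), y ∉ actKer K W := by
    by_contra h
    push Not at h
    exact hnB (hnormal B (normal_of_le_actKer hB B h))
  obtain ⟨m, hm⟩ := exists_pow_card hexp (⊤ : Subgroup W)
  rw [Subgroup.card_top] at hm
  -- the counting of the Sylow subgroups
  have hcount : ∀ {p : ℕ} [Fact p.Prime] (P : Sylow p K), SylowFix K W p →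
      ¬ (∀ Q : Sylow p K, (Q : Subgroup K).Normal) → (P : Subgroup K) ≤ stabilizer K w₀ →
      (∀ g : K, ∃ d ∈ D, g • P = d • P) →
      ∃ c, 0 < c ∧ c < m ∧ Nat.card (fixSub (W := W) ((P : Subgroup K) : Set K) : Subgroup W) = s ^ c ∧
        Nat.card (Sylow p K) * (s ^ c - 1) = s ^ m - 1 ∧
        Nat.card (Sylow p K) ∣ ((actKer K W).subgroupOf D).index := by
    intro p _ P hP hnP hPw hconj
    obtain ⟨c, hc⟩ := exists_pow_card hexp (fixSub (W := W) ((P : Subgroup K) : Set K))
    have hw : w₀ ∈ fixSub (W := W) ((P : Subgroup K) : Set K) := fun k hk => hPw hk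
    have hc0 : 0 < c := by
      rcases Nat.eq_zero_or_pos c with rfl | h
      · exact absurd (Subgroup.mem_bot.mp
          ((Subgroup.card_eq_one.mp (by simpa using hc)) ▸ hw)) hw₀
      · exact h
    refine ⟨c, hc0, ?_, hc, ?_, ?_⟩
    · have h1 : s ^ c ∣ s ^ m := by rw [← hc, ← hm]; exact Subgroup.card_subgroup_dvd_card _
      rcases ((Nat.pow_dvd_pow_iff_le_right hs.out.one_lt).mp h1).eq_or_lt with rfl | h
      · refine absurd (hnormal P (normal_of_le_actKer hP P fun k hk v => ?_)) hnP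
        have htop : fixSub (W := W) ((P : Subgroup K) : Set K) = ⊤ :=
          Subgroup.eq_top_of_card_eq _ (hc.trans hm.symm)
        exact (show v ∈ fixSub (W := W) ((P : Subgroup K) : Set K) by rw [htop]; trivial) k hk
      · exact h
    · rw [← hm, card_sub_one hP P, hc]
    · have horb : orbit D P = Set.univ := Set.eq_univ_of_forall fun Q => by
        obtain ⟨g, rfl⟩ := MulAction.exists_smul_eq K P Q
        obtain ⟨d, hd, hgd⟩ := hconj g
        exact ⟨⟨d, hd⟩, hgd.symm⟩
      have h1 := MulAction.index_stabilizer (G := D) P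
      rw [horb, Set.ncard_univ] at h1
      rw [← h1]
      refine Subgroup.index_dvd_of_le fun d hd => ?_
      refine eq_of_fix hP hw₀ _ _ ?_ hPw
      rw [show w₀ = (d : K) • w₀ from ((Subgroup.mem_subgroupOf.mp hd) w₀).symm]
      exact smul_subgroup_le (d : K) hPw
  obtain ⟨cA, hcA0, hcAm, hcA, hnA1, hnA2⟩ := hcount A hA hnA hAw hconjA
  obtain ⟨cB, hcB0, hcBm, hcB, hnB1, hnB2⟩ := hcount B hB hnB hBw hconjB
  rcases eq_or_ne m 2 with rfl | hm2
  · rcases eq_or_ne b s with hbs | hbs
    · exact false_of_card_sq (hbs ▸ hab : a ≠ s) hexp hm hA (isPGroup_zpowers hxA) hxker hw₀ (hAw hxA)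
    · exact false_of_card_sq hbs hexp hm hB (isPGroup_zpowers hyB) hyker hw₀ (hBw hyB)
  by_cases h26 : s = 2 ∧ m = 6
  · obtain ⟨rfl, rfl⟩ := h26
    have h3 : ∀ {c n : ℕ}, 0 < c → c < 6 → n * (2 ^ c - 1) = 2 ^ 6 - 1 → c ≤ 3 ∧ 3 ∣ n := by
      intro c n h0 h6 h
      interval_cases c <;> norm_num at h <;> omega
    obtain ⟨hcA3, h3n⟩ := h3 hcA0 hcAm hnA1
    obtain ⟨hcB3, -⟩ := h3 hcB0 hcBm hnB1
    have h3D : 3 ∣ Nat.card D :=
      (h3n.trans hnA2).trans (((actKer K W).subgroupOf D).index_dvd_card)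
    obtain ⟨h3a, h3b⟩ := hDπ 3 Nat.prime_three h3D
    have hle : ∀ {c : ℕ}, c ≤ 3 → 2 ^ c ≤ 8 := fun h => by
      simpa using Nat.pow_le_pow_right (show 0 < 2 by norm_num) h
    rcases eq_or_ne b 2 with hb2 | hb2
    · exact false_of_card_64 (Ne.symm hab) (by omega) (Ne.symm h3b) (Ne.symm h3a) hexp hm B
        (hcB ▸ hle hcB3) (isPGroup_zpowers hxA) hxker
        (fun k hk => (hcomm x hxA k hk).symm) hw₀ (hAw hxA) hBw
    · exact false_of_card_64 hab hb2 (Ne.symm h3a) (Ne.symm h3b) hexp hm A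
        (hcA ▸ hle hcA3) (isPGroup_zpowers hyB) hyker (fun k hk => hcomm k hk y hyB) hw₀ (hBw hyB) hAw
  -- a primitive prime divisor
  have hm3 : 2 < m := by omega
  obtain ⟨z, hz⟩ := CfsgLib.NumberTheory.exists_isPPD_of_two_lt hs.out.one_lt hm3 h26
  haveI : Fact z.Prime := ⟨hz.prime⟩
  have hzs : z ≠ s := fun e => hz.not_dvd_base hs.out.one_lt.le (by omega) (e ▸ dvd_rfl)
  have hzk : ∀ k, 0 < k → k < m → ¬ z ∣ s ^ k - 1 := fun k hk hkm h => by
    have := Nat.le_of_dvd hk ((hz.dvd_pow_sub_one_iff hs.out.one_lt.le (by omega) k).mp h)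
    omega
  have hzidx : z ∣ ((actKer K W).subgroupOf D).index := by
    refine (((Fact.out : z.Prime).dvd_mul.mp ?_).resolve_right (hzk cA hcA0 hcAm)).trans hnA2
    rw [hnA1]
    exact hz.2.1
  obtain ⟨d, hdp, hdker⟩ : ∃ d : D, IsPGroup z (Subgroup.zpowers (d : K)) ∧ (d : K) ∉ actKer K W := by
    obtain ⟨R⟩ : Nonempty (Sylow z D) := inferInstance
    by_contra h
    push Not at h
    refine R.not_dvd_index (hzidx.trans (Subgroup.index_dvd_of_le fun r hr => ?_))
    refine Subgroup.mem_subgroupOf.mpr (h r ?_)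
    have := (R.isPGroup'.map D.subtype).to_le (Subgroup.zpowers_le.mpr ⟨r, hr, rfl⟩)
    exact this
  have hne : ∀ {p : ℕ} [Fact p.Prime] (P : Sylow p K) {k : K}, (P : Subgroup K) ≤ stabilizer K w₀ →
      k ∈ (P : Subgroup K) → k ∉ actKer K W → (p = a ∨ p = b) →
      ¬ IsConj (⟨k * d * k⁻¹, hDn.conj_mem d d.2 k⟩ : D) d := by
    intro p hp P k hPw hk hkker hpab hconj
    obtain ⟨e, he⟩ := isConj_iff.mp hconj
    have he' : (e : K) * (k * d * k⁻¹) * (e : K)⁻¹ = d := congrArg Subtype.val he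
    have hcop : (Nat.card (Subgroup.zpowers k)).Coprime (Nat.card D) := by
      obtain ⟨j, hj⟩ := IsPGroup.iff_card.mp (isPGroup_zpowers hk)
      rw [hj]
      refine Nat.Coprime.pow_left _ (hp.out.coprime_iff_not_dvd.mpr fun hd => ?_)
      have := hDπ p hp.out hd
      rcases hpab with rfl | rfl
      · exact this.1 rfl
      · exact this.2 rfl
    letI act : MulAction K K := MulAction.compHom K (MulAut.conj : K →* MulAut K)
    letI : SMul K K := act.toSMul
    have hsm : ∀ g t : K, g • t = g * t * g⁻¹ := fun g t => rfl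
    have hfix : ∀ g ∈ Subgroup.zpowers k, ∃ t ∈ D, t • (d : K) = g • (d : K) := by
      intro g hg
      obtain ⟨j, rfl⟩ := (mem_powers_iff_mem_zpowers.mpr hg)
      induction j with
      | zero => exact ⟨1, D.one_mem, by simp⟩
      | succ j ih =>
        obtain ⟨t, ht, htd⟩ := ih (Subgroup.pow_mem _ (Subgroup.mem_zpowers k) j)
        refine ⟨k * t * k⁻¹ * (e : K)⁻¹, D.mul_mem (hDn.conj_mem t ht k) (D.inv_mem e.2), ?_⟩
        show (k * t * k⁻¹ * (e : K)⁻¹) • (d : K) = k ^ (j + 1) • (d : K)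
        have hed : (e : K)⁻¹ • (d : K) = k • (d : K) := by
          rw [inv_smul_eq_iff, smul_smul, hsm, mul_inv_rev]; simpa [mul_assoc] using he'.symm
        rw [mul_smul, hed, ← mul_smul, inv_mul_cancel_right, mul_smul, htd, ← mul_smul, pow_succ']
    obtain ⟨t, ht, htfix⟩ := CfsgLib.Coprime.exists_fixed_point (Subgroup.zpowers k) D
      Subgroup.le_normalizer_of_normal hcop (Or.inl inferInstance) (d : K) hfix
    set d' : K := t • (d : K) with hd'
    have hkd : Commute k d' := mul_inv_eq_iff_eq_mul.mp ((hsm k d').symm.trans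
      (htfix k (Subgroup.mem_zpowers k)))
    have hd'p : IsPGroup z (Subgroup.zpowers d') := by
      have := hdp.map (MulAut.conj t).toMonoidHom
      rwa [MonoidHom.map_zpowers] at this
    have hd'ker : d' ∉ actKer K W := fun h => hdker (by
      have := (actKer_normal (K := K) (W := W)).conj_mem _ h t⁻¹
      rwa [hd', hsm, show t⁻¹ * (t * d * t⁻¹) * t⁻¹⁻¹ = (d : K) by group] at this)
    exact hkker (mem_actKer_of_commute hexp hm hzs hzk hd'p hd'ker hkd hw₀ (hPw hk))
  have hcopxy : (orderOf x).Coprime (orderOf y) := by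
    obtain ⟨i, hi⟩ := IsPGroup.iff_card.mp (isPGroup_zpowers hxA)
    obtain ⟨j, hj⟩ := IsPGroup.iff_card.mp (isPGroup_zpowers hyB)
    rw [← Nat.card_zpowers, ← Nat.card_zpowers, hi, hj]
    exact Nat.Coprime.pow _ _ ((Nat.coprime_primes ha.out hb.out).mpr hab)
  obtain ⟨θ, hθx, hθy⟩ := exists_moved_irr D (hcomm x hxA y hyB) hcopxy d
    (hne A hAw hxA hxker (Or.inl rfl)) (hne B hBw hyB hyker (Or.inr rfl))
  have hle := CfsgLib.Clifford.le_inertia hDn (CfsgLib.Characters.irr_isClassFunction θ)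
  obtain ⟨χ, hχ⟩ := exists_degree_of_index D θ
  refine hdeg χ (dvd_trans ?_ hχ)
  refine ((Nat.coprime_primes ha.out hb.out).mpr hab).mul_dvd_of_dvd_of_dvd ?_ ?_
  · exact by_contra fun h => hθx (le_of_not_dvd_index A D _ hle hconjA h hxA)
  · exact by_contra fun h => hθy (le_of_not_dvd_index B D _ hle hconjB h hyB)

end CfsgLib.Palfy80
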